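import Cfsg.Agent.Lib.Lie.MultExc.OEightTwo.Table
import Cfsg.Agent.Lib.Spor.SchurCert.LinPacked

/-!
The certificate at the prime 2: a polycyclic sequence of a Sylow subgroup and conjugations.
-/

set_option autoImplicit false
set_option maxRecDepth 100000
set_option maxHeartbeats 0

namespace CfsgLib.Lie.MultExc.OEightTwo.P2

open CfsgLib.Spor.SchurCert

/-- The Sylow elements. -/
def sw : List (List ℕ) := [
    [174, 254, 356, 344, 350, 362],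
    [113, 224, 315, 299, 370, 377],
    [97, 259, 328, 355, 369, 377],
    [95, 209, 312, 367, 362],
    [175, 190, 357, 367],
    [125, 241, 273, 357, 368, 376, 362],
    [164, 186, 315, 355, 343],
    [113, 206, 281, 299, 343, 376, 362],
    [94, 251, 277, 357, 367, 350],
    [107, 243, 326, 357, 367],
    [22, 179, 279, 355, 369, 377],
    [111, 204, 308, 355, 344, 350, 362]]

/-- The conjugating elements. -/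
def gw : List (List ℕ) := [
    [116, 206, 266, 332, 344, 362],
    [114, 203, 313, 337, 362],
    [151, 356, 376],
    [73, 242, 323, 291, 350, 362],
    [52, 314, 332, 343, 376],
    [88, 224, 312, 291, 370],
    [89, 210, 284, 367, 350, 362],
    [166, 184, 279, 356, 369, 377],
    [66, 208, 321, 299, 370, 376, 362],
    [105, 211, 311, 355, 368],
    [105, 201, 322, 356, 368, 350, 362],
    [155, 227, 310, 291, 376],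
    [173, 237, 311, 368, 350, 362],
    [119, 179, 315, 299, 370, 376, 362],
    [155, 240, 310, 291, 368],
    [157, 211, 313, 354, 369, 377],
    [86, 217, 304, 354, 344, 377],
    [4, 190, 275, 357, 337],
    [93, 200, 330, 355, 343, 362],
    [35, 215, 304, 357, 367, 362],
    [35, 253, 328, 299, 370],
    [165, 241, 304, 291, 367],
    [159, 193, 284, 299, 343, 362],
    [113, 230, 277, 299, 367, 377, 362]]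

/-- The certificate. -/
def cert : CfsgLib.Spor.SchurCert.Cert where
  p := 2
  m := 12
  N := 8
  rules := [
    ([0, 0], [2, 4, 6, 7, 9, 10]),
    ([1, 1], [11]),
    ([2, 2], [11]),
    ([3, 3], [5, 6, 7, 9, 10]),
    ([4, 4], [9]),
    ([5, 5], [10, 11]),
    ([6, 6], []),
    ([7, 7], [11]),
    ([8, 8], []),
    ([9, 9], []),
    ([10, 10], []),
    ([11, 11], []),
    ([1, 0], [0, 1, 2, 4, 5, 11]),
    ([2, 0], [0, 2, 5, 6, 7, 8, 9]),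
    ([2, 1], [1, 2, 11]),
    ([3, 0], [0, 3, 4, 6, 8, 10, 11]),
    ([3, 1], [1, 3, 4, 5, 7, 8, 9]),
    ([3, 2], [2, 3, 5, 6, 7, 10, 11]),
    ([4, 0], [0, 4, 5, 6, 8, 9]),
    ([4, 1], [1, 4, 7, 8, 9, 11]),
    ([4, 2], [2, 4, 8, 9, 10, 11]),
    ([4, 3], [3, 4, 8, 9, 10, 11]),
    ([5, 0], [0, 5, 7, 10, 11]),
    ([5, 1], [1, 5, 7, 8, 9, 11]),
    ([5, 2], [2, 5, 8, 9, 10]),
    ([5, 3], [3, 5, 8]),
    ([5, 4], [4, 5, 9, 10, 11]),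
    ([6, 0], [0, 6, 7, 8, 10, 11]),
    ([6, 1], [1, 6, 7, 8, 9, 11]),
    ([6, 2], [2, 6, 8, 9, 10]),
    ([6, 3], [3, 6, 8, 9, 11]),
    ([6, 4], [4, 6, 9, 11]),
    ([6, 5], [5, 6, 10, 11]),
    ([7, 0], [0, 7, 8, 10, 11]),
    ([7, 1], [1, 7]),
    ([7, 2], [2, 7]),
    ([7, 3], [3, 7, 9]),
    ([7, 4], [4, 7]),
    ([7, 5], [5, 7]),
    ([7, 6], [6, 7, 11]),
    ([8, 0], [0, 8]),
    ([8, 1], [1, 8, 11]),
    ([8, 2], [2, 8, 11]),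
    ([8, 3], [3, 8, 10, 11]),
    ([8, 4], [4, 8, 11]),
    ([8, 5], [5, 8]),
    ([8, 6], [6, 8]),
    ([8, 7], [7, 8]),
    ([9, 0], [0, 9, 10, 11]),
    ([9, 1], [1, 9]),
    ([9, 2], [2, 9, 11]),
    ([9, 3], [3, 9, 11]),
    ([9, 4], [4, 9]),
    ([9, 5], [5, 9]),
    ([9, 6], [6, 9]),
    ([9, 7], [7, 9]),
    ([9, 8], [8, 9]),
    ([10, 0], [0, 10, 11]),
    ([10, 1], [1, 10, 11]),
    ([10, 2], [2, 10]),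
    ([10, 3], [3, 10]),
    ([10, 4], [4, 10]),
    ([10, 5], [5, 10]),
    ([10, 6], [6, 10]),
    ([10, 7], [7, 10]),
    ([10, 8], [8, 10]),
    ([10, 9], [9, 10]),
    ([11, 0], [0, 11]),
    ([11, 1], [1, 11]),
    ([11, 2], [2, 11]),
    ([11, 3], [3, 11]),
    ([11, 4], [4, 11]),
    ([11, 5], [5, 11]),
    ([11, 6], [6, 11]),
    ([11, 7], [7, 11]),
    ([11, 8], [8, 11]),
    ([11, 9], [9, 11]),
    ([11, 10], [10, 11])]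
  maps := [
    [([0, 6, 7, 8, 9, 11], [1, 2, 3, 5, 6, 8, 11]), ([1, 8, 9, 11], [1, 2, 5, 6, 7, 9, 11]), ([2, 8, 11], [2, 8, 11]), ([3, 7, 8, 9, 11], [0, 1, 2, 4, 5, 6, 7, 10]), ([4, 6, 8, 9, 11], [2, 4, 5, 7, 9, 10, 11]), ([5, 6, 7, 11], [5, 6, 7, 11])],
    [([0, 6, 7, 8, 9, 10], [3, 9, 10]), ([1, 8, 9], [2, 5, 6, 8]), ([2, 8], [0, 1, 2, 3, 4, 6, 7, 9, 10]), ([3, 7, 8, 9, 10], [2, 3, 5]), ([4, 6, 8, 9], [5, 6, 7, 8, 11]), ([5, 6, 7], [0, 1, 2, 3, 4, 6, 7, 8, 10]), ([11], [0, 1, 2, 3, 4, 6, 7, 8])],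
    [([1, 7], [2, 4, 6, 8, 9, 10, 11]), ([2, 7, 10], [0, 1, 4, 5, 6, 7, 9, 10, 11]), ([3, 10], [0, 1, 6, 7, 10]), ([4, 6, 8], [1, 7]), ([5, 6, 7, 10], [1, 7, 11]), ([9], [1, 5, 6, 8]), ([11], [2, 4, 5, 7, 8, 9, 10])],
    [([0, 1, 4, 9], [2, 4, 6, 9, 11]), ([2, 4, 7], [2, 4, 7, 8, 10]), ([3, 7], [0, 1, 2, 3]), ([5, 9], [5, 8, 9, 10]), ([6, 7, 9], [6, 7, 9]), ([8], [0, 1, 2, 6, 8]), ([10], [0, 1, 2, 6, 10]), ([11], [0, 1, 2, 6, 11])],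
    [([0, 9, 11], [0, 2, 4, 6, 7, 11]), ([1, 8, 9], [1, 8, 9]), ([2, 7, 8, 9], [4, 6, 8, 11]), ([3, 8, 9, 10, 11], [0, 1, 2, 3, 7, 8, 9, 10]), ([4, 6, 8, 11], [2, 7, 8, 9]), ([5, 6, 7, 9], [5, 6, 7, 9])],
    [([0, 1, 4, 9], [2, 4, 6, 8, 9, 10]), ([2, 4, 7], [2, 4, 7, 8, 10]), ([3, 7, 9], [0, 1, 2, 3, 8, 9, 10]), ([5, 9], [5, 8, 9, 10]), ([6, 7, 9], [0, 1, 2, 7, 8, 9, 10, 11]), ([8], [0, 1, 2, 6, 10, 11]), ([10], [0, 1, 2, 6, 8, 11]), ([11], [0, 1, 2, 6, 8, 10])],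
    [([0, 7, 9, 10, 11], [0, 2, 4, 6, 8]), ([1, 7], [1, 7]), ([2, 7, 10], [4, 6, 8, 9, 11]), ([3, 9, 10, 11], [0, 1, 2, 3, 7, 9, 10]), ([4, 6, 8, 9, 11], [2, 7, 10]), ([5, 6, 7, 9, 10, 11], [5, 6, 7, 9, 10, 11])],
    [([1, 8], [1, 4, 5, 7, 9, 10, 11]), ([2, 3, 7], [2, 3, 4, 5, 8, 9, 10, 11]), ([4, 6, 8], [4, 6, 8]), ([5, 6, 7], [5, 6, 7]), ([9], [4, 5, 7, 8, 10]), ([10], [2, 3, 7, 10, 11]), ([11], [4, 5, 7, 8, 9, 10, 11])],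
    [([1], [4, 6, 7, 9]), ([2], [2, 4, 6, 7, 8]), ([3], [3, 7, 11]), ([4, 6], [1, 4, 5, 8, 10, 11]), ([5, 6], [5, 6, 11]), ([7], [4, 5, 8, 9, 10]), ([8], [1, 4, 6, 7, 8, 9, 11]), ([9], [9, 11]), ([10], [4, 5, 7, 8]), ([11], [11])],
    [([1, 8], [1, 4, 5, 7, 9, 10, 11]), ([2, 3, 7], [2, 3, 7]), ([4, 6, 8], [5, 6, 7, 9, 11]), ([5, 6, 7], [5, 6, 7]), ([9], [9]), ([10], [2, 3, 4, 6, 7, 8, 9, 10]), ([11], [4, 5, 7, 8, 9, 10, 11])],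
    [([1, 8], [1, 4, 5, 7, 9, 10, 11]), ([2, 3, 7], [2, 3, 4, 5, 8, 9, 10, 11]), ([4, 6, 8], [5, 6, 7, 9, 11]), ([5, 6, 7], [5, 6, 7]), ([9], [9]), ([10], [2, 3, 5, 6, 10, 11]), ([11], [4, 5, 7, 8, 9, 10, 11])],
    [([1, 8, 9], [5, 6, 7, 8, 10]), ([2, 7, 10, 11], [1, 2, 5, 6, 9, 11]), ([4, 6, 7, 8, 9, 11], [4, 6, 7, 8, 9, 11]), ([5, 6, 7, 8, 10], [1, 8, 9])],
    [([0, 3, 9], [1, 2, 5, 6, 8, 11]), ([1], [0, 2, 3, 7, 8, 9, 10]), ([2, 7], [0, 1, 2, 3, 4, 6, 7, 8, 11]), ([5, 6, 7, 9], [5, 6, 7, 9]), ([8, 9], [0, 1, 2, 3, 4, 5, 8, 9, 10, 11]), ([10], [0, 1, 3, 4, 5, 7, 8, 10, 11]), ([11], [2, 5, 6, 8])],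
    [([0, 6], [0, 4, 7, 8]), ([1], [1, 2, 7, 10]), ([2], [1, 4, 6, 10]), ([3, 6], [3, 6]), ([4, 6], [1, 5, 6, 8, 10, 11]), ([5, 6], [1, 5, 6, 8, 9]), ([7], [1, 2, 4, 5, 8, 10]), ([8], [2, 4, 6, 9, 10]), ([9], [4, 6, 7, 8, 11]), ([10], [5, 6, 7, 8, 11]), ([11], [11])],
    [([0], [0, 5, 6, 7, 9, 11]), ([1], [1]), ([2], [2, 11]), ([3], [3, 11]), ([4], [4, 9, 10]), ([5], [5, 9, 10, 11]), ([6], [6, 9, 10, 11]), ([7], [7]), ([8], [8, 11]), ([9], [9]), ([10], [10]), ([11], [11])],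
    [([1, 7, 11], [5, 6, 7, 9, 10]), ([2, 7, 10, 11], [1, 2, 5, 6, 7, 9, 11]), ([4, 6, 8, 9], [1, 4, 5, 8, 11]), ([5, 6, 7, 9, 10], [1, 7, 11])],
    [([0, 6], [0, 2, 4, 7, 8, 9, 10]), ([1], [2, 4, 6, 7, 10]), ([2], [1, 4, 5, 7]), ([4, 6], [4, 5, 8, 11]), ([5, 6], [5, 6]), ([7], [2, 4, 5, 9, 10, 11]), ([8], [2, 4, 5, 7, 9]), ([9], [1, 5, 6, 8, 11]), ([10], [2, 4, 5, 7, 8, 9, 10]), ([11], [11])],
    [([0, 6], [0, 1, 4, 5, 6, 8, 9, 10]), ([1], [1, 8, 10, 11]), ([2], [2, 7, 8, 11]), ([4, 6], [1, 9]), ([5, 6], [1, 4, 5, 7, 8, 9, 10]), ([7], [1, 4, 6, 9, 10]), ([8], [8, 11]), ([9], [1, 2, 7, 8, 9, 10]), ([10], [2, 4, 6, 8, 9, 10]), ([11], [11])],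
    [([0, 7, 8, 9, 11], [0, 2, 4, 6, 8, 11]), ([1, 7, 11], [1, 7]), ([2, 7, 10], [4, 6, 8, 9]), ([3, 10, 11], [0, 1, 2, 3, 7, 9, 11]), ([4, 6, 8, 9], [2, 7, 10, 11]), ([5, 6, 7, 9, 10], [5, 6, 7, 9, 10, 11])],
    [([0, 3, 4, 6], [1, 2, 4, 6, 7, 8, 10, 11]), ([1, 4, 6, 9], [1, 4, 6, 9]), ([2, 7], [2, 7]), ([5, 6, 7, 9], [5, 6, 7, 9]), ([8, 9], [8, 9]), ([10], [0, 1, 2, 3, 4, 6, 7, 9, 11]), ([11], [2, 7, 8, 9, 11])],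
    [([0, 6], [0, 1, 4, 7, 8, 9, 10, 11]), ([1], [2, 4, 6, 7, 8, 11]), ([2], [1, 4, 5, 10]), ([3, 6], [2, 3, 6, 7, 8, 11]), ([4, 6], [1, 2, 4, 5, 7, 8, 11]), ([5, 6], [1, 2, 5, 6, 10]), ([7], [1, 4, 5, 8, 9, 10, 11]), ([8], [2, 4, 5, 7, 9, 11]), ([9], [4, 5, 9, 11]), ([10], [5, 6, 7, 8, 10, 11]), ([11], [11])],
    [([0], [0, 2, 4, 5, 11]), ([1], [1, 11]), ([2], [2]), ([3], [3, 4, 6, 8]), ([4], [4, 7, 9, 10, 11]), ([5], [5, 7, 9, 10]), ([6], [6, 7, 9, 10]), ([7], [7, 11]), ([8], [8, 11]), ([9], [9, 11]), ([10], [10, 11]), ([11], [11])],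
    [([0, 3, 4, 6], [0, 2, 3, 4, 6, 7, 9, 10]), ([1, 4, 6, 9], [1, 2, 4, 6, 7, 8, 11]), ([2, 7], [2, 7, 11]), ([5, 6, 7, 9], [2, 5, 6, 8]), ([8, 9], [2, 7]), ([10], [0, 1, 3, 4, 5, 7, 8, 10, 11]), ([11], [2, 7, 8, 9])],
    [([1], [1, 4, 5, 10]), ([2], [1, 5, 6, 9, 11]), ([3], [3, 4, 5, 9, 11]), ([4, 6], [1, 2, 4, 6, 8, 10]), ([5, 6], [1, 2, 5, 6, 8, 10, 11]), ([7], [1, 2, 7, 8, 9, 11]), ([8], [1, 2, 10, 11]), ([9], [4, 6, 8, 10, 11]), ([10], [4, 6, 8, 9, 11]), ([11], [11])]]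
  overlaps := [
    ([0, 0, 0], [(0, 0), (57, 5), (48, 4), (33, 3), (27, 2), (18, 1), (13, 0), (52, 6), (44, 5), (37, 4), (31, 3), (26, 2), (73, 6), (63, 5), (54, 4), (76, 7), (66, 6), (9, 5), (11, 6), (64, 5), (65, 6), (76, 8), (66, 7), (72, 9), (62, 8), (53, 7), (45, 6), (38, 5), (32, 4), (5, 3), (73, 4), (63, 3), (77, 5), (10, 4), (11, 4), (73, 8), (63, 7), (54, 6), (46, 5), (39, 4), (6, 3), (75, 4), (76, 5), (77, 6), (11, 7), (65, 6), (56, 5), (8, 4), (66, 5), (9, 4), (63, 4), (39, 3), (77, 5), (74, 6), (64, 5), (7, 4), (77, 4), (11, 5), (65, 4), (10, 5), (74, 5), (47, 4), (75, 6), (8, 5), (77, 5), (11, 6), (66, 5), (10, 6), (77, 6), (11, 7)], [(0, 1)]),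
    ([1, 1, 1], [(1, 0), (68, 0)], [(1, 1)]),
    ([1, 1, 0], [(1, 0), (67, 0)], [(12, 1), (12, 0), (68, 5), (23, 4), (19, 3), (14, 2), (1, 1), (69, 1), (11, 2), (72, 6), (53, 5), (45, 4), (38, 3), (74, 7), (55, 6), (47, 5), (7, 4), (75, 4), (76, 5), (11, 6), (56, 5), (8, 4), (9, 4), (11, 4), (24, 3), (20, 2), (2, 1), (71, 1), (75, 2), (76, 3), (77, 4), (11, 5), (62, 4), (53, 3), (45, 2), (65, 5), (56, 4), (8, 3), (66, 4), (9, 3), (10, 3), (26, 2), (4, 1), (53, 1), (9, 2), (72, 3), (62, 2), (5, 1), (77, 2), (10, 1), (11, 1)]),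
    ([1, 0, 0], [(0, 1)], [(12, 0), (67, 5), (22, 4), (18, 3), (13, 2), (12, 1), (0, 0), (58, 5), (49, 4), (34, 3), (28, 2), (19, 1), (14, 0), (71, 2), (74, 3), (75, 4), (76, 5), (11, 6), (54, 5), (46, 4), (39, 3), (75, 5), (76, 6), (74, 7), (55, 6), (47, 5), (7, 4), (75, 4), (76, 5), (11, 6), (56, 5), (8, 4), (9, 4), (74, 4), (76, 5), (77, 6), (11, 7), (59, 6), (50, 5), (35, 4), (29, 3), (20, 2), (2, 1), (71, 1), (75, 2), (76, 3), (77, 4), (11, 5), (63, 4), (54, 3), (46, 2), (65, 5), (56, 4), (8, 3), (66, 4), (9, 3), (10, 3), (77, 5), (71, 6), (61, 5), (52, 4), (37, 3), (31, 2), (4, 1), (54, 1), (9, 2), (74, 2), (76, 3), (77, 4), (11, 5), (62, 4), (53, 3), (38, 2), (32, 1), (74, 4), (64, 3), (76, 5), (66, 4), (77, 6), (10, 5), (11, 5), (50, 4), (35, 3), (29, 2), (24, 1), (63, 5), (54, 4), (46, 3), (65, 6), (56, 5), (8,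 4), (66, 5), (9, 4), (10, 4), (72, 6), (53, 5), (38, 4), (32, 3), (5, 2), (73, 3), (63, 2), (77, 4), (10, 3), (11, 3), (73, 5), (54, 4), (39, 3), (6, 2), (76, 3), (11, 4), (55, 3), (7, 2), (76, 2), (75, 3), (56, 2), (76, 4), (9, 3), (71, 3), (44, 2), (11, 4), (45, 3), (46, 4), (8, 5), (53, 5), (32, 4), (5, 3), (73, 4), (63, 3), (77, 5), (10, 4), (11, 4), (55, 4), (11, 7)]),
    ([2, 2, 2], [(2, 0), (69, 0)], [(2, 1)]),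
    ([2, 2, 0], [(2, 0), (67, 0)], [(13, 1), (13, 0), (50, 6), (42, 5), (35, 4), (29, 3), (24, 2), (2, 1), (72, 1), (75, 2), (76, 3), (77, 4), (73, 5), (63, 4), (54, 3), (46, 2), (75, 6), (65, 5), (56, 4), (8, 3), (76, 5), (66, 4), (9, 3), (77, 4), (10, 3), (74, 3), (75, 4), (11, 5), (72, 6), (53, 5), (45, 4), (38, 3), (32, 2), (5, 1), (73, 2), (63, 1), (77, 3), (10, 2), (11, 2), (73, 5), (54, 4), (46, 3), (39, 2), (6, 1), (75, 2), (76, 3), (11, 4), (55, 3), (47, 2), (7, 1), (75, 1), (76, 2), (75, 3), (56, 2), (8, 1), (76, 2), (9, 1)]),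
    ([2, 0, 0], [(0, 1), (2, 0), (71, 0), (73, 1), (74, 2), (76, 3), (77, 4)], [(13, 0), (48, 6), (40, 5), (33, 4), (27, 3), (22, 2), (13, 1), (0, 0), (59, 5), (50, 4), (35, 3), (29, 2), (20, 1), (2, 0), (71, 0), (75, 1), (76, 2), (77, 3), (11, 4), (63, 3), (54, 2), (46, 1), (65, 4), (56, 3), (8, 2), (66, 3), (9, 2), (10, 2), (77, 4), (72, 5), (62, 4), (53, 3), (38, 2), (32, 1), (74, 4), (64, 3), (76, 5), (66, 4), (77, 6), (10, 5), (11, 5), (54, 4), (39, 3), (6, 2), (76, 3), (74, 4), (55, 3), (7, 2), (76, 2), (11, 3), (56, 2), (9, 3), (45, 2), (5, 1), (75, 2), (65, 1), (74, 3), (64, 2), (47, 1), (77, 4), (10, 3), (11, 3), (46, 2), (39, 1), (75, 3), (74, 4), (47, 3), (7, 2), (75, 2), (11, 3), (8, 2), (74, 3), (64, 2), (75, 4), (65, 3), (77, 5), (10, 4), (11, 4), (8, 3)]),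
    ([2, 2, 1], [(2, 0), (68, 0)], [(14, 1), (14, 0), (69, 2), (2, 1), (11, 1)]),
    ([2, 1, 0], [(14, 0), (67, 2), (13, 1), (12, 0), (69, 5), (24, 4), (20, 3), (2, 2), (71, 2), (75, 3), (76, 4), (77, 5), (11, 6), (62, 5), (53, 4), (45, 3), (65, 6), (56, 5), (8, 4), (66, 5), (9, 4), (10, 4), (72, 4), (5, 3), (11, 4), (63, 3), (64, 4), (65, 5), (66, 6)], [(12, 1), (13, 0), (49, 6), (41, 5), (34, 4), (28, 3), (23, 2), (14, 1), (72, 3), (74, 4), (75, 5), (76, 6), (11, 7), (54, 6), (46, 5), (39, 4), (75, 6), (76, 7), (74, 8), (55, 7), (47, 6), (7, 5), (75, 5), (76, 6), (11, 7), (56, 6), (8, 5), (9, 5), (74, 5), (75, 6), (11, 7), (50, 7), (42, 6), (35, 5), (29, 4), (24, 3), (2, 2), (72, 2), (75, 3), (76, 4), (77, 5), (73, 6), (63, 5), (54, 4), (46, 3), (75, 7), (65, 6), (56, 5), (8, 4), (76, 6), (66, 5), (9, 4), (77, 5), (10,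 4), (74, 4), (75, 5), (11, 6), (71, 7), (52, 6), (44, 5), (37, 4), (31, 3), (26, 2), (73, 6), (63, 5), (54, 4), (76, 7), (66, 6), (9, 5), (11, 6), (64, 5), (65, 6), (76, 8), (66, 7), (11, 9), (62, 8), (53, 7), (45, 6), (38, 5), (32, 4), (5, 3), (73, 4), (63, 3), (77, 5), (10, 4), (11, 4)]),
    ([3, 3, 3], [(3, 0), (60, 4), (51, 3), (36, 2), (30, 1), (25, 0), (46, 2), (8, 3), (74, 4), (55, 3), (76, 5), (9, 4), (76, 4), (11, 5)], [(3, 1)]),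
    ([3, 3, 0], [(3, 0), (57, 4), (48, 3), (33, 2), (27, 1), (22, 0), (73, 4), (63, 3), (39, 2), (77, 4), (11, 5), (64, 4), (7, 3), (77, 3), (75, 4), (65, 3), (77, 5), (10, 4), (11, 4), (47, 3), (8, 4), (76, 5), (66, 4), (77, 6), (10, 5), (11, 5)], [(15, 1), (15, 0), (70, 6), (60, 5), (43, 4), (30, 3), (21, 2), (3, 1), (61, 5), (52, 4), (37, 3), (31, 2), (26, 1), (73, 5), (63, 4), (54, 3), (76, 6), (66, 5), (9, 4), (11, 5), (64, 4), (66, 5), (10, 6), (56, 5), (9, 6), (73, 7), (63, 6), (46, 5), (39, 4), (6, 3), (75, 4), (77, 5), (11, 6), (65, 5), (8, 4), (66, 4), (75, 6), (65, 5), (56, 4), (77, 7), (10, 6), (11, 6), (71, 7), (61, 6), (52, 5), (44, 4), (37, 3), (26, 2), (4, 1), (53, 1), (9, 2), (74, 3), (64, 2), (75, 4), (65, 3), (11, 5), (66, 4), (10, 5), (73, 5), (54, 4), (46, 3), (39, 2), (75, 4), (76, 5), (11, 6), (56,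 5), (8, 4)]),
    ([3, 0, 0], [(0, 1), (17, 0), (71, 6), (61, 5), (37, 4), (31, 3), (26, 2), (73, 6), (63, 5), (54, 4), (76, 7), (66, 6), (9, 5), (11, 6), (64, 5), (10, 6), (73, 6), (39, 5), (6, 4), (11, 5), (7, 4), (76, 4), (77, 5)], [(15, 0), (67, 6), (57, 5), (40, 4), (27, 3), (18, 2), (15, 1), (0, 0), (60, 5), (51, 4), (36, 3), (30, 2), (21, 1), (73, 6), (63, 5), (54, 4), (46, 3), (75, 7), (65, 6), (56, 5), (8, 4), (76, 6), (66, 5), (9, 4), (11, 5), (64, 4), (66, 5), (66, 6), (9, 5), (77, 6), (10, 5), (71, 5), (37, 4), (31, 3), (4, 2), (54, 2), (9, 3), (74, 3), (11, 4), (39, 3), (6, 2), (75, 3), (77, 4), (11, 5), (61, 4), (44, 3), (37, 2), (77, 5), (72, 6), (62, 5), (45, 4), (38, 3), (73, 7), (63, 6), (46, 5), (39, 4), (75, 6), (77, 7), (11, 8), (65, 7), (8, 6), (66, 6), (63, 7), (54, 6), (39, 5), (6, 4), (76, 5), (77,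 6), (74, 7), (64, 6), (55, 5), (7, 4), (76, 4), (77, 5), (11, 6), (65, 5), (56, 4), (10, 6), (75, 6), (56, 5), (8, 4), (77, 5), (11, 6)]),
    ([3, 3, 1], [(3, 0), (58, 4), (49, 3), (34, 2), (28, 1), (23, 0), (73, 5), (54, 4), (46, 3), (39, 2), (75, 4), (76, 5), (11, 6), (55, 5), (47, 4), (7, 3), (75, 3), (76, 4), (75, 5), (56, 4), (8, 3), (76, 4), (9, 3), (11, 3)], [(16, 1), (16, 0), (51, 6), (43, 5), (36, 4), (25, 3), (21, 2), (3, 1), (61, 5), (52, 4), (37, 3), (31, 2), (26, 1), (73, 5), (63, 4), (54, 3), (76, 6), (66, 5), (9, 4), (11, 5), (64, 4), (66, 5), (10, 6), (56, 5), (9, 6), (72, 7), (62, 6), (45, 5), (38, 4), (32, 3), (5, 2), (73, 3), (63, 2), (77, 4), (10, 3), (11, 3), (75, 6), (65, 5), (8, 4), (74, 5), (64, 4), (7, 3), (77, 3), (11, 4), (66, 3), (65, 4), (56, 3), (10, 5), (76, 5), (9, 4), (11, 4), (44, 3), (31,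 2), (4, 1), (54, 1), (9, 2), (75, 2), (11, 3), (45, 2), (32, 1), (75, 4), (65, 3), (74, 5), (64, 4), (47, 3), (75, 6), (65, 5), (8, 4), (76, 5), (66, 4)]),
    ([3, 1, 1], [(1, 1)], [(16, 0), (49, 6), (41, 5), (34, 4), (23, 3), (19, 2), (16, 1), (1, 0), (70, 0), (71, 1), (72, 2), (74, 3), (75, 4), (76, 5), (71, 6), (52, 5), (44, 4), (37, 3), (26, 2), (4, 1), (53, 1), (9, 2), (74, 3), (64, 2), (75, 4), (65, 3), (11, 5), (66, 4), (74, 6), (64, 5), (55, 4), (47, 3), (7, 2), (75, 2), (76, 3), (77, 4), (11, 5), (65, 4), (56, 3), (8, 2), (66, 3), (9, 2), (72, 3), (62, 2), (5, 1), (77, 2), (10, 1), (11, 1), (74, 4), (55, 3), (47, 2), (7, 1), (75, 1), (76, 2), (11, 3), (56, 2), (8, 1), (76, 2), (9, 1)]),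
    ([3, 1, 0], [(16, 0), (48, 6), (40, 5), (33, 4), (22, 3), (18, 2), (15, 1), (12, 0), (70, 5), (25, 4), (21, 3), (72, 8), (62, 7), (53, 6), (45, 5), (75, 9), (65, 8), (56, 7), (8, 6), (11, 8), (61, 7), (52, 6), (26, 5), (4, 4), (53, 4), (9, 5), (76, 6), (66, 5), (77, 7), (10, 6), (73, 6), (54, 5), (75, 7), (56, 6), (77, 8), (11, 9), (61, 8), (52, 7), (44, 6), (31, 5), (26, 4), (73, 8), (63, 7), (54, 6), (76, 9), (66, 8), (9, 7), (11, 8), (65, 7), (76, 9), (66, 8), (77, 10), (10, 9), (72, 9), (53, 8), (45, 7), (32, 6), (5, 5), (73, 6), (63, 5), (77, 7), (10, 6), (11, 6), (73, 8), (54, 7), (46, 6), (6, 5), (75, 7), (56, 6), (8, 5), (76, 6), (9, 5), (72, 5), (74, 6), (77, 7), (11, 8), (64, 7), (7, 6), (77, 6), (75, 7), (65, 6), (77, 8), (10, 7), (11, 7), (8, 6)], [(12, 1), (15, 0), (68, 6), (58, 5), (41, 4), (28, 3), (19,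 2), (16, 1), (52, 7), (44, 6), (37, 5), (26, 4), (4, 3), (53, 3), (9, 4), (74, 5), (64, 4), (75, 6), (65, 5), (11, 7), (66, 6), (64, 7), (55, 6), (47, 5), (7, 4), (75, 4), (76, 5), (77, 6), (75, 7), (65, 6), (56, 5), (8, 4), (76, 6), (66, 5), (9, 4), (11, 5), (63, 4), (64, 5), (65, 6), (66, 7), (75, 9), (65, 8), (56, 7), (8, 6), (11, 8), (10, 7), (11, 7), (50, 6), (35, 5), (29, 4), (24, 3), (17, 2), (72, 8), (62, 7), (38, 6), (32, 5), (5, 4), (73, 5), (63, 4), (77, 6), (10, 5), (11, 5), (75, 7), (65, 6), (76, 8), (66, 7), (77, 9), (10, 8), (73, 8), (54, 7), (46, 6), (39, 5), (6, 4), (75, 5), (76, 6), (11, 7), (56, 6), (8, 5), (9, 5), (64, 5), (7, 4), (77, 4), (76, 5), (66, 4), (11, 6), (61, 5), (52, 4), (62, 6), (53, 5)]),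
    ([3, 3, 2], [(3, 0), (59, 4), (50, 3), (35, 2), (29, 1), (24, 0), (63, 4), (54, 3), (46, 2), (65, 5), (56, 4), (8, 3), (66, 4), (9, 3), (10, 3), (77, 5)], [(17, 1), (17, 0), (70, 6), (60, 5), (36, 4), (30, 3), (25, 2), (3, 1), (62, 5), (53, 4), (38, 3), (32, 2), (5, 1), (73, 2), (63, 1), (77, 3), (10, 2), (11, 2), (65, 4), (56, 3), (63, 5), (54, 4), (46, 3), (39, 2), (6, 1), (75, 2), (76, 3), (77, 4), (75, 5), (65, 4), (56, 3), (8, 2), (76, 4), (66, 3), (9, 2), (11, 3), (64, 2), (7, 1), (77, 1), (76, 2), (66, 1), (77, 3), (10, 2), (11, 2), (53, 1), (54, 2), (55, 3)]),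
    ([3, 2, 2], [(2, 1)], [(17, 0), (69, 6), (59, 5), (35, 4), (29, 3), (24, 2), (17, 1), (2, 0), (70, 0), (72, 1), (73, 2), (74, 3), (77, 4), (11, 5), (62, 4), (38, 3), (32, 2), (5, 1), (73, 2), (63, 1), (77, 3), (10, 2), (11, 2), (65, 3), (66, 4), (10, 5), (54, 4), (46, 3), (39, 2), (6, 1), (75, 2), (76, 3), (75, 4), (56, 3), (8, 2), (76, 3), (9, 2), (77, 2), (74, 3), (64, 2), (7, 1), (77, 1), (11, 2), (10, 1)]),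
    ([3, 2, 0], [(17, 0), (67, 6), (57, 5), (33, 4), (27, 3), (22, 2), (15, 1), (13, 0), (51, 6), (43, 5), (36, 4), (30, 3), (25, 2), (46, 4), (8, 5), (74, 6), (55, 5), (76, 7), (9, 6), (75, 6), (77, 7), (11, 8), (66, 7), (71, 9), (61, 8), (52, 7), (44, 6), (37, 5), (31, 4), (26, 3), (73, 7), (63, 6), (54, 5), (76, 8), (66, 7), (9, 6), (11, 7), (64, 6), (65, 7), (76, 9), (66, 8), (77, 10), (10, 9), (11, 9), (54, 8), (46, 7), (39, 6), (6, 5), (75, 6), (76, 7), (75, 8), (56, 7), (8, 6), (77, 7), (11, 8), (62, 7), (53, 6), (38, 5), (5, 4), (74, 5), (64, 4), (76, 6), (66, 5), (77, 7), (10, 6), (74, 6), (55, 5), (7, 4), (76, 4), (11, 5), (73, 6), (63, 5), (54, 4), (74, 7), (64, 6), (55, 5), (75, 8), (65, 7), (56, 6), (77, 9), (10, 8), (11, 8), (55, 7), (47, 6), (7, 5), (75, 5), (76, 6), (75, 7), (56, 6), (8, 5), (77, 6), (11,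 7), (10, 6), (11, 6)], [(13, 1), (15, 0), (69, 6), (59, 5), (42, 4), (29, 3), (20, 2), (17, 1), (71, 7), (61, 6), (37, 5), (31, 4), (26, 3), (73, 7), (63, 6), (54, 5), (76, 8), (66, 7), (9, 6), (11, 7), (64, 6), (10, 7), (75, 7), (76, 8), (77, 9), (11, 10), (63, 9), (54, 8), (46, 7), (39, 6), (6, 5), (75, 6), (76, 7), (77, 8), (75, 9), (65, 8), (56, 7), (8, 6), (76, 8), (66, 7), (9, 6), (77, 7), (10, 6), (75, 6), (11, 7), (72, 8), (62, 7), (45, 6), (38, 5), (5, 4), (74, 5), (64, 4), (75, 6), (65, 5), (77, 7), (10, 6), (11, 6), (46, 5), (39, 4), (75, 6), (74, 7), (47, 6), (7, 5), (75, 5), (11, 6), (8, 5)]),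
    ([3, 2, 1], [(17, 0), (68, 6), (58, 5), (34, 4), (28, 3), (23, 2), (16, 1), (14, 0), (70, 2), (71, 3), (72, 4), (74, 5), (75, 6), (76, 7), (72, 8), (53, 7), (45, 6), (38, 5), (5, 4), (74, 5), (64, 4), (75, 6), (65, 5), (76, 7), (66, 6), (11, 8), (64, 7), (55, 6), (47, 5), (7, 4), (75, 4), (76, 5), (77, 6), (75, 7), (65, 6), (56, 5), (8, 4), (76, 6), (66, 5), (9, 4), (11, 5), (63, 4), (64, 5), (65, 6), (66, 7), (74, 9), (64, 8), (55, 7), (47, 6), (7, 5), (75, 5), (76, 6), (77, 7), (11, 8), (10, 7), (11, 7)], [(14, 1), (16, 0), (50, 6), (42, 5), (35, 4), (24, 3), (20, 2), (17, 1), (71, 7), (61, 6), (37, 5), (31, 4), (26, 3), (73, 7), (63, 6), (54, 5), (76, 8), (66, 7), (9, 6), (11, 7), (64, 6), (10, 7), (75, 7), (76, 8), (77, 9), (11, 10), (62, 9), (53, 8), (45, 7), (38, 6), (32, 5), (5, 4), (73, 5), (63, 4), (77, 6),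 (10, 5), (11, 5), (65, 8), (56, 7), (8, 6), (66, 7), (9, 6), (10, 6), (7, 5), (75, 5), (11, 6), (11, 7)]),
    ([4, 4, 4], [(4, 0), (52, 0)], [(4, 1)]),
    ([4, 4, 0], [(4, 0), (48, 0)], [(18, 1), (18, 0), (52, 5), (44, 4), (31, 3), (26, 2), (4, 1), (53, 1), (9, 2), (73, 3), (63, 2), (76, 4), (66, 3), (11, 5), (65, 4), (56, 3), (76, 6), (66, 5), (9, 4), (72, 5), (62, 4), (45, 3), (32, 2), (5, 1), (73, 2), (63, 1), (77, 3), (10, 2), (11, 2), (73, 4), (63, 3), (46, 2), (6, 1), (75, 3), (65, 2), (8, 1), (76, 2), (66, 1)]),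
    ([4, 0, 0], [(0, 1), (20, 0), (71, 5), (61, 4), (52, 3), (44, 2), (4, 1), (56, 1), (76, 3), (9, 2), (77, 2), (11, 3), (63, 2), (46, 1), (64, 3), (47, 2), (66, 4), (10, 5)], [(18, 0), (48, 5), (40, 4), (27, 3), (22, 2), (18, 1), (0, 0), (61, 5), (52, 4), (37, 3), (31, 2), (4, 1), (54, 1), (9, 2), (74, 2), (76, 3), (77, 4), (72, 5), (62, 4), (53, 3), (38, 2), (32, 1), (74, 4), (64, 3), (76, 5), (66, 4), (77, 6), (10, 5), (11, 5), (54, 4), (39, 3), (6, 2), (76, 3), (75, 4), (56, 3), (76, 5), (9, 4), (72, 4), (45, 3), (38, 2), (5, 1), (74, 2), (64, 1), (75, 3), (65, 2), (11, 4), (64, 3), (47, 2), (7, 1), (75, 1), (77, 2), (77, 3), (10, 2), (11, 2), (46, 1), (47, 2), (8, 3), (75, 4), (65, 3), (76, 5), (66, 4), (77, 6), (10, 5), (11, 5)]),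
    ([4, 4, 1], [(4, 0), (49, 0)], [(19, 1), (19, 0), (71, 5), (52, 4), (44, 3), (37, 2), (4, 1), (55, 1), (56, 2), (76, 4), (9, 3), (11, 3), (47, 2), (7, 1), (75, 1), (75, 2), (8, 1), (76, 1), (11, 2)]),
    ([4, 1, 1], [(1, 1)], [(19, 0), (68, 5), (49, 4), (41, 3), (34, 2), (19, 1), (1, 0), (71, 0), (74, 1), (75, 2), (76, 3), (11, 4), (55, 3), (47, 2), (7, 1), (75, 1), (76, 2), (75, 3), (56, 2), (8, 1), (11, 2), (9, 1)]),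
    ([4, 1, 0], [(19, 0), (67, 5), (48, 4), (40, 3), (33, 2), (18, 1), (12, 0), (71, 5), (26, 4), (4, 3), (53, 3), (9, 4), (11, 5), (62, 4), (5, 3), (77, 4), (10, 3), (73, 3), (75, 4), (76, 5), (74, 6), (55, 5), (47, 4), (75, 7), (56, 6), (8, 5), (77, 6), (11, 7), (65, 6), (56, 5), (66, 7), (9, 6), (10, 6), (11, 6)], [(12, 1), (18, 0), (49, 5), (41, 4), (28, 3), (23, 2), (19, 1), (72, 6), (53, 5), (45, 4), (38, 3), (74, 7), (55, 6), (47, 5), (7, 4), (75, 4), (76, 5), (11, 6), (56, 5), (8, 4), (9, 4), (73, 4), (74, 5), (75, 6), (76, 7), (11, 8), (56, 7), (8, 6), (76, 7), (9, 6), (69, 6), (35, 5), (29, 4), (24, 3), (20, 2), (72, 7), (62, 6), (53, 5), (45, 4), (75, 8), (65, 7), (56, 6), (8, 5), (76, 7), (66, 6), (9, 5), (77, 6), (10, 5), (73, 5), (75, 6), (76, 7), (77, 8), (74, 9), (64, 8), (55, 7), (47, 6), (11, 10), (61,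 9), (52, 8), (44, 7), (37, 6), (31, 5), (26, 4), (4, 3), (53, 3), (9, 4), (73, 5), (63, 4), (76, 6), (66, 5), (11, 7), (64, 6), (55, 5), (65, 7), (56, 6), (76, 9), (66, 8), (9, 7), (77, 8), (10, 7), (72, 7), (45, 6), (38, 5), (32, 4), (5, 3), (73, 4), (63, 3), (77, 5), (10, 4), (11, 4), (11, 6)]),
    ([4, 4, 2], [(4, 0), (50, 0)], [(20, 1), (20, 0), (71, 5), (61, 4), (52, 3), (44, 2), (4, 1), (56, 1), (76, 3), (9, 2), (77, 2), (11, 3), (65, 2), (8, 1), (66, 1), (10, 2)]),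
    ([4, 2, 2], [(2, 1)], [(20, 0), (69, 5), (59, 4), (50, 3), (42, 2), (20, 1), (2, 0), (71, 0), (75, 1), (76, 2), (77, 3), (11, 4), (65, 3), (56, 2), (8, 1), (76, 3), (66, 2), (9, 1), (11, 2), (10, 1)]),
    ([4, 2, 0], [(20, 0), (67, 5), (57, 4), (48, 3), (40, 2), (18, 1), (13, 0), (52, 6), (44, 5), (37, 4), (31, 3), (26, 2), (73, 6), (63, 5), (54, 4), (76, 7), (66, 6), (9, 5), (11, 6), (64, 5), (65, 6), (76, 8), (66, 7), (72, 9), (62, 8), (53, 7), (45, 6), (38, 5), (32, 4), (5, 3), (73, 4), (63, 3), (77, 5), (10, 4), (11, 4), (73, 8), (63, 7), (54, 6), (46, 5), (39, 4), (6, 3), (75, 4), (76, 5), (77, 6), (11, 7), (65, 6), (56, 5), (8, 4), (66, 5), (9, 4), (65, 4), (66, 5), (10, 6), (77, 6), (11, 7)], [(13, 1), (18, 0), (50, 5), (42, 4), (29, 3), (24, 2), (20, 1), (72, 6), (62, 5), (53, 4), (45, 3), (75, 7), (65, 6),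 (56, 5), (8, 4), (76, 6), (66, 5), (9, 4), (77, 5), (10, 4), (73, 4), (75, 5), (76, 6), (77, 7), (75, 8), (65, 7), (56, 6), (8, 5), (11, 7), (66, 6), (9, 5), (72, 6), (62, 5), (32, 4), (5, 3), (73, 4), (63, 3), (77, 5), (10, 4), (11, 4), (73, 5), (63, 4), (6, 3), (74, 4), (64, 3), (75, 5), (65, 4), (76, 6), (66, 5)]),
    ([4, 2, 1], [(20, 0), (68, 5), (58, 4), (49, 3), (41, 2), (19, 1), (14, 0), (71, 2), (74, 3), (75, 4), (76, 5), (11, 6), (56, 5), (8, 4), (76, 5), (9, 4), (77, 4), (11, 5)], [(14, 1), (19, 0), (69, 5), (50, 4), (42, 3), (35, 2), (20, 1), (74, 6), (64, 5), (55, 4), (47, 3), (75, 7), (65, 6), (56, 5), (8, 4), (11, 6), (66, 5), (9, 4), (11, 5)]),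
    ([4, 4, 3], [(4, 0), (51, 0)], [(21, 1), (21, 0), (71, 5), (61, 4), (52, 3), (44, 2), (4, 1), (56, 1), (76, 3), (9, 2), (77, 2), (11, 3), (65, 2), (8, 1), (66, 1), (10, 2)]),
    ([4, 3, 3], [(3, 1)], [(21, 0), (70, 5), (60, 4), (51, 3), (43, 2), (21, 1), (3, 0), (61, 4), (52, 3), (37, 2), (31, 1), (26, 0), (73, 4), (63, 3), (54, 2), (76, 5), (66, 4), (9, 3), (11, 4), (64, 3), (66, 4), (10, 5), (56, 4), (9, 5), (75, 6), (65, 5), (8, 4), (77, 5), (10, 4), (11, 4), (77, 5), (11, 6)]),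
    ([4, 3, 0], [(21, 0), (67, 5), (57, 4), (48, 3), (40, 2), (18, 1), (15, 0), (71, 6), (61, 5), (44, 4), (31, 3), (4, 2), (54, 2), (9, 3), (75, 3), (11, 4), (72, 5), (62, 4), (45, 3), (32, 2), (75, 5), (65, 4), (77, 6), (10, 5), (11, 5), (46, 4), (6, 3), (8, 3), (56, 3), (9, 4), (77, 5), (10, 4), (11, 4)], [(15, 1), (18, 0), (51, 5), (43, 4), (30, 3), (25, 2), (21, 1), (72, 6), (62, 5), (53, 4), (45, 3), (75, 7), (65, 6), (56, 5), (8, 4), (73, 6), (63, 5), (54, 4), (75, 7), (65, 6), (56, 5), (76, 8), (66, 7), (9, 6), (11, 7), (65, 6), (8, 5), (10, 5), (76, 5), (11, 6), (52, 5), (31, 4), (26, 3), (4, 2), (53, 2), (9, 3), (73, 4), (63, 3), (76, 5), (66, 4), (11, 6), (66, 5), (9, 4), (63, 4), (6, 3), (65, 3), (10, 4)]),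
    ([4, 3, 1], [(21, 0), (68, 5), (58, 4), (49, 3), (41, 2), (19, 1), (16, 0), (52, 6), (44, 5), (37, 4), (26, 3), (4, 2), (53, 2), (9, 3), (74, 4), (64, 3), (75, 5), (65, 4), (11, 6), (66, 5), (64, 6), (55, 5), (47, 4), (7, 3), (75, 3), (76, 4), (77, 5), (75, 6), (65, 5), (56, 4), (8, 3), (76, 5), (66, 4), (9, 3), (11, 4), (65, 3), (76, 5), (66, 4), (77, 6), (10, 5), (11, 5)], [(16, 1), (19, 0), (70, 5), (51, 4), (43, 3), (36, 2), (21, 1), (74, 6), (64, 5), (55, 4), (47, 3), (76, 7), (66, 6), (9, 5), (75, 6), (65, 5), (8, 4), (77, 5), (10, 4), (11, 4), (11, 5), (52, 4), (37, 3), (4, 2), (55, 2), (9, 3), (38, 2), (7, 3), (75, 3), (76, 4)]),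
    ([4, 3, 2], [(21, 0), (69, 5), (59, 4), (50, 3), (42, 2), (20, 1), (17, 0), (71, 6), (61, 5), (37, 4), (31, 3), (26, 2), (73, 6), (63, 5), (54, 4), (76, 7), (66, 6), (9, 5), (11, 6), (64, 5), (10, 6), (75, 6), (76, 7), (77, 8), (11, 9), (65, 8), (56, 7), (8, 6), (76, 8), (66, 7), (9, 6), (11, 7), (10, 6)], [(17, 1), (20, 0), (70, 5), (60, 4), (51, 3), (43, 2), (21, 1), (75, 6), (65, 5), (56, 4), (8, 3), (77, 5), (10, 4), (11, 4), (9, 3), (77, 3), (11, 4), (62, 3), (63, 4), (64, 5), (10, 6)]),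
    ([5, 5, 5], [(5, 0), (72, 1), (62, 0)], [(5, 1)]),
    ([5, 5, 0], [(5, 0), (67, 1), (57, 0), (11, 2)], [(22, 1), (22, 0), (72, 4), (62, 3), (38, 2), (5, 1), (74, 2), (64, 1), (77, 3), (10, 2), (11, 2), (7, 1), (77, 1), (11, 2)]),
    ([5, 0, 0], [(0, 1), (24, 0), (61, 4), (52, 3), (44, 2), (26, 1), (75, 5), (65, 4), (56, 3), (11, 6), (66, 5), (9, 4), (10, 4), (46, 3), (47, 4)], [(22, 0), (67, 4), (57, 3), (33, 2), (22, 1), (0, 0), (62, 5), (53, 4), (38, 3), (32, 2), (74, 5), (64, 4), (76, 6), (66, 5), (77, 7), (10, 6), (74, 6), (55, 5), (7, 4), (76, 4), (11, 5), (74, 6), (64, 5), (55, 4), (75, 7), (65, 6), (56, 5), (77, 8), (10, 7), (11, 7), (11, 8)]),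
    ([5, 5, 1], [(5, 0), (68, 1), (58, 0), (11, 2)], [(23, 1), (23, 0), (72, 5), (53, 4), (45, 3), (38, 2), (5, 1), (74, 2), (64, 1), (75, 3), (65, 2), (76, 4), (66, 3), (11, 5), (64, 4), (55, 3), (47, 2), (7, 1), (75, 1), (76, 2), (77, 3), (75, 4), (65, 3), (56, 2), (8, 1), (76, 3), (66, 2), (9, 1), (11, 2)]),
    ([5, 1, 1], [(1, 1)], [(23, 0), (68, 5), (49, 4), (41, 3), (34, 2), (23, 1), (1, 0), (72, 0), (74, 1), (75, 2), (76, 3), (11, 4), (55, 3), (47, 2), (7, 1), (75, 1), (76, 2), (75, 3), (56, 2), (8, 1), (11, 2), (9, 1)]),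
    ([5, 1, 0], [(23, 0), (67, 5), (48, 4), (40, 3), (33, 2), (22, 1), (12, 0), (72, 5), (5, 4), (11, 5), (64, 4), (10, 5), (74, 5), (7, 4), (11, 4), (75, 6), (65, 5), (8, 4), (76, 5), (66, 4), (77, 6), (10, 5), (11, 5)], [(12, 1), (22, 0), (68, 4), (58, 3), (34, 2), (23, 1), (74, 6), (55, 5), (47, 4), (7, 3), (75, 3), (76, 4), (11, 5), (11, 6), (59, 5), (50, 4), (42, 3), (24, 2), (65, 6), (56, 5), (8, 4), (76, 6), (66, 5), (9, 4), (11, 5), (10, 4), (26, 3), (72, 7), (62, 6), (53, 5), (5, 4), (76, 5), (66, 4), (77, 6), (10, 5), (11, 5)]),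
    ([5, 5, 2], [(5, 0), (69, 1), (59, 0)], [(24, 1), (24, 0), (62, 4), (53, 3), (45, 2), (5, 1), (75, 2), (65, 1), (76, 3), (66, 2), (77, 4), (10, 3), (75, 3), (56, 2), (8, 1), (76, 2), (9, 1), (77, 1)]),
    ([5, 2, 2], [(2, 1)], [(24, 0), (59, 4), (50, 3), (42, 2), (24, 1), (2, 0), (72, 0), (75, 1), (76, 2), (77, 3), (75, 4), (65, 3), (56, 2), (8, 1), (11, 3), (66, 2), (9, 1), (77, 2), (10, 1)]),
    ([5, 2, 0], [(24, 0), (57, 4), (48, 3), (40, 2), (22, 1), (13, 0), (53, 6), (45, 5), (38, 4), (32, 3), (5, 2), (73, 3), (63, 2), (77, 4), (10, 3), (11, 3), (55, 5), (47, 4), (7, 3), (75, 3), (76, 4), (77, 5), (11, 6), (65, 5), (56, 4), (8, 3), (66, 4), (9, 3), (10, 3), (77, 3), (11, 4)], [(13, 1), (22, 0), (69, 4), (59, 3), (35, 2), (24, 1), (64, 5), (55, 4), (47, 3), (10, 6), (72, 6), (53, 5), (45, 4), (38, 3), (5, 2), (74,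 3), (64, 2), (75, 4), (65, 3), (76, 5), (66, 4), (11, 6), (63, 5), (54, 4), (46, 3), (39, 2), (75, 4), (76, 5), (77, 6), (74, 7), (64, 6), (55, 5), (47, 4), (7, 3), (75, 3), (76, 4), (77, 5), (11, 6), (65, 5), (56, 4), (8, 3), (66, 4), (9, 3)]),
    ([5, 2, 1], [(24, 0), (58, 4), (49, 3), (41, 2), (23, 1), (14, 0), (72, 2), (74, 3), (75, 4), (76, 5), (11, 6), (56, 5), (8, 4), (76, 5), (9, 4), (77, 4), (11, 5)], [(14, 1), (23, 0), (69, 5), (50, 4), (42, 3), (35, 2), (24, 1), (64, 5), (55, 4), (47, 3), (65, 6), (56, 5), (8, 4), (76, 6), (66, 5), (9, 4), (11, 5), (11, 5)]),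
    ([5, 5, 3], [(5, 0), (70, 1), (60, 0)], [(25, 1), (25, 0), (45, 2), (5, 1), (75, 2), (65, 1), (75, 3), (65, 2), (8, 1)]),
    ([5, 3, 3], [(3, 1), (5, 0), (73, 1), (63, 0), (74, 2), (64, 1), (76, 3), (66, 2), (77, 4), (10, 3)], [(25, 0), (43, 2), (25, 1), (3, 0), (62, 4), (53, 3), (38, 2), (32, 1), (5, 0), (73, 1), (63, 0), (77, 2), (10, 1), (11, 1), (65, 3), (56, 2), (65, 4), (56, 3), (8, 2), (10, 3)]),
    ([5, 3, 0], [(25, 0), (40, 2), (22, 1), (15, 0), (72, 6), (62, 5), (45, 4), (32, 3), (75, 6), (65, 5), (77, 7), (10, 6), (11, 6), (47, 5), (75, 8), (65, 7), (8, 6)], [(15, 1), (22, 0), (70, 4), (60, 3), (36, 2), (25, 1), (47, 3), (71, 7), (61, 6), (52, 5), (44, 4), (37, 3), (26, 2), (74, 6), (64, 5), (55, 4), (75, 7), (65, 6), (56, 5), (11, 8), (66, 7), (9, 6), (10, 6), (73, 6), (46, 5), (39, 4), (75, 6), (11, 7),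 (8, 6)]),
    ([5, 3, 1], [(25, 0), (41, 2), (23, 1), (16, 0), (53, 6), (45, 5), (38, 4), (5, 3), (74, 4), (64, 3), (75, 5), (65, 4), (76, 6), (66, 5), (74, 7), (64, 6), (55, 5), (47, 4), (7, 3), (75, 3), (76, 4), (77, 5), (11, 6), (65, 5), (56, 4), (8, 3), (66, 4), (9, 3), (75, 4), (65, 3), (11, 5)], [(16, 1), (23, 0), (70, 5), (51, 4), (43, 3), (36, 2), (25, 1), (47, 3), (56, 5), (8, 4), (76, 6), (66, 5), (9, 4), (11, 5), (71, 5), (61, 4), (37, 3), (26, 2), (74, 6), (64, 5), (55, 4), (77, 7), (10, 6), (11, 6), (53, 5), (38, 4), (5, 3), (74, 4), (64, 3), (76, 5), (66, 4), (74, 6), (64, 5), (55, 4), (7, 3), (76, 3), (77, 4), (11, 5), (65, 4), (56, 3), (66, 5), (9, 4)]),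
    ([5, 3, 2], [(25, 0), (42, 2), (24, 1), (17, 0), (72, 6), (62, 5), (38, 4), (32, 3), (5, 2), (73, 3), (63, 2), (77, 4), (10, 3), (11, 3), (75, 5), (65, 4), (76, 6), (66, 5), (77, 7), (10, 6), (75, 6), (56, 5), (8, 4), (11, 5)], [(17, 1), (24, 0), (60, 4), (51, 3), (43, 2), (25, 1), (8, 3), (76, 4), (66, 3), (11, 5), (10, 4), (53, 3), (5, 2), (76, 3), (66, 2), (73, 4), (63, 3), (54, 2), (74, 5), (64, 4), (55, 3), (77, 6), (10, 5), (11, 5)]),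
    ([5, 5, 4], [(5, 0), (71, 1), (61, 0)], [(26, 1), (26, 0), (72, 4), (62, 3), (53, 2), (5, 1), (76, 2), (66, 1), (77, 3), (10, 2), (11, 2), (9, 1)]),
    ([5, 4, 4], [(4, 1)], [(26, 0), (71, 4), (61, 3), (52, 2), (26, 1), (4, 0), (53, 0), (9, 1), (76, 2), (66, 1), (77, 3), (10, 2), (11, 2)]),
    ([5, 4, 0], [(26, 0), (67, 4), (57, 3), (48, 2), (22, 1), (18, 0), (53, 5), (45, 4), (32, 3), (5, 2), (73, 3), (63, 2), (77, 4), (10, 3), (11, 3), (55, 4), (47, 3), (76, 7), (66, 6), (9, 5), (77, 6), (10, 5), (11, 5), (11, 6)], [(18, 1), (22, 0), (71, 4), (61, 3), (37, 2), (26, 1), (74, 5), (64, 4), (55, 3), (77, 6), (10, 5), (11, 5), (53, 4), (38, 3), (5, 2), (74, 3), (64, 2), (76, 4), (66, 3), (73, 5), (63, 4), (54, 3), (39, 2), (76, 4), (77, 5), (11, 6), (65, 5), (56, 4), (66, 6), (9, 5)]),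
    ([5, 4, 1], [(26, 0), (68, 4), (58, 3), (49, 2), (23, 1), (19, 0), (72, 5), (53, 4), (45, 3), (38, 2), (74, 6), (55, 5), (47, 4), (7, 3), (75, 3), (76, 4), (11, 5), (56, 4), (8, 3), (9, 3), (76, 3), (77, 4), (11, 5)], [(19, 1), (23, 0), (71, 5), (52, 4), (44, 3), (37, 2), (26, 1), (74, 5), (64, 4), (55, 3), (75, 6), (65, 5), (56, 4), (11, 7), (66, 6), (9, 5), (74, 6), (64, 5), (47, 4), (7, 3), (75, 3), (77, 4), (11, 5), (65, 4), (8, 3), (66, 3)]),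
    ([5, 4, 2], [(26, 0), (69, 4), (59, 3), (50, 2), (24, 1), (20, 0), (72, 5), (62, 4), (53, 3), (45, 2), (75, 6), (65, 5), (56, 4), (8, 3), (76, 5), (66, 4), (9, 3), (77, 4), (10, 3), (76, 3), (11, 4)], [(20, 1), (24, 0), (61, 4), (52, 3), (44, 2), (26, 1), (75, 5), (65, 4), (56, 3), (11, 6), (66, 5), (9, 4), (10, 4), (8, 3)]),
    ([5, 4, 3], [(26, 0), (70, 4), (60, 3), (51, 2), (25, 1), (21, 0), (72, 5), (62, 4), (53, 3), (45, 2), (75, 6), (65, 5), (56, 4), (8, 3), (76, 5), (66, 4), (9, 3), (11, 4), (10, 3)], [(21, 1), (25, 0), (44, 2), (26, 1), (75, 5), (65, 4), (56, 3), (11, 6), (65, 5), (56, 4), (8, 3), (66, 4), (9, 3), (10, 3)]),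
    ([6, 6, 0], [(6, 0)], [(27, 1), (27, 0), (73, 5), (63, 4), (46, 3), (39, 2), (6, 1), (75, 2), (77, 3), (11, 4), (64, 3), (47, 2), (7, 1), (75, 1), (77, 2), (75, 3), (65, 2), (8, 1), (77, 2), (10, 1), (11, 1)]),
    ([6, 0, 0], [(0, 1), (29, 0), (61, 4), (52, 3), (44, 2), (31, 1), (75, 4), (56, 3), (11, 5), (9, 4), (63, 4), (46, 3), (6, 2), (64, 3), (47, 2), (66, 4), (10, 5)], [(27, 0), (67, 5), (57, 4), (40, 3), (33, 2), (27, 1), (0, 0), (63, 5), (54, 4), (39, 3), (6, 2), (76, 3), (77, 4), (74, 5), (64, 4), (55, 3), (7, 2), (76, 2), (77, 3), (11, 4), (65, 3), (56, 2), (10, 4), (74, 4), (55, 3), (47, 2), (75, 5), (56, 4), (8, 3), (77, 4), (11, 5), (65, 4), (56, 3), (10, 5), (11, 5)])]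
  fuses := [
    ⟨0, [0, 0], [2, 4], [(67, 5), (48, 4), (40, 3), (33, 2), (27, 1), (0, 0), (63, 5), (54, 4), (39, 3), (6, 2), (76, 3), (77, 4), (74, 5), (64, 4), (55, 3), (7, 2), (76, 2), (77, 3), (11, 4), (65, 3), (56, 2), (10, 4), (74, 4), (55, 3), (47, 2), (75, 5), (56, 4), (8, 3), (77, 4), (11, 5), (65, 4), (56, 3), (66, 5), (9, 4), (10, 4), (11, 4), (46, 3), (39, 2), (75, 4), (74, 5), (47, 4), (7, 3), (75, 3), (11, 4), (8, 3)], [(71, 2), (44, 1), (11, 3), (46, 2), (8, 3)], [(68, 6), (41, 5), (28, 4), (23, 3), (16, 2), (14, 1), (1, 0), (69, 0), (11, 1), (53, 6), (45, 5), (38, 4), (5, 3), (74, 4), (64, 3), (75, 5), (65, 4), (76, 6), (66, 5), (74, 7), (64, 6), (55, 5), (47, 4), (7, 3), (75, 3), (76, 4), (77, 5), (11, 6), (65, 5), (56, 4), (8, 3), (66, 4), (9, 3), (73, 4), (63, 3), (74, 5), (64, 4), (75, 6), (65, 5), (76,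 7), (66, 6), (11, 8), (65, 7), (56, 6), (8, 5), (11, 7), (59, 6), (50, 5), (35, 4), (29, 3), (20, 2), (17, 1), (2, 0), (70, 0), (72, 1), (73, 2), (74, 3), (77, 4), (11, 5), (61, 4), (37, 3), (31, 2), (26, 1), (73, 5), (63, 4), (54, 3), (76, 6), (66, 5), (9, 4), (11, 5), (64, 4), (10, 5), (73, 8), (63, 7), (54, 6), (46, 5), (39, 4), (6, 3), (75, 4), (76, 5), (77, 6), (11, 7), (65, 6), (56, 5), (8, 4), (66, 5), (9, 4), (10, 4), (7, 3), (76, 3), (11, 4), (60, 4), (51, 3), (25, 2), (21, 1), (3, 0), (61, 4), (52, 3), (37, 2), (31, 1), (26, 0), (73, 4), (63, 3), (54, 2), (76, 5), (66, 4), (9, 3), (11, 4), (64, 3), (66, 4), (10, 5), (56, 4), (9, 5), (72, 6), (62, 5), (45, 4), (38, 3), (32, 2), (5, 1), (73, 2), (63, 1), (77, 3), (10, 2), (11, 2), (75, 5), (65, 4), (8, 3), (76, 4), (66, 3), (11, 5), (10, 4), (53, 3), (38, 2), (32,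 1), (74, 4), (64, 3), (76, 5), (66, 4), (73, 6), (63, 5), (54, 4), (39, 3), (6, 2), (76, 3), (77, 4), (11, 5), (65, 4), (56, 3)], [(69, 2), (42, 1), (2, 0), (75, 0), (11, 1), (71, 1), (44, 0), (11, 2), (45, 1), (47, 2)]⟩,
    ⟨0, [1, 0], [0, 1, 2, 4, 5], [(67, 3), (48, 2), (40, 1), (12, 0), (75, 5), (76, 6), (77, 7), (11, 8), (73, 8), (63, 7), (54, 6), (46, 5), (74, 9), (64, 8), (55, 7), (47, 6), (75, 10), (65, 9), (56, 8), (8, 7), (76, 9), (66, 8), (9, 7), (11, 8)], [(68, 5), (49, 4), (41, 3), (34, 2), (28, 1), (74, 6), (55, 5), (47, 4), (7, 3), (75, 3), (76, 4), (11, 5), (56, 4), (8, 3), (76, 4), (9, 3), (11, 3), (69, 5), (50, 4), (42, 3), (29, 2), (65, 6), (56, 5), (8, 4), (76, 6), (66, 5), (9, 4), (11, 5), (75, 5), (65, 4), (11, 6), (61, 5), (44, 4), (31, 3), (75, 6), (56, 5), (11, 7), (63, 7), (54, 6), (46, 5), (6,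 4), (65, 6), (56, 5), (8, 4), (66, 5), (9, 4), (72, 5), (62, 4), (73, 6), (63, 5), (74, 7), (64, 6), (11, 8)], [(68, 6), (49, 5), (34, 4), (28, 3), (23, 2), (14, 1), (1, 0), (69, 0), (11, 1), (73, 5), (54, 4), (46, 3), (39, 2), (75, 4), (76, 5), (11, 6), (55, 5), (47, 4), (7, 3), (75, 3), (76, 4), (75, 5), (56, 4), (8, 3), (76, 4), (9, 3), (11, 3), (69, 5), (50, 4), (35, 3), (29, 2), (24, 1), (2, 0), (72, 0), (75, 1), (76, 2), (77, 3), (73, 4), (63, 3), (54, 2), (46, 1), (75, 5), (65, 4), (56, 3), (8, 2), (76, 4), (66, 3), (9, 2), (77, 3), (10, 2), (74, 2), (76, 3), (11, 4), (70, 4), (51, 3), (36, 2), (30, 1), (25, 0), (46, 2), (8, 3), (74, 4), (55, 3), (76, 5), (9, 4), (76, 4), (11, 5), (72, 5), (53, 4), (38, 3), (32, 2), (5, 1), (73, 2), (63, 1), (77, 3), (10, 2), (11, 2), (73, 4), (54, 3), (39, 2), (6, 1), (76, 2), (11,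 3), (56, 2)], [(68, 6), (41, 5), (28, 4), (23, 3), (16, 2), (14, 1), (1, 0), (69, 0), (11, 1), (53, 6), (45, 5), (38, 4), (5, 3), (74, 4), (64, 3), (75, 5), (65, 4), (76, 6), (66, 5), (74, 7), (64, 6), (55, 5), (47, 4), (7, 3), (75, 3), (76, 4), (77, 5), (11, 6), (65, 5), (56, 4), (8, 3), (66, 4), (9, 3), (73, 4), (63, 3), (74, 5), (64, 4), (75, 6), (65, 5), (76, 7), (66, 6), (11, 8), (65, 7), (56, 6), (8, 5), (11, 7), (59, 6), (50, 5), (35, 4), (29, 3), (20, 2), (17, 1), (2, 0), (70, 0), (72, 1), (73, 2), (74, 3), (77, 4), (11, 5), (61, 4), (37, 3), (31, 2), (26, 1), (73, 5), (63, 4), (54, 3), (76, 6), (66, 5), (9, 4), (11, 5), (64, 4), (10, 5), (73, 8), (63, 7), (54, 6), (46, 5), (39, 4), (6, 3), (75, 4), (76, 5), (77, 6), (11, 7), (65, 6), (56, 5), (8, 4), (66, 5), (9, 4), (10, 4), (7, 3), (76, 3), (11, 4), (62, 4), (53,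 3), (5, 2), (76, 3), (66, 2), (77, 4), (10, 3), (73, 3), (54, 2), (74, 4), (55, 3), (76, 5), (9, 4), (11, 4), (35, 3), (29, 2), (20, 1), (17, 0), (71, 6), (61, 5), (37, 4), (31, 3), (26, 2), (73, 6), (63, 5), (54, 4), (76, 7), (66, 6), (9, 5), (11, 6), (64, 5), (10, 6), (75, 6), (76, 7), (77, 8), (11, 9), (63, 8), (54, 7), (46, 6), (39, 5), (6, 4), (75, 5), (76, 6), (77, 7), (75, 8), (65, 7), (56, 6), (8, 5), (76, 7), (66, 6), (9, 5), (77, 6), (10, 5), (74, 5), (7, 4), (11, 4), (69, 5), (42, 4), (24, 3), (20, 2), (17, 1), (2, 0), (70, 0), (72, 1), (73, 2), (74, 3), (77, 4), (11, 5), (61, 4), (37, 3), (31, 2), (26, 1), (73, 5), (63, 4), (54, 3), (76, 6), (66, 5), (9, 4), (11, 5), (64, 4), (10, 5), (72, 8), (62, 7), (53, 6), (45, 5), (38, 4), (32, 3), (5, 2), (73, 3), (63, 2), (77, 4), (10, 3), (11, 3), (75, 7), (65, 6), (56,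 5), (8, 4), (76, 6), (66, 5), (9, 4), (77, 5), (10, 4), (75, 4), (11, 5), (71, 5), (44, 4), (37, 3), (31, 2), (4, 1), (54, 1), (9, 2), (74, 2), (75, 3), (11, 4), (72, 4), (45, 3), (38, 2), (32, 1), (74, 4), (64, 3), (75, 5), (65, 4), (11, 6), (64, 5), (47, 4), (7, 3), (75, 3), (77, 4), (76, 5), (66, 4), (77, 6), (10, 5), (11, 5), (53, 4), (45, 3), (32, 2), (5, 1), (73, 2), (63, 1), (77, 3), (10, 2), (11, 2), (54, 3), (46, 2), (6, 1), (55, 2), (47, 1)]⟩,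
    ⟨0, [2, 0], [0, 2, 5], [(67, 2), (40, 1), (13, 0), (56, 6), (8, 5), (73, 6), (54, 5), (39, 4), (6, 3), (76, 4), (11, 5), (55, 4), (7, 3), (76, 3), (75, 4), (56, 3), (76, 5), (9, 4), (11, 4)], [(69, 5), (50, 4), (42, 3), (35, 2), (29, 1), (64, 5), (55, 4), (47, 3), (65, 6), (56, 5), (8, 4), (76, 6), (66, 5), (9, 4), (11, 5), (75, 5), (65, 4), (11, 6), (62, 5), (45, 4), (38, 3), (32, 2), (74, 5), (64, 4), (75, 6), (65, 5), (77, 7), (10, 6), (73, 6), (46, 5), (39, 4), (6, 3), (75, 4), (11, 5), (47, 4), (7, 3), (75, 3), (11, 4)], [(68, 2), (41, 1), (14, 0), (75, 2), (11, 3), (69, 3), (42, 2), (2, 1), (75, 1), (11, 2), (70, 2), (43, 1), (11, 4), (62, 3), (45, 2), (63, 4), (46, 3), (65, 5), (8, 4)], [(69, 6), (42, 5), (29, 4), (24, 3), (17, 2), (2, 1), (70, 1), (72, 2), (73, 3), (74, 4), (77, 5), (11, 6), (62, 5), (38, 4),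 (32, 3), (5, 2), (73, 3), (63, 2), (77, 4), (10, 3), (11, 3), (65, 4), (66, 5), (10, 6), (54, 5), (46, 4), (39, 3), (6, 2), (75, 3), (76, 4), (75, 5), (56, 4), (8, 3), (76, 4), (9, 3), (77, 3), (75, 4), (65, 3), (11, 5), (75, 5), (65, 4), (8, 3), (11, 4), (62, 3), (38, 2), (63, 4), (39, 3), (77, 5), (74, 6), (64, 5), (7, 4), (77, 4), (11, 5)]⟩,
    ⟨0, [3, 0], [0, 3, 4], [(67, 4), (48, 3), (40, 2), (33, 1), (15, 0), (74, 6), (64, 5), (47, 4), (75, 7), (65, 6), (8, 5), (77, 6), (10, 5), (11, 5), (11, 8), (63, 7), (54, 6), (46, 5), (39, 4), (6, 3), (75, 4), (76, 5), (77, 6), (74, 7), (64, 6), (55, 5), (47, 4), (7, 3), (75, 3), (76, 4), (77, 5), (11, 6), (65, 5), (56, 4), (8, 3), (66, 4), (9, 3)], [(70, 5), (51, 4), (43, 3), (36, 2), (30, 1), (74, 5), (55, 4), (47, 3), (76, 6), (9, 5), (75, 5), (8, 4), (77, 4), (11, 5), (66,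 4), (11, 6), (64, 5), (55, 4), (7, 3), (76, 3), (77, 4), (75, 5), (65, 4), (56, 3), (76, 6), (66, 5), (9, 4), (11, 5), (61, 4), (44, 3), (31, 2), (75, 5), (56, 4), (11, 6), (63, 6), (54, 5), (46, 4), (6, 3), (65, 5), (56, 4), (8, 3), (66, 4), (9, 3)], [(58, 7), (34, 6), (28, 5), (23, 4), (19, 3), (14, 2), (1, 1), (69, 1), (11, 2), (72, 6), (53, 5), (45, 4), (38, 3), (74, 7), (55, 6), (47, 5), (7, 4), (75, 4), (76, 5), (11, 6), (56, 5), (8, 4), (9, 4), (73, 4), (74, 5), (75, 6), (76, 7), (11, 8), (55, 7), (47, 6), (7, 5), (75, 5), (76, 6), (77, 7), (11, 8), (59, 7), (50, 6), (42, 5), (29, 4), (24, 3), (20, 2), (2, 1), (71, 1), (75, 2), (76, 3), (77, 4), (11, 5), (62, 4), (53, 3), (45, 2), (65, 5), (56, 4), (8, 3), (66, 4), (9, 3), (10, 3), (65, 6), (56, 5), (8, 4), (76, 6), (66, 5), (9, 4), (11, 5), (10, 4), (30, 3), (25,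 2), (21, 1), (72, 6), (62, 5), (53, 4), (45, 3), (75, 7), (65, 6), (56, 5), (8, 4), (73, 6), (63, 5), (54, 4), (75, 7), (65, 6), (56, 5), (76, 8), (66, 7), (9, 6), (11, 7), (62, 6), (45, 5), (32, 4), (5, 3), (73, 4), (63, 3), (77, 5), (10, 4), (11, 4), (63, 5), (46, 4), (6, 3), (65, 4), (8, 3)], [(67, 6), (40, 5), (27, 4), (22, 3), (15, 2), (13, 1), (12, 0), (69, 5), (24, 4), (20, 3), (2, 2), (71, 2), (75, 3), (76, 4), (77, 5), (11, 6), (62, 5), (53, 4), (45, 3), (65, 6), (56, 5), (8, 4), (66, 5), (9, 4), (10, 4), (72, 4), (5, 3), (11, 4), (63, 3), (64, 4), (65, 5), (66, 6), (60, 7), (51, 6), (43, 5), (36, 4), (30, 3), (21, 2), (73, 7), (63, 6), (54, 5), (46, 4), (75, 8), (65, 7), (56, 6), (8, 5), (76, 7), (66, 6), (9, 5), (11, 6), (64, 5), (66, 6), (65, 7), (56, 6), (10, 8), (76, 8), (9, 7), (11, 7), (61, 7), (44, 6), (37,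 5), (31, 4), (4, 3), (54, 3), (9, 4), (74, 4), (75, 5), (11, 6), (63, 6), (46, 5), (39, 4), (6, 3), (75, 4), (77, 5), (75, 6), (65, 5), (8, 4), (77, 5), (10, 4), (11, 4), (38, 3), (7, 4), (77, 4), (11, 5), (63, 4), (64, 5), (65, 6), (10, 7), (75, 7), (8, 6), (11, 6), (34, 5), (28, 4), (23, 3), (16, 2), (1, 1), (70, 1), (71, 2), (72, 3), (74, 4), (75, 5), (76, 6), (72, 7), (53, 6), (45, 5), (38, 4), (5, 3), (74, 4), (64, 3), (75, 5), (65, 4), (76, 6), (66, 5), (11, 7), (64, 6), (55, 5), (47, 4), (7, 3), (75, 3), (76, 4), (77, 5), (75, 6), (65, 5), (56, 4), (8, 3), (76, 5), (66, 4), (9, 3), (11, 4), (63, 3), (64, 4), (65, 5), (66, 6), (74, 8), (64, 7), (55, 6), (47, 5), (7, 4), (75, 4), (76, 5), (77, 6), (11, 7), (59, 6), (50, 5), (42, 4), (29, 3), (20, 2), (17, 1), (71, 7), (61, 6), (37, 5), (31, 4), (26, 3), (73, 7), (63,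 6), (54, 5), (76, 8), (66, 7), (9, 6), (11, 7), (64, 6), (10, 7), (75, 7), (76, 8), (77, 9), (11, 10), (63, 9), (54, 8), (46, 7), (39, 6), (6, 5), (75, 6), (76, 7), (77, 8), (75, 9), (65, 8), (56, 7), (8, 6), (76, 8), (66, 7), (9, 6), (77, 7), (10, 6), (75, 6), (11, 7), (77, 8), (71, 9), (61, 8), (52, 7), (44, 6), (37, 5), (26, 4), (4, 3), (53, 3), (9, 4), (74, 5), (64, 4), (75, 6), (65, 5), (11, 7), (66, 6), (10, 7), (72, 7), (53, 6), (45, 5), (38, 4), (5, 3), (74, 4), (64, 3), (75, 5), (65, 4), (76, 6), (66, 5), (11, 7), (63, 6), (54, 5), (46, 4), (39, 3), (75, 5), (76, 6), (77, 7), (74, 8), (64, 7), (55, 6), (47, 5), (7, 4), (75, 4), (76, 5), (77, 6), (11, 7), (10, 6), (50, 5), (42, 4), (29, 3), (17, 2), (2, 1), (70, 1), (72, 2), (73, 3), (74, 4), (77, 5), (11, 6), (63, 5), (39, 4), (6, 3), (77, 4), (75, 5), (65, 4),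 (76, 6), (66, 5), (77, 7), (10, 6), (75, 6), (56, 5), (8, 4), (11, 5), (9, 4), (71, 4), (37, 3), (26, 2), (74, 6), (64, 5), (55, 4), (11, 7), (62, 6), (53, 5), (38, 4), (5, 3), (74, 4), (64, 3), (76, 5), (66, 4), (77, 6), (10, 5), (74, 5), (55, 4), (7, 3), (76, 3), (11, 4), (9, 3)]⟩,
    ⟨0, [3, 1], [1, 3, 4, 5], [(68, 4), (49, 3), (41, 2), (34, 1), (16, 0), (55, 6), (47, 5), (7, 4), (75, 4), (76, 5), (75, 6), (56, 5), (8, 4), (11, 5), (9, 4), (75, 4), (76, 5), (11, 6)], [(70, 3), (51, 2), (43, 1), (76, 4), (66, 3), (11, 5), (74, 5), (64, 4), (55, 3), (47, 2), (75, 6), (65, 5), (56, 4), (8, 3), (76, 5), (66, 4), (9, 3), (11, 4), (61, 3), (37, 2), (63, 4), (39, 3), (77, 5), (75, 6), (65, 5), (76, 7), (66, 6), (11, 8), (62, 7), (53, 6), (45, 5), (38, 4), (32, 3), (74, 6), (64, 5), (75, 7), (65, 6), (76, 8), (66, 7), (77, 9),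 (10, 8), (73, 8), (54, 7), (46, 6), (39, 5), (6, 4), (75, 5), (76, 6), (11, 7), (55, 6), (47, 5), (7, 4), (75, 4), (76, 5), (11, 6)], [(58, 7), (34, 6), (28, 5), (23, 4), (19, 3), (14, 2), (1, 1), (69, 1), (11, 2), (72, 6), (53, 5), (45, 4), (38, 3), (74, 7), (55, 6), (47, 5), (7, 4), (75, 4), (76, 5), (11, 6), (56, 5), (8, 4), (9, 4), (73, 4), (74, 5), (75, 6), (76, 7), (11, 8), (55, 7), (47, 6), (7, 5), (75, 5), (76, 6), (77, 7), (11, 8), (59, 7), (50, 6), (42, 5), (29, 4), (24, 3), (20, 2), (2, 1), (71, 1), (75, 2), (76, 3), (77, 4), (11, 5), (62, 4), (53, 3), (45, 2), (65, 5), (56, 4), (8, 3), (66, 4), (9, 3), (10, 3), (65, 6), (56, 5), (8, 4), (76, 6), (66, 5), (9, 4), (11, 5), (10, 4), (32, 3), (5, 2), (73, 3), (63, 2), (77, 4), (10, 3), (11, 3), (6, 2)], [(67, 6), (48, 5), (33, 4), (27, 3), (22, 2), (13, 1), (12,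 0), (69, 5), (24, 4), (20, 3), (2, 2), (71, 2), (75, 3), (76, 4), (77, 5), (11, 6), (62, 5), (53, 4), (45, 3), (65, 6), (56, 5), (8, 4), (66, 5), (9, 4), (10, 4), (72, 4), (5, 3), (11, 4), (63, 3), (64, 4), (65, 5), (66, 6), (62, 7), (53, 6), (45, 5), (38, 4), (32, 3), (74, 6), (64, 5), (75, 7), (65, 6), (76, 8), (66, 7), (77, 9), (10, 8), (74, 8), (55, 7), (47, 6), (7, 5), (75, 5), (76, 6), (11, 7), (73, 8), (63, 7), (54, 6), (46, 5), (6, 4), (74, 7), (64, 6), (55, 5), (47, 4), (75, 8), (65, 7), (56, 6), (8, 5), (77, 7), (10, 6), (11, 6), (55, 5), (7, 4), (76, 4), (75, 5), (56, 4), (77, 6), (11, 7), (66, 6), (9, 5), (10, 5), (11, 5), (41, 4), (23, 3), (19, 2), (1, 1), (71, 1), (74, 2), (75, 3), (76, 4), (11, 5), (53, 4), (45, 3), (38, 2), (55, 5), (47, 4), (7, 3), (75, 3), (76, 4), (75, 5), (56, 4), (8, 3), (76, 4), (9,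 3), (11, 3), (69, 4), (42, 3), (24, 2), (20, 1), (72, 6), (62, 5), (53, 4), (45, 3), (75, 7), (65, 6), (56, 5), (8, 4), (76, 6), (66, 5), (9, 4), (77, 5), (10, 4), (75, 4), (11, 5), (71, 5), (44, 4), (26, 3), (4, 2), (53, 2), (9, 3), (75, 4), (65, 3), (11, 5), (72, 5), (62, 4), (45, 3), (5, 2), (75, 3), (65, 2), (77, 4), (10, 3), (11, 3), (46, 2), (47, 3), (59, 5), (42, 4), (35, 3), (29, 2), (2, 1), (73, 1), (75, 2), (76, 3), (77, 4), (74, 5), (64, 4), (55, 3), (47, 2), (75, 6), (65, 5), (56, 4), (8, 3), (11, 5), (10, 4), (52, 3), (37, 2), (31, 1), (74, 4), (55, 3), (76, 5), (9, 4), (72, 4), (38, 3), (32, 2), (74, 5), (64, 4), (11, 6), (64, 5), (7, 4), (77, 4), (76, 5), (66, 4), (77, 6), (10, 5), (11, 5), (53, 4), (32, 3), (5, 2), (73, 3), (63, 2), (77, 4), (10, 3), (11, 3), (54, 3), (6, 2), (55, 2)]⟩,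
    ⟨1, [0, 0], [2, 4, 6], [(57, 5), (48, 4), (40, 3), (33, 2), (27, 1), (0, 0), (63, 5), (54, 4), (39, 3), (6, 2), (76, 3), (77, 4), (74, 5), (64, 4), (55, 3), (7, 2), (76, 2), (77, 3), (11, 4), (65, 3), (56, 2), (10, 4), (74, 4), (55, 3), (47, 2), (75, 5), (56, 4), (8, 3), (77, 4), (11, 5), (65, 4), (56, 3), (66, 5), (9, 4), (10, 4), (77, 4), (11, 5), (63, 4), (46, 3), (39, 2), (75, 4), (77, 5), (74, 6), (64, 5), (47, 4), (7, 3), (75, 3), (77, 4), (11, 5), (65, 4), (8, 3), (66, 3), (10, 4)], [(44, 1), (73, 3), (46, 2), (75, 4), (8, 3), (76, 3), (11, 4)], [(60, 2), (51, 1), (3, 0), (66, 4), (9, 3), (77, 4), (10, 3), (76, 3), (77, 4)], [(62, 8), (53, 7), (38, 6), (32, 5), (74, 8), (64, 7), (76, 9), (66, 8), (77, 10), (10, 9), (73, 9), (54, 8), (39, 7), (6, 6), (76, 7), (11, 8), (55, 7), (7, 6), (76, 6), (75, 7), (56, 6),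 (11, 8), (48, 7), (40, 6), (22, 5), (18, 4), (15, 3), (13, 2), (12, 1), (0, 0), (58, 5), (49, 4), (34, 3), (28, 2), (19, 1), (14, 0), (71, 2), (74, 3), (75, 4), (76, 5), (11, 6), (54, 5), (46, 4), (39, 3), (75, 5), (76, 6), (74, 7), (55, 6), (47, 5), (7, 4), (75, 4), (76, 5), (11, 6), (56, 5), (8, 4), (9, 4), (74, 4), (76, 5), (77, 6), (11, 7), (59, 6), (50, 5), (35, 4), (29, 3), (20, 2), (2, 1), (71, 1), (75, 2), (76, 3), (77, 4), (11, 5), (63, 4), (54, 3), (46, 2), (65, 5), (56, 4), (8, 3), (66, 4), (9, 3), (10, 3), (77, 5), (71, 6), (61, 5), (52, 4), (37, 3), (31, 2), (4, 1), (54, 1), (9, 2), (74, 2), (76, 3), (77, 4), (11, 5), (62, 4), (53, 3), (38, 2), (32, 1), (74, 4), (64, 3), (76, 5), (66, 4), (77, 6), (10, 5), (11, 5), (50, 4), (35, 3), (29, 2), (24, 1), (63, 5), (54, 4), (46, 3), (65, 6), (56, 5), (8, 4), (66,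 5), (9, 4), (10, 4), (72, 6), (53, 5), (38, 4), (32, 3), (5, 2), (73, 3), (63, 2), (77, 4), (10, 3), (11, 3), (73, 5), (54, 4), (39, 3), (6, 2), (76, 3), (11, 4), (55, 3), (7, 2), (76, 2), (75, 3), (56, 2), (76, 4), (9, 3), (70, 3), (43, 2), (11, 5), (61, 4), (44, 3), (77, 5), (73, 6), (63, 5), (46, 4), (75, 7), (65, 6), (8, 5), (77, 6), (10, 5), (11, 5), (31, 4), (4, 3), (54, 3), (9, 4), (72, 4), (32, 3), (11, 6), (63, 5), (6, 4), (65, 4), (66, 5), (62, 6), (53, 5), (45, 4), (5, 3), (75, 4), (65, 3), (76, 5), (66, 4), (77, 6), (10, 5), (74, 5), (55, 4), (47, 3), (77, 6), (11, 7), (65, 6), (56, 5), (8, 4), (66, 5), (9, 4), (10, 4), (68, 4), (34, 3), (16, 2), (14, 1), (1, 0), (69, 0), (11, 1), (55, 6), (47, 5), (7, 4), (75, 4), (76, 5), (11, 6), (50, 5), (42, 4), (24, 3), (20, 2), (17, 1), (2, 0), (70, 0), (72, 1), (73, 2),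 (74, 3), (77, 4), (11, 5), (61, 4), (37, 3), (31, 2), (26, 1), (73, 5), (63, 4), (54, 3), (76, 6), (66, 5), (9, 4), (11, 5), (64, 4), (10, 5), (72, 8), (62, 7), (53, 6), (45, 5), (38, 4), (32, 3), (5, 2), (73, 3), (63, 2), (77, 4), (10, 3), (11, 3), (75, 7), (65, 6), (56, 5), (8, 4), (76, 6), (66, 5), (9, 4), (77, 5), (10, 4), (75, 4), (11, 5), (70, 6), (51, 5), (43, 4), (36, 3), (30, 2), (21, 1), (3, 0), (61, 4), (52, 3), (37, 2), (31, 1), (26, 0), (73, 4), (63, 3), (54, 2), (76, 5), (66, 4), (9, 3), (11, 4), (64, 3), (66, 4), (10, 5), (56, 4), (9, 5), (73, 6), (63, 5), (46, 4), (39, 3), (6, 2), (75, 3), (77, 4), (11, 5), (65, 4), (8, 3), (66, 3), (74, 5), (64, 4), (55, 3), (7, 2), (76, 2), (77, 3), (11, 4), (66, 3), (9, 2), (65, 2), (10, 3), (76, 3), (11, 4), (71, 4), (52, 3), (44, 2), (26, 1), (4, 0), (53, 0), (9, 1),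 (75, 2), (65, 1), (11, 3), (66, 2), (73, 4), (63, 3), (54, 2), (46, 1), (74, 5), (64, 4), (55, 3), (47, 2), (75, 6), (65, 5), (56, 4), (8, 3)]⟩,
    ⟨1, [1, 0], [0, 1, 2, 4, 5], [(48, 2), (40, 1), (12, 0), (75, 5), (76, 6), (77, 7), (11, 8), (63, 7), (54, 6), (46, 5), (64, 8), (55, 7), (47, 6), (65, 9), (56, 8), (8, 7), (66, 8), (9, 7), (10, 7)], [(58, 5), (49, 4), (41, 3), (34, 2), (28, 1), (74, 6), (55, 5), (47, 4), (7, 3), (75, 3), (76, 4), (11, 5), (56, 4), (8, 3), (76, 4), (9, 3), (77, 3), (11, 4), (65, 3), (66, 4), (59, 5), (50, 4), (42, 3), (29, 2), (65, 6), (56, 5), (8, 4), (76, 6), (66, 5), (9, 4), (11, 5), (10, 4), (44, 4), (31, 3), (75, 6), (56, 5), (11, 7), (54, 6), (46, 5), (6, 4), (56, 5), (8, 4), (9, 4)], [(43, 3), (30, 2), (25, 1), (46, 3), (8, 4), (75, 5), (56, 4), (77, 6), (11, 7), (66, 6), (9, 5), (10,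 5)], [(59, 2), (50, 1), (17, 0), (76, 6), (66, 5), (11, 7), (10, 6), (53, 5), (38, 4), (32, 3), (5, 2), (73, 3), (63, 2), (77, 4), (10, 3), (11, 3), (54, 4), (39, 3), (6, 2), (76, 3), (75, 4), (56, 3), (67, 5), (48, 4), (40, 3), (33, 2), (15, 1), (13, 0), (51, 6), (43, 5), (36, 4), (30, 3), (25, 2), (46, 4), (8, 5), (74, 6), (55, 5), (76, 7), (9, 6), (75, 6), (77, 7), (11, 8), (66, 7), (71, 9), (61, 8), (52, 7), (44, 6), (37, 5), (31, 4), (26, 3), (73, 7), (63, 6), (54, 5), (76, 8), (66, 7), (9, 6), (11, 7), (64, 6), (65, 7), (76, 9), (66, 8), (77, 10), (10, 9), (11, 9), (54, 8), (46, 7), (39, 6), (6, 5), (75, 6), (76, 7), (75, 8), (56, 7), (8, 6), (77, 7), (11, 8), (64, 7), (55, 6), (7, 5), (76, 5), (77, 6), (75, 7), (65, 6), (56, 5), (77, 8), (10, 7), (11, 7), (56, 6), (8, 5), (9, 5), (11, 6), (58, 5), (23, 4), (19, 3),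 (16, 2), (14, 1), (70, 3), (71, 4), (72, 5), (74, 6), (75, 7), (76, 8), (71, 9), (52, 8), (44, 7), (37, 6), (26, 5), (4, 4), (53, 4), (9, 5), (74, 6), (64, 5), (75, 7), (65, 6), (11, 8), (66, 7), (74, 9), (64, 8), (55, 7), (47, 6), (7, 5), (75, 5), (76, 6), (77, 7), (11, 8), (65, 7), (56, 6), (8, 5), (66, 6), (9, 5), (72, 6), (62, 5), (5, 4), (77, 5), (10, 4), (11, 4), (77, 7), (11, 8), (59, 7), (50, 6), (42, 5), (35, 4), (17, 3), (2, 2), (70, 2), (72, 3), (73, 4), (74, 5), (77, 6), (11, 7), (64, 6), (7, 5), (77, 5), (75, 6), (65, 5), (11, 7), (66, 6), (77, 8), (10, 7), (70, 7), (51, 6), (43, 5), (30, 4), (25, 3), (3, 2), (62, 6), (53, 5), (38, 4), (32, 3), (5, 2), (73, 3), (63, 2), (77, 4), (10, 3), (11, 3), (65, 5), (56, 4), (63, 6), (54, 5), (46, 4), (39, 3), (6, 2), (75, 3), (76, 4), (77, 5), (75, 6), (65, 5), (56, 4),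 (8, 3), (76, 5), (66, 4), (9, 3), (11, 4), (65, 3), (10, 4), (76, 4), (11, 5), (71, 5), (52, 4), (44, 3), (37, 2), (76, 5), (11, 6), (54, 5), (46, 4), (39, 3), (75, 5), (76, 6), (74, 7), (55, 6), (47, 5), (7, 4), (75, 4), (76, 5), (11, 6), (9, 5), (62, 5), (45, 4), (32, 3), (75, 6), (65, 5), (77, 7), (10, 6), (73, 6), (46, 5), (6, 4), (74, 5), (47, 4), (75, 6), (8, 5), (11, 5), (33, 4), (22, 3), (18, 2), (12, 1), (0, 0), (58, 5), (49, 4), (34, 3), (28, 2), (19, 1), (14, 0), (71, 2), (74, 3), (75, 4), (76, 5), (11, 6), (54, 5), (46, 4), (39, 3), (75, 5), (76, 6), (74, 7), (55, 6), (47, 5), (7, 4), (75, 4), (76, 5), (11, 6), (56, 5), (8, 4), (9, 4), (74, 4), (76, 5), (77, 6), (11, 7), (59, 6), (50, 5), (35, 4), (29, 3), (20, 2), (2, 1), (71, 1), (75, 2), (76, 3), (77, 4), (11, 5), (63, 4), (54, 3), (46, 2), (65, 5), (56, 4),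 (8, 3), (66, 4), (9, 3), (10, 3), (77, 5), (71, 6), (61, 5), (52, 4), (37, 3), (31, 2), (4, 1), (54, 1), (9, 2), (74, 2), (76, 3), (77, 4), (11, 5), (62, 4), (53, 3), (38, 2), (32, 1), (74, 4), (64, 3), (76, 5), (66, 4), (77, 6), (10, 5), (11, 5), (52, 4), (37, 3), (31, 2), (26, 1), (73, 5), (63, 4), (54, 3), (76, 6), (66, 5), (9, 4), (11, 5), (64, 4), (66, 5), (62, 6), (53, 5), (38, 4), (32, 3), (5, 2), (73, 3), (63, 2), (77, 4), (10, 3), (11, 3), (63, 5), (54, 4), (39, 3), (6, 2), (76, 3), (77, 4), (75, 5), (65, 4), (56, 3), (76, 6), (66, 5), (9, 4), (72, 5), (62, 4), (45, 3), (38, 2), (74, 6), (64, 5), (47, 4), (7, 3), (75, 3), (77, 4), (11, 5), (10, 4), (74, 4), (47, 3), (75, 5), (8, 4), (77, 4), (11, 5), (58, 4), (34, 3), (23, 2), (19, 1), (1, 0), (71, 0), (74, 1), (75, 2), (76, 3), (11, 4), (53, 3), (45, 2), (38, 1),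 (55, 4), (47, 3), (7, 2), (75, 2), (76, 3), (75, 4), (56, 3), (8, 2), (76, 3), (9, 2), (11, 2), (69, 4), (59, 3), (35, 2), (24, 1), (20, 0), (72, 5), (62, 4), (53, 3), (45, 2), (75, 6), (65, 5), (56, 4), (8, 3), (76, 5), (66, 4), (9, 3), (77, 4), (10, 3), (74, 3), (77, 4), (11, 5), (60, 4), (36, 3), (25, 2), (21, 1), (72, 6), (62, 5), (53, 4), (45, 3), (75, 7), (65, 6), (56, 5), (8, 4), (74, 6), (64, 5), (55, 4), (76, 7), (66, 6), (9, 5), (77, 6), (10, 5), (71, 5), (37, 4), (26, 3), (4, 2), (53, 2), (9, 3), (74, 4), (64, 3), (11, 5), (63, 4), (39, 3), (77, 5), (74, 6), (64, 5), (7, 4), (77, 4), (11, 5), (65, 4), (10, 5)]⟩,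
    ⟨1, [2, 0], [0, 2, 5, 6], [(40, 1), (13, 0), (56, 6), (8, 5), (54, 5), (39, 4), (6, 3), (76, 4), (74, 5), (55, 4), (7, 3), (76, 3), (11, 4), (56, 3), (9, 4)], [(59, 5), (50, 4), (42, 3), (35, 2), (29, 1), (64, 5), (55, 4), (47, 3), (65, 6), (56, 5), (8, 4), (76, 6), (66, 5), (9, 4), (11, 5), (10, 4), (45, 4), (38, 3), (32, 2), (74, 5), (64, 4), (75, 6), (65, 5), (73, 7), (63, 6), (46, 5), (39, 4), (6, 3), (75, 4), (77, 5), (11, 6), (64, 5), (47, 4), (7, 3), (75, 3), (77, 4), (11, 5)], [(60, 8), (51, 7), (36, 6), (30, 5), (21, 4), (3, 3), (61, 7), (52, 6), (37, 5), (31, 4), (26, 3), (73, 7), (63, 6), (54, 5), (76, 8), (66, 7), (9, 6), (11, 7), (64, 6), (66, 7), (10, 8), (56, 7), (9, 8), (73, 9), (63, 8), (46, 7), (39, 6), (6, 5), (75, 6), (77, 7), (11, 8), (65, 7), (8, 6), (66, 6), (74, 8), (64, 7), (55, 6), (7, 5), (76,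 5), (77, 6), (11, 7), (66, 6), (9, 5), (66, 5), (77, 7), (10, 6), (76, 6), (9, 5), (77, 5)], [(57, 2), (48, 1), (15, 0), (76, 6), (66, 5), (77, 7), (10, 6), (11, 6), (68, 7), (58, 6), (49, 5), (41, 4), (28, 3), (19, 2), (16, 1), (52, 7), (44, 6), (37, 5), (26, 4), (4, 3), (53, 3), (9, 4), (74, 5), (64, 4), (75, 6), (65, 5), (11, 7), (66, 6), (64, 7), (55, 6), (47, 5), (7, 4), (75, 4), (76, 5), (77, 6), (75, 7), (65, 6), (56, 5), (8, 4), (76, 6), (66, 5), (9, 4), (11, 5), (63, 4), (64, 5), (65, 6), (66, 7), (75, 9), (65, 8), (56, 7), (8, 6), (11, 8), (66, 7), (9, 6), (10, 6), (11, 6), (35, 5), (29, 4), (24, 3), (17, 2), (72, 8), (62, 7), (38, 6), (32, 5), (5, 4), (73, 5), (63, 4), (77, 6), (10, 5), (11, 5), (75, 7), (65, 6), (76, 8), (66, 7), (77, 9), (10, 8), (73, 8), (54, 7), (46, 6), (39, 5), (6, 4), (75, 5), (76, 6),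 (11, 7), (56, 6), (8, 5), (9, 5), (64, 5), (7, 4), (77, 4), (70, 5), (60, 4), (3, 3), (10, 7), (71, 7), (52, 6), (37, 5), (31, 4), (26, 3), (73, 7), (63, 6), (54, 5), (76, 8), (66, 7), (9, 6), (11, 7), (64, 6), (66, 7), (73, 9), (63, 8), (54, 7), (39, 6), (6, 5), (76, 6), (77, 7), (11, 8), (64, 7), (55, 6), (7, 5), (76, 5), (77, 6), (76, 7), (66, 6), (9, 5), (77, 6), (10, 5), (67, 5), (22, 4), (18, 3), (13, 2), (12, 1), (0, 0), (58, 5), (49, 4), (34, 3), (28, 2), (19, 1), (14, 0), (71, 2), (74, 3), (75, 4), (76, 5), (11, 6), (54, 5), (46, 4), (39, 3), (75, 5), (76, 6), (74, 7), (55, 6), (47, 5), (7, 4), (75, 4), (76, 5), (11, 6), (56, 5), (8, 4), (9, 4), (74, 4), (76, 5), (77, 6), (11, 7), (59, 6), (50, 5), (35, 4), (29, 3), (20, 2), (2, 1), (71, 1), (75, 2), (76, 3), (77, 4), (11, 5), (63, 4), (54, 3), (46, 2), (65, 5),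 (56, 4), (8, 3), (66, 4), (9, 3), (10, 3), (77, 5), (71, 6), (61, 5), (52, 4), (37, 3), (31, 2), (4, 1), (54, 1), (9, 2), (74, 2), (76, 3), (77, 4), (11, 5), (62, 4), (53, 3), (38, 2), (32, 1), (74, 4), (64, 3), (76, 5), (66, 4), (77, 6), (10, 5), (11, 5), (50, 4), (35, 3), (29, 2), (24, 1), (63, 5), (54, 4), (46, 3), (65, 6), (56, 5), (8, 4), (66, 5), (9, 4), (10, 4), (72, 6), (53, 5), (38, 4), (32, 3), (5, 2), (73, 3), (63, 2), (77, 4), (10, 3), (11, 3), (73, 5), (54, 4), (39, 3), (6, 2), (76, 3), (11, 4), (55, 3), (7, 2), (76, 2), (75, 3), (56, 2), (76, 4), (9, 3), (71, 3), (44, 2), (11, 4), (45, 3), (46, 4), (8, 5), (53, 5), (32, 4), (5, 3), (73, 4), (63, 3), (77, 5), (10, 4), (11, 4), (55, 4), (11, 7), (58, 6), (49, 5), (34, 4), (28, 3), (19, 2), (14, 1), (1, 0), (69, 0), (11, 1), (73, 5), (54, 4), (46, 3), (39, 2),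 (75, 4), (76, 5), (11, 6), (55, 5), (47, 4), (7, 3), (75, 3), (76, 4), (75, 5), (56, 4), (8, 3), (76, 4), (9, 3), (11, 3), (69, 6), (59, 5), (50, 4), (35, 3), (29, 2), (20, 1), (2, 0), (71, 0), (75, 1), (76, 2), (77, 3), (11, 4), (63, 3), (54, 2), (46, 1), (65, 4), (56, 3), (8, 2), (66, 3), (9, 2), (10, 2), (77, 4), (11, 5), (60, 4), (51, 3), (36, 2), (30, 1), (21, 0), (73, 5), (63, 4), (54, 3), (46, 2), (75, 6), (65, 5), (56, 4), (8, 3), (76, 5), (66, 4), (9, 3), (11, 4), (64, 3), (66, 4), (66, 5), (9, 4), (77, 5), (10, 4), (71, 4), (37, 3), (31, 2), (4, 1), (54, 1), (9, 2), (74, 2), (11, 3), (39, 2), (6, 1), (74, 2), (7, 1), (11, 1), (57, 2), (40, 1), (15, 0), (75, 6), (65, 5), (8, 4), (77, 5), (10, 4), (11, 4), (28, 3), (19, 2), (16, 1), (52, 7), (44, 6), (37, 5), (26, 4), (4, 3), (53, 3), (9, 4), (74, 5), (64, 4), (75,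 6), (65, 5), (11, 7), (66, 6), (64, 7), (55, 6), (47, 5), (7, 4), (75, 4), (76, 5), (77, 6), (75, 7), (65, 6), (56, 5), (8, 4), (76, 6), (66, 5), (9, 4), (11, 5), (63, 4), (64, 5), (65, 6), (66, 7), (69, 9), (59, 8), (50, 7), (42, 6), (35, 5), (29, 4), (24, 3), (17, 2), (72, 8), (62, 7), (38, 6), (32, 5), (5, 4), (73, 5), (63, 4), (77, 6), (10, 5), (11, 5), (75, 7), (65, 6), (76, 8), (66, 7), (77, 9), (10, 8), (73, 8), (54, 7), (46, 6), (39, 5), (6, 4), (75, 5), (76, 6), (11, 7), (56, 6), (8, 5), (9, 5), (64, 5), (7, 4), (77, 4), (75, 5), (65, 4), (11, 6), (66, 5), (77, 7), (10, 6), (11, 6), (51, 5), (43, 4), (3, 3), (65, 7), (56, 6), (10, 8), (76, 8), (9, 7), (11, 7), (44, 6), (37, 5), (31, 4), (26, 3), (73, 7), (63, 6), (54, 5), (76, 8), (66, 7), (9, 6), (11, 7), (64, 6), (65, 7), (73, 9), (63, 8), (46, 7), (39, 6), (6,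 5), (75, 6), (77, 7), (11, 8), (64, 7), (47, 6), (7, 5), (75, 5), (77, 6), (75, 7), (65, 6), (8, 5)]⟩,
    ⟨1, [3, 0], [0, 3, 4], [(57, 4), (48, 3), (40, 2), (33, 1), (15, 0), (74, 6), (64, 5), (47, 4), (75, 7), (65, 6), (8, 5), (77, 6), (10, 5), (11, 5), (77, 8), (10, 7), (11, 7), (54, 6), (46, 5), (39, 4), (6, 3), (75, 4), (76, 5), (74, 6), (55, 5), (47, 4), (7, 3), (75, 3), (76, 4), (11, 5), (56, 4), (8, 3), (9, 3)], [(60, 5), (51, 4), (43, 3), (36, 2), (30, 1), (74, 5), (55, 4), (47, 3), (76, 6), (9, 5), (75, 5), (8, 4), (77, 4), (11, 5), (66, 4), (77, 6), (10, 5), (74, 5), (55, 4), (7, 3), (76, 3), (11, 4), (56, 3), (9, 4), (61, 4), (44, 3), (31, 2), (75, 5), (56, 4), (11, 6), (63, 6), (54, 5), (46, 4), (6, 3), (65, 5), (56, 4), (8, 3), (66, 4), (9, 3)], [(25, 2), (3, 1), (62, 5), (53, 4), (38, 3), (32, 2), (5, 1),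 (73, 2), (63, 1), (77, 3), (10, 2), (11, 2), (65, 4), (56, 3), (66, 5), (9, 4), (10, 4)], [(59, 2), (50, 1), (17, 0), (76, 6), (66, 5), (11, 7), (10, 6), (51, 5), (36, 4), (30, 3), (25, 2), (3, 1), (62, 5), (53, 4), (38, 3), (32, 2), (5, 1), (73, 2), (63, 1), (77, 3), (10, 2), (11, 2), (65, 4), (56, 3), (63, 5), (54, 4), (46, 3), (39, 2), (6, 1), (75, 2), (76, 3), (77, 4), (75, 5), (65, 4), (56, 3), (8, 2), (76, 4), (66, 3), (9, 2), (11, 3), (64, 2), (7, 1), (77, 1), (76, 2), (66, 1), (76, 3), (66, 2), (9, 1), (11, 2), (62, 1), (62, 2), (5, 1), (77, 2), (10, 1), (73, 1), (74, 2), (75, 3), (11, 4)]⟩,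
    ⟨1, [4, 0], [0, 4, 5, 6], [(48, 3), (40, 2), (27, 1), (18, 0), (54, 5), (46, 4), (6, 3), (55, 4), (47, 3), (56, 5), (8, 4), (75, 6), (65, 5), (56, 4), (76, 7), (66, 6), (9, 5), (77, 6), (10, 5), (11, 5), (46, 4), (39, 3), (75, 5), (74, 6), (47, 5), (7, 4), (75, 4), (11, 5), (8, 4)], [(61, 5), (52, 4), (44, 3), (37, 2), (31, 1), (74, 4), (55, 3), (75, 5), (56, 4), (11, 6), (9, 5), (63, 5), (46, 4), (39, 3), (6, 2), (75, 3), (77, 4), (75, 5), (65, 4), (8, 3), (76, 4), (66, 3), (72, 5), (62, 4), (53, 3), (38, 2), (73, 6), (63, 5), (54, 4), (39, 3), (76, 5), (77, 6), (11, 7), (64, 6), (55, 5), (7, 4), (76, 4), (77, 5), (11, 6)], [(70, 4), (43, 3), (36, 2), (30, 1), (25, 0), (46, 2), (8, 3), (74, 4), (55, 3), (76, 5), (9, 4), (75, 4), (77, 5), (11, 6), (76, 6), (66, 5), (77, 7), (10, 6)], [(62, 2), (53, 1), (63, 3), (54,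 2), (64, 4), (55, 3), (65, 5), (56, 4), (67, 7), (57, 6), (48, 5), (40, 4), (33, 3), (27, 2), (22, 1), (15, 0), (72, 6), (62, 5), (45, 4), (32, 3), (75, 6), (65, 5), (77, 7), (10, 6), (11, 6), (47, 5), (73, 8), (63, 7), (46, 6), (39, 5), (6, 4), (75, 5), (77, 6), (11, 7), (64, 6), (47, 5), (7, 4), (75, 4), (77, 5), (75, 6), (65, 5), (8, 4), (77, 5), (10, 4), (11, 4), (75, 7), (65, 6), (8, 5), (76, 6), (66, 5), (77, 7), (10, 6), (11, 6), (11, 7), (58, 6), (49, 5), (34, 4), (23, 3), (19, 2), (16, 1), (52, 7), (44, 6), (37, 5), (26, 4), (4, 3), (53, 3), (9, 4), (74, 5), (64, 4), (75, 6), (65, 5), (11, 7), (66, 6), (64, 7), (55, 6), (47, 5), (7, 4), (75, 4), (76, 5), (77, 6), (75, 7), (65, 6), (56, 5), (8, 4), (76, 6), (66, 5), (9, 4), (11, 5), (62, 4), (5, 3), (77, 4), (10, 3), (74, 3), (75, 4), (76, 5), (11, 6), (55, 5), (47,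 4), (7, 3), (75, 3), (76, 4), (76, 5), (9, 4), (77, 4), (11, 5), (59, 4), (42, 3), (17, 2), (75, 8), (65, 7), (11, 9), (10, 8), (43, 7), (36, 6), (30, 5), (25, 4), (3, 3), (62, 7), (53, 6), (38, 5), (32, 4), (5, 3), (73, 4), (63, 3), (77, 5), (10, 4), (11, 4), (65, 6), (56, 5), (63, 7), (54, 6), (46, 5), (39, 4), (6, 3), (75, 4), (76, 5), (77, 6), (75, 7), (65, 6), (56, 5), (8, 4), (76, 6), (66, 5), (9, 4), (11, 5), (64, 4), (7, 3), (77, 3), (76, 4), (66, 3), (75, 5), (65, 4), (56, 3), (77, 6), (10, 5), (11, 5), (52, 4), (44, 3), (76, 5), (73, 6), (54, 5), (46, 4), (74, 7), (55, 6), (47, 5), (75, 8), (56, 7), (8, 6), (77, 7), (67, 8), (57, 7), (48, 6), (33, 5), (27, 4), (18, 3), (13, 2), (12, 1), (0, 0), (58, 5), (49, 4), (34, 3), (28, 2), (19, 1), (14, 0), (71, 2), (74, 3), (75, 4), (76, 5), (11, 6), (54, 5), (46, 4), (39,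 3), (75, 5), (76, 6), (74, 7), (55, 6), (47, 5), (7, 4), (75, 4), (76, 5), (11, 6), (56, 5), (8, 4), (9, 4), (74, 4), (76, 5), (77, 6), (11, 7), (59, 6), (50, 5), (35, 4), (29, 3), (20, 2), (2, 1), (71, 1), (75, 2), (76, 3), (77, 4), (11, 5), (63, 4), (54, 3), (46, 2), (65, 5), (56, 4), (8, 3), (66, 4), (9, 3), (10, 3), (77, 5), (71, 6), (61, 5), (52, 4), (37, 3), (31, 2), (4, 1), (54, 1), (9, 2), (74, 2), (76, 3), (77, 4), (11, 5), (62, 4), (53, 3), (38, 2), (32, 1), (74, 4), (64, 3), (76, 5), (66, 4), (77, 6), (10, 5), (11, 5), (50, 4), (35, 3), (29, 2), (24, 1), (63, 5), (54, 4), (46, 3), (65, 6), (56, 5), (8, 4), (66, 5), (9, 4), (10, 4), (72, 6), (53, 5), (38, 4), (32, 3), (5, 2), (73, 3), (63, 2), (77, 4), (10, 3), (11, 3), (73, 5), (54, 4), (39, 3), (6, 2), (76, 3), (11, 4), (55, 3), (7, 2), (76, 2), (75, 3), (56,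 2), (76, 4), (9, 3), (71, 3), (44, 2), (11, 4), (45, 3), (46, 4), (8, 5), (54, 5), (6, 4), (55, 4), (56, 5), (74, 8), (64, 7), (55, 6), (47, 5), (7, 4), (75, 4), (76, 5), (77, 6), (11, 7), (65, 6), (56, 5), (8, 4), (10, 5), (76, 5), (9, 4), (77, 4), (11, 5), (10, 4), (11, 4), (23, 3), (19, 2), (14, 1), (1, 0), (69, 0), (11, 1), (72, 5), (53, 4), (45, 3), (38, 2), (74, 6), (55, 5), (47, 4), (7, 3), (75, 3), (76, 4), (11, 5), (56, 4), (8, 3), (9, 3), (69, 3), (24, 2), (20, 1), (2, 0), (71, 0), (75, 1), (76, 2), (77, 3), (11, 4), (62, 3), (53, 2), (45, 1), (65, 4), (56, 3), (8, 2), (66, 3), (9, 2), (10, 2), (70, 2), (25, 1), (21, 0), (72, 5), (62, 4), (53, 3), (45, 2), (75, 6), (65, 5), (56, 4), (8, 3), (11, 5), (61, 4), (52, 3), (26, 2), (4, 1), (53, 1), (9, 2), (76, 3), (66, 2), (77, 4), (10, 3), (73, 3), (54, 2), (74, 4),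 (55, 3), (75, 5), (56, 4)]⟩,
    ⟨1, [5, 0], [0, 5], [(33, 2), (27, 1), (22, 0), (73, 4), (63, 3), (39, 2), (77, 4), (11, 5), (64, 4), (7, 3), (77, 3), (75, 4), (65, 3), (77, 5), (10, 4), (11, 4), (47, 3), (8, 4), (73, 5), (63, 4), (39, 3), (6, 2), (77, 3), (11, 4), (64, 3), (7, 2), (77, 2), (75, 3), (65, 2), (76, 4), (66, 3), (77, 5), (10, 4)], [(62, 5), (53, 4), (45, 3), (38, 2), (32, 1), (74, 4), (64, 3), (75, 5), (65, 4), (76, 6), (66, 5), (77, 7), (10, 6), (73, 6), (54, 5), (46, 4), (39, 3), (6, 2), (75, 3), (76, 4), (11, 5), (55, 4), (47, 3), (7, 2), (75, 2), (76, 3)], [(60, 8), (43, 7), (36, 6), (30, 5), (21, 4), (3, 3), (61, 7), (52, 6), (37, 5), (31, 4), (26, 3), (73, 7), (63, 6), (54, 5), (76, 8), (66, 7), (9, 6), (11, 7), (64, 6), (66, 7), (10, 8), (56, 7), (9, 8), (73, 9), (63, 8), (46, 7), (39, 6), (6, 5), (75,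 6), (77, 7), (11, 8), (65, 7), (8, 6), (66, 6), (74, 8), (64, 7), (55, 6), (7, 5), (76, 5), (77, 6), (11, 7), (66, 6), (9, 5), (65, 5), (10, 6), (77, 6), (76, 7), (66, 6), (77, 8), (10, 7)], [(57, 2), (48, 1), (15, 0), (76, 6), (66, 5), (77, 7), (10, 6), (11, 6), (68, 7), (58, 6), (49, 5), (41, 4), (28, 3), (19, 2), (16, 1), (52, 7), (44, 6), (37, 5), (26, 4), (4, 3), (53, 3), (9, 4), (74, 5), (64, 4), (75, 6), (65, 5), (11, 7), (66, 6), (64, 7), (55, 6), (47, 5), (7, 4), (75, 4), (76, 5), (77, 6), (75, 7), (65, 6), (56, 5), (8, 4), (76, 6), (66, 5), (9, 4), (11, 5), (63, 4), (64, 5), (65, 6), (66, 7), (75, 9), (65, 8), (56, 7), (8, 6), (11, 8), (66, 7), (9, 6), (10, 6), (11, 6), (35, 5), (29, 4), (24, 3), (17, 2), (72, 8), (62, 7), (38, 6), (32, 5), (5, 4), (73, 5), (63, 4), (77, 6), (10, 5), (11, 5), (75, 7), (65, 6),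 (76, 8), (66, 7), (77, 9), (10, 8), (73, 8), (54, 7), (46, 6), (39, 5), (6, 4), (75, 5), (76, 6), (11, 7), (56, 6), (8, 5), (9, 5), (64, 5), (7, 4), (77, 4), (70, 5), (60, 4), (3, 3), (10, 7), (71, 7), (52, 6), (37, 5), (31, 4), (26, 3), (73, 7), (63, 6), (54, 5), (76, 8), (66, 7), (9, 6), (11, 7), (64, 6), (66, 7), (73, 9), (63, 8), (54, 7), (39, 6), (6, 5), (76, 6), (77, 7), (11, 8), (64, 7), (55, 6), (7, 5), (76, 5), (77, 6), (75, 7), (65, 6), (56, 5), (77, 8), (10, 7)]⟩,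
    ⟨1, [1, 1], [], [(49, 2), (41, 1), (1, 0), (75, 0), (11, 1), (56, 1), (8, 0), (9, 0)], [], [(42, 3), (29, 2), (24, 1), (2, 0), (72, 0), (75, 1), (76, 2), (77, 3), (73, 4), (63, 3), (54, 2), (46, 1), (75, 5), (65, 4), (56, 3), (8, 2), (76, 4), (66, 3), (9, 2), (77, 3), (10, 2), (75, 2), (11, 3), (45, 2), (32, 1), (5, 0), (73, 1), (63, 0), (77, 2), (10, 1), (11, 1), (46, 1), (6, 0), (8, 0)], []⟩,
    ⟨1, [2, 1], [1, 2], [(41, 1), (14, 0), (75, 2), (11, 3), (8, 2)], [(50, 2), (42, 1), (76, 3), (11, 4), (56, 3), (8, 2)], [(59, 8), (50, 7), (35, 6), (29, 5), (20, 4), (17, 3), (2, 2), (70, 2), (72, 3), (73, 4), (74, 5), (77, 6), (11, 7), (61, 6), (37, 5), (31, 4), (26, 3), (73, 7), (63, 6), (54, 5), (76, 8), (66, 7), (9, 6), (11, 7), (64, 6), (10, 7), (73, 10), (63, 9), (54, 8), (46, 7), (39, 6), (6, 5), (75, 6), (76, 7),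 (77, 8), (11, 9), (65, 8), (56, 7), (8, 6), (66, 7), (9, 6), (10, 6), (7, 5), (76, 5), (11, 6), (62, 6), (53, 5), (5, 4), (76, 5), (66, 4), (77, 6), (10, 5), (73, 5), (54, 4), (75, 6), (56, 5)], [(40, 3), (27, 2), (22, 1), (13, 0), (53, 6), (45, 5), (38, 4), (32, 3), (5, 2), (73, 3), (63, 2), (77, 4), (10, 3), (11, 3), (55, 5), (47, 4), (7, 3), (75, 3), (76, 4), (77, 5), (11, 6), (63, 5), (54, 4), (46, 3), (6, 2), (64, 4), (55, 3), (47, 2), (65, 5), (56, 4), (8, 3), (10, 4), (75, 4), (56, 3), (68, 5), (49, 4), (41, 3), (34, 2), (14, 1), (74, 3), (75, 4), (11, 5), (69, 6), (50, 5), (42, 4), (35, 3), (2, 2), (74, 2), (75, 3), (11, 4), (11, 5), (51, 4), (43, 3), (36, 2), (56, 4), (76, 7), (66, 6), (9, 5), (11, 6), (61, 5), (44, 4), (37, 3), (77, 6), (73, 7), (63, 6), (46, 5), (39, 4), (75, 6), (77, 7), (11, 8), (64, 7), (47,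 6), (7, 5), (75, 5), (77, 6), (76, 7), (66, 6), (77, 8), (10, 7)]⟩,
    ⟨1, [3, 1], [1, 3, 4, 5, 6], [(58, 4), (49, 3), (41, 2), (34, 1), (16, 0), (55, 6), (47, 5), (7, 4), (75, 4), (76, 5), (75, 6), (56, 5), (8, 4), (11, 5), (9, 4), (75, 5), (65, 4), (76, 6), (66, 5)], [(51, 2), (43, 1), (76, 4), (66, 3), (11, 5), (64, 4), (55, 3), (47, 2), (65, 5), (56, 4), (8, 3), (66, 4), (9, 3), (10, 3), (37, 2), (39, 3), (75, 5), (76, 6), (72, 7), (53, 6), (45, 5), (38, 4), (32, 3), (74, 6), (64, 5), (75, 7), (65, 6), (76, 8), (66, 7), (11, 9), (63, 8), (54, 7), (46, 6), (39, 5), (6, 4), (75, 5), (76, 6), (77, 7), (74, 8), (64, 7), (55, 6), (47, 5), (7, 4), (75, 4), (76, 5), (77, 6), (11, 7)], [(24, 2), (17, 1), (2, 0), (70, 0), (72, 1), (73, 2), (74, 3), (77, 4), (11, 5), (62, 4), (38, 3), (32, 2), (5, 1), (73, 2), (63, 1), (77, 3),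 (10, 2), (11, 2), (65, 3), (66, 4), (10, 5), (53, 4), (45, 3), (38, 2), (32, 1), (74, 4), (64, 3), (75, 5), (65, 4), (76, 6), (66, 5), (73, 7), (63, 6), (54, 5), (46, 4), (39, 3), (6, 2), (75, 3), (76, 4), (77, 5), (11, 6), (65, 5), (56, 4), (8, 3)], [(42, 3), (29, 2), (24, 1), (2, 0), (72, 0), (75, 1), (76, 2), (77, 3), (73, 4), (63, 3), (54, 2), (46, 1), (75, 5), (65, 4), (56, 3), (8, 2), (76, 4), (66, 3), (9, 2), (77, 3), (10, 2), (75, 2), (11, 3), (43, 2), (30, 1), (25, 0), (46, 2), (8, 3), (75, 4), (56, 3), (77, 5), (11, 6), (62, 5), (53, 4), (45, 3), (32, 2), (5, 1), (73, 2), (63, 1), (77, 3), (10, 2), (11, 2), (62, 4), (53, 3), (45, 2), (32, 1), (75, 4), (65, 3), (76, 5), (66, 4), (77, 6), (10, 5), (73, 5), (54, 4), (46, 3), (6, 2), (74, 4), (55, 3), (47, 2), (75, 5), (56, 4), (8, 3), (11, 4), (48, 3), (33, 2), (22,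 1), (15, 0), (72, 6), (62, 5), (45, 4), (32, 3), (75, 6), (65, 5), (77, 7), (10, 6), (11, 6), (47, 5), (74, 8), (64, 7), (47, 6), (7, 5), (75, 5), (77, 6), (11, 7), (65, 6), (8, 5), (10, 5), (76, 5), (77, 6), (11, 7), (58, 6), (49, 5), (28, 4), (23, 3), (19, 2), (16, 1), (52, 7), (44, 6), (37, 5), (26, 4), (4, 3), (53, 3), (9, 4), (74, 5), (64, 4), (75, 6), (65, 5), (11, 7), (66, 6), (64, 7), (55, 6), (47, 5), (7, 4), (75, 4), (76, 5), (77, 6), (75, 7), (65, 6), (56, 5), (8, 4), (76, 6), (66, 5), (9, 4), (11, 5), (62, 4), (5, 3), (77, 4), (10, 3), (74, 3), (75, 4), (76, 5), (11, 6), (54, 5), (46, 4), (39, 3), (75, 5), (76, 6), (74, 7), (55, 6), (47, 5), (7, 4), (75, 4), (76, 5), (11, 6), (56, 5), (8, 4), (9, 4), (76, 4), (77, 5), (11, 6), (59, 5), (50, 4), (29, 3), (17, 2), (73, 8), (63, 7), (39, 6), (6, 5), (77, 6), (11,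 7), (65, 6), (66, 7), (10, 8), (9, 7), (77, 7), (70, 8), (60, 7), (43, 6), (36, 5), (25, 4), (3, 3), (62, 7), (53, 6), (38, 5), (32, 4), (5, 3), (73, 4), (63, 3), (77, 5), (10, 4), (11, 4), (65, 6), (56, 5), (64, 7), (55, 6), (47, 5), (7, 4), (75, 4), (76, 5), (77, 6), (76, 7), (66, 6), (9, 5), (75, 6), (65, 5), (8, 4), (77, 5), (10, 4), (11, 4), (71, 5), (61, 4), (31, 3), (77, 6), (11, 7), (63, 6), (54, 5), (6, 4), (64, 5), (55, 4), (65, 6), (56, 5), (10, 7), (48, 6), (40, 5), (33, 4), (18, 3), (13, 2), (12, 1), (0, 0), (58, 5), (49, 4), (34, 3), (28, 2), (19, 1), (14, 0), (71, 2), (74, 3), (75, 4), (76, 5), (11, 6), (54, 5), (46, 4), (39, 3), (75, 5), (76, 6), (74, 7), (55, 6), (47, 5), (7, 4), (75, 4), (76, 5), (11, 6), (56, 5), (8, 4), (9, 4), (74, 4), (76, 5), (77, 6), (11, 7), (59, 6), (50, 5), (35, 4), (29, 3), (20,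 2), (2, 1), (71, 1), (75, 2), (76, 3), (77, 4), (11, 5), (63, 4), (54, 3), (46, 2), (65, 5), (56, 4), (8, 3), (66, 4), (9, 3), (10, 3), (77, 5), (71, 6), (61, 5), (52, 4), (37, 3), (31, 2), (4, 1), (54, 1), (9, 2), (74, 2), (76, 3), (77, 4), (11, 5), (62, 4), (53, 3), (38, 2), (32, 1), (74, 4), (64, 3), (76, 5), (66, 4), (77, 6), (10, 5), (11, 5), (50, 4), (35, 3), (29, 2), (24, 1), (63, 5), (54, 4), (46, 3), (65, 6), (56, 5), (8, 4), (66, 5), (9, 4), (10, 4), (72, 6), (53, 5), (38, 4), (32, 3), (5, 2), (73, 3), (63, 2), (77, 4), (10, 3), (11, 3), (73, 5), (54, 4), (39, 3), (6, 2), (76, 3), (11, 4), (55, 3), (7, 2), (76, 2), (75, 3), (56, 2), (76, 4), (9, 3), (71, 3), (44, 2), (11, 4), (45, 3), (46, 4), (8, 5), (55, 5), (56, 6), (75, 9), (65, 8), (56, 7), (8, 6), (76, 8), (66, 7), (9, 6), (77, 7), (10, 6), (11, 6), (34,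 5), (28, 4), (23, 3), (19, 2), (14, 1), (1, 0), (69, 0), (11, 1), (72, 5), (53, 4), (45, 3), (38, 2), (74, 6), (55, 5), (47, 4), (7, 3), (75, 3), (76, 4), (11, 5), (56, 4), (8, 3), (9, 3), (73, 3), (74, 4), (75, 5), (76, 6), (11, 7), (55, 6), (47, 5), (7, 4), (75, 4), (76, 5), (69, 6), (50, 5), (42, 4), (29, 3), (24, 2), (20, 1), (2, 0), (71, 0), (75, 1), (76, 2), (77, 3), (11, 4), (62, 3), (53, 2), (45, 1), (65, 4), (56, 3), (8, 2), (66, 3), (9, 2), (10, 2), (65, 5), (56, 4), (8, 3), (76, 5), (66, 4), (9, 3), (11, 4), (70, 4), (60, 3), (30, 2), (25, 1), (21, 0), (72, 5), (62, 4), (53, 3), (45, 2), (75, 6), (65, 5), (56, 4), (8, 3), (73, 5), (63, 4), (54, 3), (75, 6), (65, 5), (56, 4), (76, 7), (66, 6), (9, 5), (11, 6), (10, 5), (71, 5), (44, 4), (31, 3), (26, 2), (4, 1), (53, 1), (9, 2), (73, 3), (63, 2), (76, 4), (66,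 3), (11, 5), (65, 4), (56, 3), (11, 6), (63, 5), (54, 4), (46, 3), (6, 2), (64, 4), (55, 3), (47, 2), (65, 5), (56, 4), (8, 3)]⟩,
    ⟨1, [2, 2], [], [(42, 1), (2, 0), (75, 0), (11, 1), (8, 0)], [], [(57, 8), (48, 7), (33, 6), (27, 5), (18, 4), (15, 3), (13, 2), (12, 1), (0, 0), (58, 5), (49, 4), (34, 3), (28, 2), (19, 1), (14, 0), (71, 2), (74, 3), (75, 4), (76, 5), (11, 6), (54, 5), (46, 4), (39, 3), (75, 5), (76, 6), (74, 7), (55, 6), (47, 5), (7, 4), (75, 4), (76, 5), (11, 6), (56, 5), (8, 4), (9, 4), (74, 4), (76, 5), (77, 6), (11, 7), (59, 6), (50, 5), (35, 4), (29, 3), (20, 2), (2, 1), (71, 1), (75, 2), (76, 3), (77, 4), (11, 5), (63, 4), (54, 3), (46, 2), (65, 5), (56, 4), (8, 3), (66, 4), (9, 3), (10, 3), (77, 5), (71, 6), (61, 5), (52, 4), (37, 3), (31, 2), (4, 1), (54, 1), (9, 2), (74, 2), (76, 3), (77, 4), (11,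 5), (62, 4), (53, 3), (38, 2), (32, 1), (74, 4), (64, 3), (76, 5), (66, 4), (77, 6), (10, 5), (11, 5), (50, 4), (35, 3), (29, 2), (24, 1), (63, 5), (54, 4), (46, 3), (65, 6), (56, 5), (8, 4), (66, 5), (9, 4), (10, 4), (72, 6), (53, 5), (38, 4), (32, 3), (5, 2), (73, 3), (63, 2), (77, 4), (10, 3), (11, 3), (73, 5), (54, 4), (39, 3), (6, 2), (76, 3), (11, 4), (55, 3), (7, 2), (76, 2), (75, 3), (56, 2), (76, 4), (9, 3), (70, 3), (43, 2), (11, 5), (61, 4), (44, 3), (77, 5), (73, 6), (63, 5), (46, 4), (75, 7), (65, 6), (8, 5), (77, 6), (10, 5), (11, 5), (31, 4), (4, 3), (54, 3), (9, 4), (72, 4), (32, 3), (11, 6), (63, 5), (6, 4), (65, 4), (66, 5), (63, 6), (54, 5), (46, 4), (64, 7), (55, 6), (47, 5), (65, 8), (56, 7), (8, 6), (10, 7), (74, 7), (55, 6), (7, 5), (76, 5), (11, 6), (56, 5), (76, 8), (66, 7), (9, 6), (77, 7), (10,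 6), (11, 6), (68, 7), (58, 6), (41, 5), (28, 4), (23, 3), (16, 2), (14, 1), (1, 0), (69, 0), (11, 1), (53, 6), (45, 5), (38, 4), (5, 3), (74, 4), (64, 3), (75, 5), (65, 4), (76, 6), (66, 5), (74, 7), (64, 6), (55, 5), (47, 4), (7, 3), (75, 3), (76, 4), (77, 5), (11, 6), (65, 5), (56, 4), (8, 3), (66, 4), (9, 3), (73, 4), (63, 3), (74, 5), (64, 4), (75, 6), (65, 5), (76, 7), (66, 6), (11, 8), (65, 7), (56, 6), (8, 5), (77, 7), (10, 6), (11, 6), (69, 6), (50, 5), (35, 4), (29, 3), (20, 2), (17, 1), (2, 0), (70, 0), (72, 1), (73, 2), (74, 3), (77, 4), (11, 5), (61, 4), (37, 3), (31, 2), (26, 1), (73, 5), (63, 4), (54, 3), (76, 6), (66, 5), (9, 4), (11, 5), (64, 4), (10, 5), (73, 8), (63, 7), (54, 6), (46, 5), (39, 4), (6, 3), (75, 4), (76, 5), (77, 6), (11, 7), (65, 6), (56, 5), (8, 4), (66, 5), (9, 4), (10, 4), (7, 3), (76,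 3), (11, 4), (70, 4), (51, 3), (25, 2), (21, 1), (3, 0), (61, 4), (52, 3), (37, 2), (31, 1), (26, 0), (73, 4), (63, 3), (54, 2), (76, 5), (66, 4), (9, 3), (11, 4), (64, 3), (66, 4), (10, 5), (56, 4), (9, 5), (72, 6), (62, 5), (45, 4), (38, 3), (32, 2), (5, 1), (73, 2), (63, 1), (77, 3), (10, 2), (11, 2), (75, 5), (65, 4), (8, 3), (76, 4), (66, 3), (11, 5), (71, 5), (61, 4), (52, 3), (37, 2), (31, 1), (4, 0), (54, 0), (9, 1), (74, 1), (76, 2), (77, 3), (11, 4), (63, 3), (54, 2), (39, 1), (6, 0), (76, 1), (77, 2), (74, 3), (64, 2), (55, 1), (7, 0), (76, 0), (77, 1), (11, 2), (66, 1), (9, 0), (10, 0)], []⟩,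
    ⟨1, [3, 2], [2, 3, 5, 6], [(59, 4), (50, 3), (42, 2), (35, 1), (17, 0), (74, 6), (64, 5), (7, 4), (77, 4), (11, 5), (65, 4), (76, 6), (66, 5), (11, 7), (10, 6), (56, 5), (8, 4)], [(43, 1), (74, 4), (64, 3), (47, 2), (75, 5), (65, 4), (8, 3), (76, 4), (66, 3), (77, 5), (10, 4), (72, 4), (53, 3), (38, 2), (73, 5), (54, 4), (39, 3), (76, 5), (11, 6), (55, 5), (7, 4), (76, 4), (11, 5)], [(22, 2), (15, 1), (13, 0), (51, 6), (43, 5), (36, 4), (30, 3), (25, 2), (46, 4), (8, 5), (74, 6), (55, 5), (76, 7), (9, 6), (75, 6), (77, 7), (11, 8), (66, 7), (71, 9), (61, 8), (52, 7), (44, 6), (37, 5), (31, 4), (26, 3), (73, 7), (63, 6), (54, 5), (76, 8), (66, 7), (9, 6), (11, 7), (64, 6), (65, 7), (76, 9), (66, 8), (77, 10), (10, 9), (11, 9), (54, 8), (46, 7), (39, 6), (6, 5), (75, 6), (76, 7), (75, 8), (56, 7), (8, 6), (77, 7), (11,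 8), (62, 7), (53, 6), (38, 5), (5, 4), (74, 5), (64, 4), (76, 6), (66, 5), (77, 7), (10, 6), (74, 6), (55, 5), (7, 4), (76, 4), (11, 5), (68, 6), (58, 5), (49, 4), (19, 3), (16, 2), (14, 1), (70, 3), (71, 4), (72, 5), (74, 6), (75, 7), (76, 8), (71, 9), (52, 8), (44, 7), (37, 6), (26, 5), (4, 4), (53, 4), (9, 5), (74, 6), (64, 5), (75, 7), (65, 6), (11, 8), (66, 7), (74, 9), (64, 8), (55, 7), (47, 6), (7, 5), (75, 5), (76, 6), (77, 7), (11, 8), (65, 7), (56, 6), (8, 5), (66, 6), (9, 5), (76, 6), (66, 5), (77, 7), (10, 6), (11, 6), (69, 6), (50, 5), (24, 4), (17, 3), (2, 2), (70, 2), (72, 3), (73, 4), (74, 5), (77, 6), (11, 7), (62, 6), (38, 5), (32, 4), (5, 3), (73, 4), (63, 3), (77, 5), (10, 4), (11, 4), (65, 5), (66, 6), (10, 7), (9, 6), (11, 6), (43, 5), (36, 4), (30, 3), (3, 2), (63, 6), (54, 5), (39, 4), (6, 3), (76,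 4), (77, 5), (75, 6), (65, 5), (56, 4), (76, 7), (66, 6), (9, 5), (11, 6), (64, 5), (47, 4), (7, 3), (75, 3), (77, 4), (76, 5), (66, 4), (75, 6), (65, 5), (56, 4), (8, 3), (77, 5), (10, 4), (11, 4), (52, 3), (26, 2), (76, 6), (66, 5), (9, 4), (73, 5), (63, 4), (74, 6), (64, 5), (76, 7), (66, 6), (77, 8), (10, 7)], [(59, 8), (50, 7), (35, 6), (29, 5), (20, 4), (17, 3), (2, 2), (70, 2), (72, 3), (73, 4), (74, 5), (77, 6), (11, 7), (61, 6), (37, 5), (31, 4), (26, 3), (73, 7), (63, 6), (54, 5), (76, 8), (66, 7), (9, 6), (11, 7), (64, 6), (10, 7), (73, 10), (63, 9), (54, 8), (46, 7), (39, 6), (6, 5), (75, 6), (76, 7), (77, 8), (11, 9), (65, 8), (56, 7), (8, 6), (66, 7), (9, 6), (10, 6), (7, 5), (76, 5), (11, 6), (60, 6), (51, 5), (25, 4), (21, 3), (3, 2), (61, 6), (52, 5), (37, 4), (31, 3), (26, 2), (73, 6), (63, 5), (54, 4),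 (76, 7), (66, 6), (9, 5), (11, 6), (64, 5), (66, 6), (10, 7), (56, 6), (9, 7), (72, 8), (62, 7), (45, 6), (38, 5), (32, 4), (5, 3), (73, 4), (63, 3), (77, 5), (10, 4), (11, 4), (75, 7), (65, 6), (8, 5), (76, 6), (66, 5), (11, 7), (10, 6), (53, 5), (38, 4), (32, 3), (74, 6), (64, 5), (76, 7), (66, 6), (67, 8), (57, 7), (48, 6), (33, 5), (27, 4), (22, 3), (18, 2), (12, 1), (0, 0), (58, 5), (49, 4), (34, 3), (28, 2), (19, 1), (14, 0), (71, 2), (74, 3), (75, 4), (76, 5), (11, 6), (54, 5), (46, 4), (39, 3), (75, 5), (76, 6), (74, 7), (55, 6), (47, 5), (7, 4), (75, 4), (76, 5), (11, 6), (56, 5), (8, 4), (9, 4), (74, 4), (76, 5), (77, 6), (11, 7), (59, 6), (50, 5), (35, 4), (29, 3), (20, 2), (2, 1), (71, 1), (75, 2), (76, 3), (77, 4), (11, 5), (63, 4), (54, 3), (46, 2), (65, 5), (56, 4), (8, 3), (66, 4), (9, 3), (10, 3), (77, 5),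 (71, 6), (61, 5), (52, 4), (37, 3), (31, 2), (4, 1), (54, 1), (9, 2), (74, 2), (76, 3), (77, 4), (11, 5), (62, 4), (53, 3), (38, 2), (32, 1), (74, 4), (64, 3), (76, 5), (66, 4), (77, 6), (10, 5), (11, 5), (52, 4), (37, 3), (31, 2), (26, 1), (73, 5), (63, 4), (54, 3), (76, 6), (66, 5), (9, 4), (11, 5), (64, 4), (66, 5), (62, 6), (53, 5), (38, 4), (32, 3), (5, 2), (73, 3), (63, 2), (77, 4), (10, 3), (11, 3), (63, 5), (54, 4), (39, 3), (6, 2), (76, 3), (77, 4), (75, 5), (65, 4), (56, 3), (76, 6), (66, 5), (9, 4), (72, 5), (62, 4), (45, 3), (38, 2), (74, 6), (64, 5), (47, 4), (7, 3), (75, 3), (77, 4), (11, 5), (10, 4), (73, 4), (46, 3), (74, 5), (47, 4), (75, 6), (8, 5), (77, 5), (11, 6), (64, 5), (7, 4), (77, 4), (75, 5), (65, 4), (77, 6), (10, 5), (11, 5), (77, 7), (10, 6), (11, 6), (68, 6), (49, 5), (41, 4), (28, 3), (23,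 2), (19, 1), (1, 0), (71, 0), (74, 1), (75, 2), (76, 3), (11, 4), (53, 3), (45, 2), (38, 1), (55, 4), (47, 3), (7, 2), (75, 2), (76, 3), (75, 4), (56, 3), (8, 2), (76, 3), (9, 2), (11, 2), (75, 6), (56, 5), (8, 4), (11, 5), (9, 4), (69, 4), (35, 3), (29, 2), (24, 1), (20, 0), (72, 5), (62, 4), (53, 3), (45, 2), (75, 6), (65, 5), (56, 4), (8, 3), (76, 5), (66, 4), (9, 3), (77, 4), (10, 3), (73, 3), (75, 4), (76, 5), (77, 6), (74, 7), (64, 6), (55, 5), (47, 4), (11, 8), (60, 7), (51, 6), (43, 5), (36, 4), (30, 3), (25, 2), (21, 1), (72, 6), (62, 5), (53, 4), (45, 3), (75, 7), (65, 6), (56, 5), (8, 4), (73, 6), (63, 5), (54, 4), (75, 7), (65, 6), (56, 5), (76, 8), (66, 7), (9, 6), (11, 7), (64, 6), (47, 5), (66, 7), (65, 8), (56, 7), (8, 6), (10, 7), (76, 7), (9, 6), (11, 6), (61, 6), (37, 5), (31, 4), (26, 3), (4, 2), (53,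 2), (9, 3), (73, 4), (63, 3), (76, 5), (66, 4), (11, 6), (64, 5), (55, 4), (10, 6), (54, 5), (39, 4), (6, 3), (76, 4), (74, 5), (55, 4), (7, 3), (76, 3), (11, 4), (56, 3), (57, 5), (48, 4), (40, 3), (22, 2), (15, 1), (13, 0), (51, 6), (43, 5), (36, 4), (30, 3), (25, 2), (46, 4), (8, 5), (74, 6), (55, 5), (76, 7), (9, 6), (75, 6), (77, 7), (11, 8), (66, 7), (71, 9), (61, 8), (52, 7), (44, 6), (37, 5), (31, 4), (26, 3), (73, 7), (63, 6), (54, 5), (76, 8), (66, 7), (9, 6), (11, 7), (64, 6), (65, 7), (76, 9), (66, 8), (77, 10), (10, 9), (11, 9), (54, 8), (46, 7), (39, 6), (6, 5), (75, 6), (76, 7), (75, 8), (56, 7), (8, 6), (77, 7), (11, 8), (62, 7), (53, 6), (38, 5), (5, 4), (74, 5), (64, 4), (76, 6), (66, 5), (77, 7), (10, 6), (74, 6), (55, 5), (7, 4), (76, 4), (11, 5), (75, 6), (65, 5), (56, 4), (76, 7), (66, 6), (9, 5), (77,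 6), (10, 5), (11, 5), (68, 6), (58, 5), (41, 4), (19, 3), (16, 2), (14, 1), (70, 3), (71, 4), (72, 5), (74, 6), (75, 7), (76, 8), (71, 9), (52, 8), (44, 7), (37, 6), (26, 5), (4, 4), (53, 4), (9, 5), (74, 6), (64, 5), (75, 7), (65, 6), (11, 8), (66, 7), (74, 9), (64, 8), (55, 7), (47, 6), (7, 5), (75, 5), (76, 6), (77, 7), (11, 8), (65, 7), (56, 6), (8, 5), (66, 6), (9, 5), (75, 6), (65, 5), (11, 7), (10, 6), (11, 6), (42, 5), (24, 4), (17, 3), (2, 2), (70, 2), (72, 3), (73, 4), (74, 5), (77, 6), (11, 7), (62, 6), (38, 5), (32, 4), (5, 3), (73, 4), (63, 3), (77, 5), (10, 4), (11, 4), (65, 5), (66, 6), (10, 7), (56, 6), (8, 5), (70, 6), (51, 5), (36, 4), (30, 3), (3, 2), (63, 6), (54, 5), (39, 4), (6, 3), (76, 4), (77, 5), (75, 6), (65, 5), (56, 4), (76, 7), (66, 6), (9, 5), (11, 6), (64, 5), (47, 4), (7, 3), (75, 3), (77,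 4), (76, 5), (66, 4), (76, 6), (66, 5), (9, 4), (11, 5), (71, 5), (61, 4), (44, 3), (26, 2), (75, 6), (65, 5), (56, 4), (11, 7), (10, 6), (73, 6), (54, 5), (46, 4), (74, 7), (55, 6), (47, 5), (75, 8), (56, 7), (8, 6)]⟩,
    ⟨2, [1, 0], [0, 1], [(58, 2), (34, 1), (14, 0), (74, 2), (77, 3), (11, 4), (64, 3), (7, 2), (77, 2)], [(35, 1), (7, 2), (77, 2)], [(69, 8), (59, 7), (50, 6), (35, 5), (29, 4), (24, 3), (20, 2), (72, 7), (62, 6), (53, 5), (45, 4), (75, 8), (65, 7), (56, 6), (8, 5), (76, 7), (66, 6), (9, 5), (77, 6), (10, 5), (73, 5), (75, 6), (76, 7), (77, 8), (74, 9), (64, 8), (55, 7), (47, 6), (76, 10), (66, 9), (9, 8), (11, 9), (10, 8), (71, 8), (44, 7), (37, 6), (31, 5), (26, 4), (4, 3), (53, 3), (9, 4), (73, 5), (63, 4), (76, 6), (66, 5), (11, 7), (64, 6), (55, 5), (65, 7), (56, 6), (11, 9), (63, 8), (54, 7), (46,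 6), (39, 5), (6, 4), (75, 5), (76, 6), (77, 7), (75, 8), (65, 7), (56, 6), (8, 5), (76, 7), (66, 6), (9, 5), (77, 6), (10, 5), (11, 5)], [(67, 6), (57, 5), (48, 4), (40, 3), (27, 2), (18, 1), (13, 0), (52, 6), (44, 5), (37, 4), (31, 3), (26, 2), (73, 6), (63, 5), (54, 4), (76, 7), (66, 6), (9, 5), (11, 6), (64, 5), (65, 6), (76, 8), (66, 7), (72, 9), (62, 8), (53, 7), (45, 6), (38, 5), (32, 4), (5, 3), (73, 4), (63, 3), (77, 5), (10, 4), (11, 4), (73, 8), (63, 7), (54, 6), (46, 5), (39, 4), (6, 3), (75, 4), (76, 5), (77, 6), (11, 7), (65, 6), (56, 5), (8, 4), (66, 5), (9, 4), (63, 4), (39, 3), (77, 5), (74, 6), (64, 5), (7, 4), (77, 4), (11, 5), (65, 4), (10, 5), (75, 5), (8, 4), (76, 4), (77, 5), (11, 6), (10, 5), (11, 5), (49, 4), (28, 3), (19, 2), (14, 1), (71, 3), (74, 4), (75, 5), (76, 6), (11, 7), (54, 6), (46, 5),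 (39, 4), (75, 6), (76, 7), (74, 8), (55, 7), (47, 6), (7, 5), (75, 5), (76, 6), (11, 7), (56, 6), (8, 5), (9, 5), (76, 5), (71, 6), (52, 5), (31, 4), (4, 3), (54, 3), (9, 4), (76, 4), (11, 5), (53, 4), (32, 3), (76, 6), (66, 5), (73, 7), (63, 6), (54, 5), (6, 4), (74, 6), (64, 5), (55, 4), (76, 7), (66, 6), (9, 5), (77, 6), (10, 5), (11, 5)]⟩,
    ⟨2, [1, 1], [], [(59, 2), (35, 1), (2, 0), (74, 0), (77, 1), (74, 2), (64, 1), (7, 0), (77, 0), (11, 1), (10, 0)], [], [(67, 8), (57, 7), (48, 6), (33, 5), (27, 4), (22, 3), (18, 2), (12, 1), (0, 0), (58, 5), (49, 4), (34, 3), (28, 2), (19, 1), (14, 0), (71, 2), (74, 3), (75, 4), (76, 5), (11, 6), (54, 5), (46, 4), (39, 3), (75, 5), (76, 6), (74, 7), (55, 6), (47, 5), (7, 4), (75, 4), (76, 5), (11, 6), (56, 5), (8, 4), (9, 4), (74, 4), (76, 5), (77, 6), (11, 7), (59, 6), (50, 5),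 (35, 4), (29, 3), (20, 2), (2, 1), (71, 1), (75, 2), (76, 3), (77, 4), (11, 5), (63, 4), (54, 3), (46, 2), (65, 5), (56, 4), (8, 3), (66, 4), (9, 3), (10, 3), (77, 5), (71, 6), (61, 5), (52, 4), (37, 3), (31, 2), (4, 1), (54, 1), (9, 2), (74, 2), (76, 3), (77, 4), (11, 5), (62, 4), (53, 3), (38, 2), (32, 1), (74, 4), (64, 3), (76, 5), (66, 4), (77, 6), (10, 5), (11, 5), (52, 4), (37, 3), (31, 2), (26, 1), (73, 5), (63, 4), (54, 3), (76, 6), (66, 5), (9, 4), (11, 5), (64, 4), (66, 5), (62, 6), (53, 5), (38, 4), (32, 3), (5, 2), (73, 3), (63, 2), (77, 4), (10, 3), (11, 3), (63, 5), (54, 4), (39, 3), (6, 2), (76, 3), (77, 4), (75, 5), (65, 4), (56, 3), (76, 6), (66, 5), (9, 4), (72, 5), (62, 4), (45, 3), (38, 2), (74, 6), (64, 5), (47, 4), (7, 3), (75, 3), (77, 4), (11, 5), (10, 4), (73, 4), (46, 3), (74, 5), (47, 4), (75,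 6), (8, 5), (77, 5), (11, 6), (64, 5), (7, 4), (77, 4), (75, 5), (65, 4), (77, 6), (10, 5), (11, 5), (77, 7), (10, 6), (11, 6), (68, 6), (49, 5), (41, 4), (28, 3), (23, 2), (19, 1), (1, 0), (71, 0), (74, 1), (75, 2), (76, 3), (11, 4), (53, 3), (45, 2), (38, 1), (55, 4), (47, 3), (7, 2), (75, 2), (76, 3), (75, 4), (56, 3), (8, 2), (76, 3), (9, 2), (11, 2), (75, 6), (56, 5), (8, 4), (11, 5), (9, 4), (71, 4), (37, 3), (31, 2), (26, 1), (4, 0), (53, 0), (9, 1), (73, 2), (63, 1), (76, 3), (66, 2), (11, 4), (64, 3), (55, 2), (72, 5), (62, 4), (53, 3), (38, 2), (32, 1), (5, 0), (73, 1), (63, 0), (77, 2), (10, 1), (11, 1), (73, 4), (63, 3), (54, 2), (39, 1), (6, 0), (76, 1), (77, 2), (11, 3), (64, 2), (55, 1), (7, 0), (76, 0), (77, 1), (76, 2), (66, 1), (9, 0), (77, 1), (10, 0), (11, 0)], []⟩,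
    ⟨2, [2, 1], [1, 2, 4, 5], [(59, 1), (17, 0), (77, 6), (10, 5), (74, 5), (7, 4), (11, 4)], [(60, 2), (36, 1), (10, 4), (53, 3), (38, 2), (54, 4), (39, 3), (76, 5), (74, 6), (55, 5), (7, 4), (76, 4), (11, 5), (66, 5), (9, 4)], [(57, 4), (33, 3), (27, 2), (12, 1), (0, 0), (58, 5), (49, 4), (34, 3), (28, 2), (19, 1), (14, 0), (71, 2), (74, 3), (75, 4), (76, 5), (11, 6), (54, 5), (46, 4), (39, 3), (75, 5), (76, 6), (74, 7), (55, 6), (47, 5), (7, 4), (75, 4), (76, 5), (11, 6), (56, 5), (8, 4), (9, 4), (74, 4), (76, 5), (77, 6), (11, 7), (59, 6), (50, 5), (35, 4), (29, 3), (20, 2), (2, 1), (71, 1), (75, 2), (76, 3), (77, 4), (11, 5), (63, 4), (54, 3), (46, 2), (65, 5), (56, 4), (8, 3), (66, 4), (9, 3), (10, 3), (77, 5), (71, 6), (61, 5), (52, 4), (37, 3), (31, 2), (4, 1), (54, 1), (9, 2), (74, 2), (76, 3), (77, 4), (11, 5),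 (62, 4), (53, 3), (38, 2), (32, 1), (74, 4), (64, 3), (76, 5), (66, 4), (77, 6), (10, 5), (11, 5), (54, 4), (39, 3), (6, 2), (76, 3), (74, 4), (55, 3), (7, 2), (76, 2), (11, 3), (56, 2), (74, 5), (64, 4), (55, 3), (47, 2), (75, 6), (65, 5), (56, 4), (8, 3), (77, 5), (10, 4), (11, 4), (68, 5), (58, 4), (49, 3), (34, 2), (23, 1), (1, 0), (72, 0), (74, 1), (75, 2), (76, 3), (11, 4), (55, 3), (47, 2), (7, 1), (75, 1), (76, 2), (76, 3), (9, 2), (77, 2), (11, 3), (71, 3), (61, 2), (44, 1), (26, 0), (75, 4), (65, 3), (56, 2), (11, 5), (10, 4), (72, 4), (53, 3), (45, 2), (5, 1), (75, 2), (65, 1), (76, 3), (66, 2), (11, 4), (63, 3), (54, 2), (46, 1), (64, 4), (55, 3), (47, 2), (66, 5), (9, 4), (10, 4)], [(67, 8), (57, 7), (48, 6), (33, 5), (27, 4), (22, 3), (18, 2), (12, 1), (0, 0), (58, 5), (49, 4), (34, 3), (28, 2), (19, 1), (14,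 0), (71, 2), (74, 3), (75, 4), (76, 5), (11, 6), (54, 5), (46, 4), (39, 3), (75, 5), (76, 6), (74, 7), (55, 6), (47, 5), (7, 4), (75, 4), (76, 5), (11, 6), (56, 5), (8, 4), (9, 4), (74, 4), (76, 5), (77, 6), (11, 7), (59, 6), (50, 5), (35, 4), (29, 3), (20, 2), (2, 1), (71, 1), (75, 2), (76, 3), (77, 4), (11, 5), (63, 4), (54, 3), (46, 2), (65, 5), (56, 4), (8, 3), (66, 4), (9, 3), (10, 3), (77, 5), (71, 6), (61, 5), (52, 4), (37, 3), (31, 2), (4, 1), (54, 1), (9, 2), (74, 2), (76, 3), (77, 4), (11, 5), (62, 4), (53, 3), (38, 2), (32, 1), (74, 4), (64, 3), (76, 5), (66, 4), (77, 6), (10, 5), (11, 5), (52, 4), (37, 3), (31, 2), (26, 1), (73, 5), (63, 4), (54, 3), (76, 6), (66, 5), (9, 4), (11, 5), (64, 4), (66, 5), (62, 6), (53, 5), (38, 4), (32, 3), (5, 2), (73, 3), (63, 2), (77, 4), (10, 3), (11, 3), (63, 5), (54, 4), (39,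 3), (6, 2), (76, 3), (77, 4), (75, 5), (65, 4), (56, 3), (76, 6), (66, 5), (9, 4), (72, 5), (62, 4), (45, 3), (38, 2), (74, 6), (64, 5), (47, 4), (7, 3), (75, 3), (77, 4), (11, 5), (10, 4), (73, 4), (46, 3), (74, 5), (47, 4), (75, 6), (8, 5), (77, 5), (11, 6), (64, 5), (7, 4), (77, 4), (75, 5), (65, 4), (77, 6), (10, 5), (11, 5), (77, 7), (10, 6), (11, 6), (68, 6), (49, 5), (41, 4), (28, 3), (23, 2), (19, 1), (1, 0), (71, 0), (74, 1), (75, 2), (76, 3), (11, 4), (53, 3), (45, 2), (38, 1), (55, 4), (47, 3), (7, 2), (75, 2), (76, 3), (75, 4), (56, 3), (8, 2), (76, 3), (9, 2), (11, 2), (75, 6), (56, 5), (8, 4), (11, 5), (9, 4), (73, 4), (39, 3), (6, 2), (11, 3), (7, 2), (77, 2), (68, 3), (58, 2), (23, 1), (19, 0), (72, 5), (53, 4), (45, 3), (38, 2), (74, 6), (55, 5), (47, 4), (7, 3), (75, 3), (76, 4), (11, 5), (56, 4), (8, 3),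 (9, 3), (77, 3), (11, 4), (74, 4), (64, 3), (11, 5), (58, 4), (34, 3), (23, 2), (19, 1), (1, 0), (71, 0), (74, 1), (75, 2), (76, 3), (11, 4), (53, 3), (45, 2), (38, 1), (55, 4), (47, 3), (7, 2), (75, 2), (76, 3), (75, 4), (56, 3), (8, 2), (76, 3), (9, 2), (11, 2), (72, 4), (62, 3), (38, 2), (5, 1), (74, 2), (64, 1), (77, 3), (10, 2), (11, 2), (39, 1), (75, 3)]⟩,
    ⟨2, [2, 2], [4, 5], [(60, 1), (3, 0), (10, 4)], [(66, 3)], [(57, 4), (33, 3), (27, 2), (12, 1), (0, 0), (58, 5), (49, 4), (34, 3), (28, 2), (19, 1), (14, 0), (71, 2), (74, 3), (75, 4), (76, 5), (11, 6), (54, 5), (46, 4), (39, 3), (75, 5), (76, 6), (74, 7), (55, 6), (47, 5), (7, 4), (75, 4), (76, 5), (11, 6), (56, 5), (8, 4), (9, 4), (74, 4), (76, 5), (77, 6), (11, 7), (59, 6), (50, 5), (35, 4), (29, 3), (20, 2), (2, 1), (71, 1), (75, 2), (76, 3), (77, 4), (11,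 5), (63, 4), (54, 3), (46, 2), (65, 5), (56, 4), (8, 3), (66, 4), (9, 3), (10, 3), (77, 5), (71, 6), (61, 5), (52, 4), (37, 3), (31, 2), (4, 1), (54, 1), (9, 2), (74, 2), (76, 3), (77, 4), (11, 5), (62, 4), (53, 3), (38, 2), (32, 1), (74, 4), (64, 3), (76, 5), (66, 4), (77, 6), (10, 5), (11, 5), (54, 4), (39, 3), (6, 2), (76, 3), (74, 4), (55, 3), (7, 2), (76, 2), (11, 3), (56, 2), (74, 5), (64, 4), (55, 3), (47, 2), (75, 6), (65, 5), (56, 4), (8, 3), (77, 5), (10, 4), (11, 4), (68, 5), (58, 4), (49, 3), (34, 2), (23, 1), (1, 0), (72, 0), (74, 1), (75, 2), (76, 3), (11, 4), (55, 3), (47, 2), (7, 1), (75, 1), (76, 2), (76, 3), (9, 2), (77, 2), (11, 3), (73, 3), (63, 2), (46, 1), (74, 4), (64, 3), (47, 2), (77, 5), (10, 4)], [(68, 2), (34, 1), (1, 0), (74, 0), (11, 1), (38, 0), (39, 1), (75, 3)]⟩,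
    ⟨2, [6, 2], [2, 6], [(70, 0), (77, 1)], [], [(57, 6), (48, 5), (40, 4), (33, 3), (22, 2), (18, 1), (13, 0), (52, 6), (44, 5), (37, 4), (31, 3), (26, 2), (73, 6), (63, 5), (54, 4), (76, 7), (66, 6), (9, 5), (11, 6), (64, 5), (65, 6), (76, 8), (66, 7), (72, 9), (62, 8), (53, 7), (45, 6), (38, 5), (32, 4), (5, 3), (73, 4), (63, 3), (77, 5), (10, 4), (11, 4), (73, 8), (63, 7), (54, 6), (46, 5), (39, 4), (6, 3), (75, 4), (76, 5), (77, 6), (11, 7), (65, 6), (56, 5), (8, 4), (66, 5), (9, 4), (62, 4), (38, 3), (64, 5), (7, 4), (77, 4), (77, 5), (10, 4), (11, 4), (75, 7), (65, 6), (8, 5), (76, 6), (66, 5), (77, 7), (10, 6), (11, 6), (68, 7), (58, 6), (49, 5), (34, 4), (23, 3), (19, 2), (14, 1), (71, 3), (74, 4), (75, 5), (76, 6), (11, 7), (53, 6), (45, 5), (38, 4), (55, 7), (47, 6), (7, 5), (75, 5), (76, 6), (75, 7), (56, 6),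 (8, 5), (76, 6), (9, 5), (11, 5), (11, 8), (63, 7), (54, 6), (39, 5), (76, 7), (77, 8), (74, 9), (64, 8), (55, 7), (7, 6), (76, 6), (77, 7), (11, 8), (10, 7)], [(59, 4), (35, 3), (29, 2), (64, 6), (55, 5), (47, 4), (10, 7), (52, 6), (44, 5), (37, 4), (31, 3), (74, 6), (55, 5), (75, 7), (56, 6), (11, 8), (9, 7), (45, 6), (38, 5), (32, 4), (74, 7), (64, 6), (75, 8), (65, 7), (74, 9), (64, 8), (47, 7), (7, 6), (75, 6), (77, 7), (11, 8), (65, 7), (8, 6), (66, 6), (10, 7)]⟩,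
    ⟨3, [0, 0], [], [(48, 3), (18, 2), (12, 1), (0, 0), (58, 5), (49, 4), (34, 3), (28, 2), (19, 1), (14, 0), (71, 2), (74, 3), (75, 4), (76, 5), (11, 6), (54, 5), (46, 4), (39, 3), (75, 5), (76, 6), (74, 7), (55, 6), (47, 5), (7, 4), (75, 4), (76, 5), (11, 6), (56, 5), (8, 4), (9, 4), (74, 4), (76, 5), (77, 6), (11, 7), (59, 6), (50, 5), (35, 4), (29, 3), (20, 2), (2, 1), (71, 1), (75, 2), (76, 3), (77, 4), (11, 5), (63, 4), (54, 3), (46, 2), (65, 5), (56, 4), (8, 3), (66, 4), (9, 3), (10, 3), (77, 5), (71, 6), (61, 5), (52, 4), (37, 3), (31, 2), (4, 1), (54, 1), (9, 2), (74, 2), (76, 3), (77, 4), (11, 5), (62, 4), (53, 3), (38, 2), (32, 1), (74, 4), (64, 3), (76, 5), (66, 4), (77, 6), (10, 5), (11, 5), (52, 4), (37, 3), (31, 2), (26, 1), (73, 5), (63, 4), (54, 3), (76, 6), (66, 5), (9, 4), (11, 5), (64, 4), (66, 5), (62,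 6), (53, 5), (38, 4), (32, 3), (5, 2), (73, 3), (63, 2), (77, 4), (10, 3), (11, 3), (63, 5), (54, 4), (39, 3), (6, 2), (76, 3), (77, 4), (75, 5), (65, 4), (56, 3), (76, 6), (66, 5), (9, 4), (76, 5), (66, 4), (77, 6), (10, 5), (11, 5), (49, 4), (41, 3), (34, 2), (19, 1), (1, 0), (71, 0), (74, 1), (75, 2), (76, 3), (11, 4), (55, 3), (47, 2), (7, 1), (75, 1), (76, 2), (75, 3), (56, 2), (8, 1), (11, 2), (9, 1), (4, 0), (9, 0)], [], [(69, 4), (50, 3), (29, 2), (20, 1), (2, 0), (71, 0), (75, 1), (76, 2), (77, 3), (11, 4), (63, 3), (54, 2), (46, 1), (65, 4), (56, 3), (8, 2), (66, 3), (9, 2), (10, 2), (11, 3), (52, 2), (31, 1), (4, 0), (54, 0), (9, 1), (76, 1), (73, 2), (54, 1), (6, 0), (76, 1), (9, 0), (11, 0)], []⟩,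
    ⟨3, [1, 0], [0, 1, 5, 6], [(33, 2), (18, 1), (13, 0), (52, 6), (44, 5), (37, 4), (31, 3), (26, 2), (73, 6), (63, 5), (54, 4), (76, 7), (66, 6), (9, 5), (11, 6), (64, 5), (65, 6), (76, 8), (66, 7), (72, 9), (62, 8), (53, 7), (45, 6), (38, 5), (32, 4), (5, 3), (73, 4), (63, 3), (77, 5), (10, 4), (11, 4), (73, 8), (63, 7), (54, 6), (46, 5), (39, 4), (6, 3), (75, 4), (76, 5), (77, 6), (11, 7), (65, 6), (56, 5), (8, 4), (66, 5), (9, 4), (64, 4), (7, 3), (77, 3), (75, 4), (65, 3), (77, 5), (10, 4), (11, 4), (41, 3), (19, 2), (14, 1), (71, 3), (74, 4), (75, 5), (76, 6), (11, 7), (56, 6), (8, 5), (71, 6), (52, 5), (37, 4), (4, 3), (55, 3), (9, 4), (76, 4)], [(50, 3), (20, 2), (76, 7), (66, 6), (9, 5), (11, 6), (61, 5), (44, 4), (4, 3), (56, 3), (77, 5), (74, 6), (64, 5), (55, 4), (47, 3), (75, 7), (65, 6), (56, 5), (8, 4), (77,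 6), (10, 5)], [(59, 4), (42, 3), (35, 2), (20, 1), (2, 0), (71, 0), (75, 1), (76, 2), (77, 3), (11, 4), (64, 3), (55, 2), (47, 1), (65, 4), (56, 3), (8, 2), (77, 4), (10, 3), (71, 3), (52, 2), (37, 1), (4, 0), (55, 0), (9, 1), (73, 1), (39, 0), (11, 2)], [(69, 4), (50, 3), (29, 2), (20, 1), (2, 0), (71, 0), (75, 1), (76, 2), (77, 3), (11, 4), (63, 3), (54, 2), (46, 1), (65, 4), (56, 3), (8, 2), (66, 3), (9, 2), (10, 2), (11, 3), (52, 2), (31, 1), (4, 0), (54, 0), (9, 1), (76, 1), (74, 2), (55, 1), (75, 3), (56, 2), (77, 4), (67, 5), (57, 4), (48, 3), (40, 2), (33, 1), (27, 0), (74, 5), (64, 4), (47, 3), (7, 2), (75, 2), (77, 3), (11, 4), (65, 3), (8, 2), (10, 2), (75, 2), (76, 3), (77, 4), (11, 5), (10, 4), (11, 4), (49, 3), (41, 2), (28, 1), (75, 6), (56, 5), (8, 4), (11, 5), (9, 4), (35, 3), (29, 2), (64, 6), (55, 5),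 (47, 4), (63, 7), (54, 6), (46, 5), (39, 4), (6, 3), (75, 4), (76, 5), (77, 6), (75, 7), (65, 6), (56, 5), (8, 4), (67, 6), (57, 5), (48, 4), (33, 3), (13, 2), (12, 1), (0, 0), (58, 5), (49, 4), (34, 3), (28, 2), (19, 1), (14, 0), (71, 2), (74, 3), (75, 4), (76, 5), (11, 6), (54, 5), (46, 4), (39, 3), (75, 5), (76, 6), (74, 7), (55, 6), (47, 5), (7, 4), (75, 4), (76, 5), (11, 6), (56, 5), (8, 4), (9, 4), (74, 4), (76, 5), (77, 6), (11, 7), (59, 6), (50, 5), (35, 4), (29, 3), (20, 2), (2, 1), (71, 1), (75, 2), (76, 3), (77, 4), (11, 5), (63, 4), (54, 3), (46, 2), (65, 5), (56, 4), (8, 3), (66, 4), (9, 3), (10, 3), (77, 5), (71, 6), (61, 5), (52, 4), (37, 3), (31, 2), (4, 1), (54, 1), (9, 2), (74, 2), (76, 3), (77, 4), (11, 5), (62, 4), (53, 3), (38, 2), (32, 1), (74, 4), (64, 3), (76, 5), (66, 4), (77, 6), (10, 5), (11, 5),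 (50, 4), (35, 3), (29, 2), (24, 1), (63, 5), (54, 4), (46, 3), (65, 6), (56, 5), (8, 4), (66, 5), (9, 4), (10, 4), (72, 6), (53, 5), (38, 4), (32, 3), (5, 2), (73, 3), (63, 2), (77, 4), (10, 3), (11, 3), (73, 5), (54, 4), (39, 3), (6, 2), (76, 3), (11, 4), (55, 3), (7, 2), (76, 2), (75, 3), (56, 2), (76, 4), (9, 3), (74, 3), (47, 2), (75, 4), (8, 3), (77, 3), (11, 4), (66, 3), (10, 4), (77, 4), (11, 5), (68, 5), (58, 4), (49, 3), (34, 2), (14, 1), (1, 0), (69, 0), (11, 1), (11, 4), (59, 3), (50, 2), (35, 1), (2, 0), (74, 0), (76, 1), (11, 2), (63, 2), (54, 1), (39, 0), (76, 2), (77, 3), (77, 4), (10, 3)]⟩,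
    ⟨3, [1, 1], [5, 6], [(35, 2), (20, 1), (2, 0), (71, 0), (75, 1), (76, 2), (77, 3), (11, 4), (64, 3), (55, 2), (47, 1), (61, 4), (52, 3), (44, 2), (37, 1), (4, 0), (55, 0), (56, 1), (76, 3), (9, 2), (77, 2), (74, 3), (64, 2), (47, 1), (7, 0), (75, 0), (77, 1), (11, 2)], [], [(59, 4), (42, 3), (35, 2), (20, 1), (2, 0), (71, 0), (75, 1), (76, 2), (77, 3), (11, 4), (64, 3), (55, 2), (47, 1), (65, 4), (56, 3), (8, 2), (77, 4), (10, 3), (71, 3), (52, 2), (37, 1), (4, 0), (55, 0), (9, 1), (74, 1), (7, 0), (11, 0)], [(40, 4), (27, 3), (13, 2), (12, 1), (0, 0), (58, 5), (49, 4), (34, 3), (28, 2), (19, 1), (14, 0), (71, 2), (74, 3), (75, 4), (76, 5), (11, 6), (54, 5), (46, 4), (39, 3), (75, 5), (76, 6), (74, 7), (55, 6), (47, 5), (7, 4), (75, 4), (76, 5), (11, 6), (56, 5), (8, 4), (9, 4), (74, 4), (76, 5), (77, 6), (11, 7), (59,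 6), (50, 5), (35, 4), (29, 3), (20, 2), (2, 1), (71, 1), (75, 2), (76, 3), (77, 4), (11, 5), (63, 4), (54, 3), (46, 2), (65, 5), (56, 4), (8, 3), (66, 4), (9, 3), (10, 3), (77, 5), (71, 6), (61, 5), (52, 4), (37, 3), (31, 2), (4, 1), (54, 1), (9, 2), (74, 2), (76, 3), (77, 4), (11, 5), (62, 4), (53, 3), (38, 2), (32, 1), (74, 4), (64, 3), (76, 5), (66, 4), (77, 6), (10, 5), (11, 5), (50, 4), (35, 3), (29, 2), (24, 1), (63, 5), (54, 4), (46, 3), (65, 6), (56, 5), (8, 4), (66, 5), (9, 4), (10, 4), (72, 6), (53, 5), (38, 4), (32, 3), (5, 2), (73, 3), (63, 2), (77, 4), (10, 3), (11, 3), (73, 5), (54, 4), (39, 3), (6, 2), (76, 3), (11, 4), (55, 3), (7, 2), (76, 2), (75, 3), (56, 2), (76, 4), (9, 3), (73, 3), (46, 2), (74, 4), (47, 3), (75, 5), (8, 4), (77, 4), (11, 5), (65, 4), (58, 5), (41, 4), (34, 3), (28, 2), (14, 1), (1,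 0), (69, 0), (11, 1), (74, 5), (55, 4), (47, 3), (7, 2), (75, 2), (76, 3), (11, 4), (56, 3), (8, 2), (77, 3), (11, 4), (59, 3), (50, 2), (29, 1), (2, 0), (73, 0), (75, 1), (76, 2), (77, 3), (76, 4), (66, 3), (9, 2), (11, 3), (10, 2), (46, 1), (6, 0)]⟩,
    ⟨3, [4, 1], [1, 4, 5, 6], [(50, 2), (35, 1), (29, 0), (64, 4), (55, 3), (47, 2), (66, 5), (9, 4), (71, 5), (61, 4), (44, 3), (37, 2), (31, 1), (74, 4), (55, 3), (75, 5), (56, 4), (11, 6), (74, 7), (64, 6), (55, 5), (47, 4), (7, 3), (75, 3), (76, 4), (77, 5), (11, 6)], [(39, 2), (74, 4), (7, 3), (11, 3), (56, 3)], [(50, 2), (35, 1), (29, 0), (64, 4), (55, 3), (47, 2), (66, 5), (9, 4), (71, 5), (61, 4), (44, 3), (37, 2), (31, 1), (74, 4), (55, 3), (75, 5), (56, 4), (11, 6), (74, 7), (64, 6), (55, 5), (47, 4), (7, 3), (75, 3), (76, 4), (77, 5), (11, 6), (65, 5), (56, 4),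 (8, 3), (10, 4)], [(63, 4), (46, 3), (39, 2), (75, 4), (77, 5), (74, 6), (64, 5), (47, 4), (7, 3), (75, 3), (77, 4), (11, 5), (66, 4), (57, 5), (48, 4), (40, 3), (27, 2), (18, 1), (13, 0), (52, 6), (44, 5), (37, 4), (31, 3), (26, 2), (73, 6), (63, 5), (54, 4), (76, 7), (66, 6), (9, 5), (11, 6), (64, 5), (65, 6), (76, 8), (66, 7), (72, 9), (62, 8), (53, 7), (45, 6), (38, 5), (32, 4), (5, 3), (73, 4), (63, 3), (77, 5), (10, 4), (11, 4), (73, 8), (63, 7), (54, 6), (46, 5), (39, 4), (6, 3), (75, 4), (76, 5), (77, 6), (11, 7), (65, 6), (56, 5), (8, 4), (66, 5), (9, 4), (63, 4), (39, 3), (77, 5), (74, 6), (64, 5), (7, 4), (77, 4), (11, 5), (65, 4), (10, 5), (75, 5), (8, 4), (76, 4), (77, 5), (11, 6), (10, 5), (68, 5), (49, 4), (28, 3), (19, 2), (14, 1), (71, 3), (74, 4), (75, 5), (76, 6), (11, 7), (54, 6), (46, 5), (39, 4), (75,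 6), (76, 7), (74, 8), (55, 7), (47, 6), (7, 5), (75, 5), (76, 6), (11, 7), (56, 6), (8, 5), (9, 5), (76, 5), (11, 6), (50, 5), (29, 4), (20, 3), (2, 2), (71, 2), (75, 3), (76, 4), (77, 5), (11, 6), (63, 5), (54, 4), (46, 3), (65, 6), (56, 5), (8, 4), (66, 5), (9, 4), (10, 4), (73, 5), (54, 4), (6, 3), (75, 4), (56, 3), (67, 5), (48, 4), (40, 3), (18, 2), (12, 1), (0, 0), (58, 5), (49, 4), (34, 3), (28, 2), (19, 1), (14, 0), (71, 2), (74, 3), (75, 4), (76, 5), (11, 6), (54, 5), (46, 4), (39, 3), (75, 5), (76, 6), (74, 7), (55, 6), (47, 5), (7, 4), (75, 4), (76, 5), (11, 6), (56, 5), (8, 4), (9, 4), (74, 4), (76, 5), (77, 6), (11, 7), (59, 6), (50, 5), (35, 4), (29, 3), (20, 2), (2, 1), (71, 1), (75, 2), (76, 3), (77, 4), (11, 5), (63, 4), (54, 3), (46, 2), (65, 5), (56, 4), (8, 3), (66, 4), (9, 3), (10, 3), (77, 5), (71,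 6), (61, 5), (52, 4), (37, 3), (31, 2), (4, 1), (54, 1), (9, 2), (74, 2), (76, 3), (77, 4), (11, 5), (62, 4), (53, 3), (38, 2), (32, 1), (74, 4), (64, 3), (76, 5), (66, 4), (77, 6), (10, 5), (11, 5), (52, 4), (37, 3), (31, 2), (26, 1), (73, 5), (63, 4), (54, 3), (76, 6), (66, 5), (9, 4), (11, 5), (64, 4), (66, 5), (62, 6), (53, 5), (38, 4), (32, 3), (5, 2), (73, 3), (63, 2), (77, 4), (10, 3), (11, 3), (63, 5), (54, 4), (39, 3), (6, 2), (76, 3), (77, 4), (75, 5), (65, 4), (56, 3), (76, 6), (66, 5), (9, 4), (75, 5), (65, 4), (8, 3), (76, 4), (66, 3), (77, 5), (10, 4), (11, 4), (68, 4), (49, 3), (34, 2), (19, 1), (1, 0), (71, 0), (74, 1), (75, 2), (76, 3), (11, 4), (55, 3), (47, 2), (7, 1), (75, 1), (76, 2), (76, 3), (9, 2), (11, 2), (42, 1), (20, 0), (75, 5), (65, 4), (56, 3), (8, 2), (11, 4), (63, 3), (54, 2), (10, 4)]⟩,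
    ⟨6, [0, 0], [2, 4], [(67, 4), (57, 3), (48, 2), (33, 1), (0, 0), (64, 5), (55, 4), (7, 3), (76, 3), (77, 4), (75, 5), (65, 4), (56, 3), (77, 6), (10, 5), (11, 5), (9, 4), (77, 5), (10, 4), (11, 4), (74, 4), (47, 3), (76, 5), (77, 6), (11, 7)], [(61, 2), (37, 1), (63, 3), (39, 2), (77, 4), (75, 5), (65, 4), (76, 6), (66, 5), (11, 7)], [(40, 4), (27, 3), (18, 2), (13, 1), (0, 0), (59, 5), (50, 4), (35, 3), (29, 2), (20, 1), (2, 0), (71, 0), (75, 1), (76, 2), (77, 3), (11, 4), (63, 3), (54, 2), (46, 1), (65, 4), (56, 3), (8, 2), (66, 3), (9, 2), (10, 2), (77, 4), (72, 5), (62, 4), (53, 3), (38, 2), (32, 1), (74, 4), (64, 3), (76, 5), (66, 4), (77, 6), (10, 5), (11, 5), (54, 4), (39, 3), (6, 2), (76, 3), (74, 4), (55, 3), (7, 2), (76, 2), (11, 3), (56, 2), (9, 3), (44, 2), (26, 1), (4, 0), (53, 0), (9, 1), (75, 2), (65,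 1), (11, 3), (62, 2), (45, 1), (5, 0), (75, 1), (65, 0), (77, 2), (10, 1), (73, 1), (46, 0), (75, 2), (8, 1), (76, 1), (73, 2), (54, 1), (6, 0), (74, 1), (55, 0), (75, 2), (56, 1), (77, 3), (11, 4), (65, 3), (56, 2), (8, 1), (59, 2), (50, 1), (35, 0), (77, 3), (71, 4), (61, 3), (52, 2), (37, 1), (73, 5), (63, 4), (54, 3), (39, 2), (76, 4), (77, 5), (11, 6), (65, 5), (56, 4)], [(69, 4), (50, 3), (42, 2), (29, 1), (20, 0), (73, 5), (63, 4), (54, 3), (46, 2), (75, 6), (65, 5), (56, 4), (8, 3), (76, 5), (66, 4), (9, 3), (77, 4), (10, 3), (75, 3), (11, 4), (11, 5), (55, 4), (47, 3)]⟩,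
    ⟨6, [1, 0], [0, 1, 2, 4, 5], [(33, 1), (12, 0), (74, 5), (75, 6), (77, 7), (11, 8), (64, 7), (47, 6), (7, 5), (75, 5), (77, 6), (76, 7), (66, 6), (77, 8), (10, 7), (11, 7)], [(68, 4), (58, 3), (49, 2), (34, 1), (11, 5), (64, 4), (55, 3), (7, 2), (76, 2), (77, 3), (69, 4), (59, 3), (50, 2), (77, 4), (11, 5), (64, 4), (55, 3), (10, 5), (52, 4), (37, 3), (54, 5), (39, 4), (76, 6), (75, 7), (56, 6), (76, 8), (9, 7), (11, 7), (45, 6), (38, 5), (32, 4), (74, 7), (64, 6), (75, 8), (65, 7), (73, 9), (63, 8), (46, 7), (39, 6), (6, 5), (75, 6), (77, 7), (11, 8), (64, 7), (47, 6), (7, 5), (75, 5), (77, 6), (76, 7), (66, 6), (77, 8), (10, 7), (11, 7)], [(33, 1), (12, 0), (74, 5), (75, 6), (77, 7), (11, 8), (59, 7), (42, 6), (35, 5), (24, 4), (20, 3), (2, 2), (71, 2), (75, 3), (76, 4), (77, 5), (11, 6), (62, 5), (53, 4), (45, 3),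 (65, 6), (56, 5), (8, 4), (66, 5), (9, 4), (10, 4), (77, 6), (71, 7), (61, 6), (44, 5), (37, 4), (26, 3), (4, 2), (53, 2), (9, 3), (74, 4), (64, 3), (75, 5), (65, 4), (11, 6), (10, 5), (73, 5), (46, 4), (39, 3), (75, 5), (11, 6), (8, 5)], [(41, 4), (28, 3), (19, 2), (14, 1), (71, 3), (74, 4), (75, 5), (76, 6), (11, 7), (54, 6), (46, 5), (39, 4), (75, 6), (76, 7), (74, 8), (55, 7), (47, 6), (7, 5), (75, 5), (76, 6), (11, 7), (56, 6), (8, 5), (9, 5), (75, 5), (11, 6), (47, 5), (44, 6), (37, 5), (31, 4), (4, 3), (54, 3), (9, 4), (74, 4), (75, 5), (11, 6), (46, 5), (39, 4), (6, 3), (75, 4), (75, 5), (8, 4), (76, 4), (11, 5), (50, 4), (35, 3), (2, 2), (74, 2), (76, 3), (11, 4), (55, 3), (7, 2), (76, 2), (77, 3), (72, 4), (62, 3), (53, 2), (73, 5), (63, 4), (54, 3), (74, 6), (64, 5), (55, 4), (76, 7), (66, 6), (9, 5), (77, 6),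 (10, 5), (11, 5)]⟩,
    ⟨6, [2, 0], [0, 2, 5], [(57, 2), (33, 1), (13, 0), (55, 6), (47, 5), (7, 4), (75, 4), (76, 5), (75, 6), (56, 5), (8, 4), (77, 5), (11, 6), (10, 5), (74, 5), (55, 4), (76, 6), (9, 5), (77, 5), (11, 6)], [(69, 4), (59, 3), (50, 2), (35, 1), (77, 4), (11, 5), (64, 4), (55, 3), (7, 2), (76, 2), (77, 3), (77, 4), (10, 3), (72, 3), (53, 2), (73, 4), (54, 3), (74, 5), (55, 4), (76, 6), (9, 5), (77, 5), (11, 6)], [(67, 4), (48, 3), (40, 2), (27, 1), (18, 0), (54, 5), (46, 4), (6, 3), (55, 4), (47, 3), (56, 5), (8, 4), (75, 6), (65, 5), (56, 4), (76, 7), (66, 6), (9, 5), (77, 6), (10, 5), (11, 5), (69, 5), (42, 4), (35, 3), (24, 2), (20, 1), (72, 6), (62, 5), (53, 4), (45, 3), (75, 7), (65, 6), (56, 5), (8, 4), (76, 6), (66, 5), (9, 4), (77, 5), (10, 4), (74, 4), (75, 5), (11, 6), (71, 6), (44, 5), (37, 4),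 (26, 3), (4, 2), (53, 2), (9, 3), (74, 4), (64, 3), (75, 5), (65, 4), (11, 6), (73, 6), (63, 5), (46, 4), (39, 3), (75, 5), (77, 6), (11, 7), (65, 6), (8, 5)], [(44, 4), (31, 3), (4, 2), (54, 2), (9, 3), (75, 3), (11, 4), (46, 3), (6, 2), (8, 2), (72, 3), (53, 2), (73, 4), (54, 3), (74, 5), (55, 4), (76, 6), (9, 5), (77, 5), (11, 6)]⟩,
    ⟨6, [3, 3], [5], [(70, 3), (60, 2), (51, 1), (3, 0), (66, 4), (9, 3), (77, 4), (10, 3), (11, 3)], [], [(57, 6), (48, 5), (33, 4), (15, 3), (13, 2), (12, 1), (0, 0), (58, 5), (49, 4), (34, 3), (28, 2), (19, 1), (14, 0), (71, 2), (74, 3), (75, 4), (76, 5), (11, 6), (54, 5), (46, 4), (39, 3), (75, 5), (76, 6), (74, 7), (55, 6), (47, 5), (7, 4), (75, 4), (76, 5), (11, 6), (56, 5), (8, 4), (9, 4), (74, 4), (76, 5), (77, 6), (11, 7), (59, 6), (50, 5), (35, 4), (29, 3), (20, 2), (2, 1), (71,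 1), (75, 2), (76, 3), (77, 4), (11, 5), (63, 4), (54, 3), (46, 2), (65, 5), (56, 4), (8, 3), (66, 4), (9, 3), (10, 3), (77, 5), (71, 6), (61, 5), (52, 4), (37, 3), (31, 2), (4, 1), (54, 1), (9, 2), (74, 2), (76, 3), (77, 4), (11, 5), (62, 4), (53, 3), (38, 2), (32, 1), (74, 4), (64, 3), (76, 5), (66, 4), (77, 6), (10, 5), (11, 5), (50, 4), (35, 3), (29, 2), (24, 1), (63, 5), (54, 4), (46, 3), (65, 6), (56, 5), (8, 4), (66, 5), (9, 4), (10, 4), (72, 6), (53, 5), (38, 4), (32, 3), (5, 2), (73, 3), (63, 2), (77, 4), (10, 3), (11, 3), (73, 5), (54, 4), (39, 3), (6, 2), (76, 3), (11, 4), (55, 3), (7, 2), (76, 2), (75, 3), (56, 2), (76, 4), (9, 3), (70, 3), (43, 2), (11, 5), (61, 4), (44, 3), (77, 5), (73, 6), (63, 5), (46, 4), (75, 7), (65, 6), (8, 5), (77, 6), (10, 5), (11, 5), (76, 8), (66, 7), (77, 9), (10, 8), (11, 8), (68,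 9), (58, 8), (49, 7), (41, 6), (34, 5), (28, 4), (19, 3), (16, 2), (14, 1), (1, 0), (69, 0), (11, 1), (52, 6), (44, 5), (37, 4), (26, 3), (4, 2), (53, 2), (9, 3), (74, 4), (64, 3), (75, 5), (65, 4), (11, 6), (66, 5), (64, 6), (55, 5), (47, 4), (7, 3), (75, 3), (76, 4), (77, 5), (75, 6), (65, 5), (56, 4), (8, 3), (76, 5), (66, 4), (9, 3), (11, 4), (63, 3), (64, 4), (65, 5), (66, 6), (74, 8), (64, 7), (55, 6), (47, 5), (7, 4), (75, 4), (76, 5), (77, 6), (11, 7), (65, 6), (56, 5), (8, 4), (76, 6), (66, 5), (9, 4), (77, 5), (10, 4), (11, 4), (69, 4), (29, 3), (24, 2), (17, 1), (2, 0), (70, 0), (72, 1), (73, 2), (74, 3), (77, 4), (11, 5), (62, 4), (38, 3), (32, 2), (5, 1), (73, 2), (63, 1), (77, 3), (10, 2), (11, 2), (65, 3), (66, 4), (10, 5), (54, 4), (46, 3), (39, 2), (6, 1), (75, 2), (76, 3), (75, 4), (56, 3), (8, 2), (76,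 3), (9, 2), (77, 2), (11, 3), (60, 2), (36, 1), (3, 0), (64, 4), (55, 3), (7, 2), (76, 2), (77, 3), (76, 4), (66, 3), (9, 2), (77, 3), (10, 2), (74, 2), (76, 3), (77, 4)], []⟩,
    ⟨15, [2, 2], [], [(52, 3), (44, 2), (31, 1), (4, 0), (54, 0), (9, 1), (75, 1), (11, 2), (54, 2), (46, 1), (6, 0), (56, 1), (8, 0), (9, 0)], [], [(68, 4), (41, 3), (23, 2), (19, 1), (1, 0), (71, 0), (74, 1), (75, 2), (76, 3), (11, 4), (53, 3), (45, 2), (38, 1), (55, 4), (47, 3), (7, 2), (75, 2), (76, 3), (75, 4), (56, 3), (8, 2), (76, 3), (9, 2), (11, 2), (11, 3), (44, 2), (26, 1), (4, 0), (53, 0), (9, 1), (75, 2), (65, 1), (11, 3), (62, 2), (45, 1), (5, 0), (75, 1), (65, 0), (77, 2), (10, 1), (75, 1), (8, 0), (11, 0)], []⟩]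
  adj := [
    [(0, 1), (13, 2), (15, 7), (17, 1), (22, 7), (30, 7), (36, 3), (114, 2), (153, 5), (260, 5)],
    [(0, 4), (13, 2), (15, 4), (17, 5), (22, 3), (30, 2), (36, 1), (44, 1), (114, 2), (153, 2), (260, 1)],
    [(0, 3), (13, 3), (15, 5), (17, 3), (22, 5), (36, 4), (44, 7), (114, 4), (153, 2), (260, 2)],
    [(13, 7), (15, 7), (17, 1), (30, 1), (44, 7), (96, 1), (153, 7)],
    [(0, 6), (15, 3), (17, 4), (22, 3), (30, 5), (36, 1), (44, 1), (114, 7), (153, 3), (260, 4)],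
    [(0, 6), (13, 7), (15, 2), (17, 6), (22, 2), (30, 7), (44, 7), (114, 7), (153, 3), (260, 4)],
    [(0, 2), (13, 1), (15, 6), (17, 3), (22, 5), (30, 1), (44, 1), (114, 1), (153, 5), (260, 4)],
    [(13, 1), (17, 7), (22, 1), (30, 7), (44, 1)],
    [(30, 1), (36, 7), (44, 7)],
    [(36, 1)],
    [(13, 7), (17, 1), (30, 1), (44, 6)],
    [(44, 1)]]
  base := [
    ([(0, 6), (2, 1), (13, 6), (15, 2), (17, 6), (22, 2), (44, 5), (153, 4), (260, 4)], 2, [(1, 3), (2, 4), (3, 2), (4, 1), (5, 4), (6, 4), (7, 7), (8, 4), (10, 2), (11, 2), (13, 4), (14, 2), (15, 4), (16, 4), (18, 2), (19, 5), (21, 4), (22, 6), (23, 3), (24, 2), (25, 3), (27, 4), (28, 4), (29, 5), (30, 2), (31, 4), (32, 2), (36, 6), (37, 2), (38, 5), (39, 6), (40, 5), (42, 6), (44, 3), (46, 4), (48, 4), (49, 7), (53, 7), (54, 3), (55, 2), (56, 2), (57, 4), (58, 4),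 (59, 6), (60, 2), (61, 6), (62, 4), (63, 4), (64, 2), (65, 4), (66, 2), (67, 2), (69, 2), (70, 4), (72, 4), (73, 2), (74, 4), (75, 4), (76, 4), (77, 2), (79, 4), (80, 4)]),
    ([(3, 1), (13, 6), (15, 6), (17, 1), (30, 2), (36, 7), (44, 7), (96, 2), (153, 6)], 2, [(0, 2), (2, 2), (3, 4), (4, 6), (6, 6), (7, 4), (11, 2), (13, 6), (14, 6), (16, 6), (19, 1), (20, 4), (22, 6), (23, 6), (24, 6), (26, 2), (30, 4), (31, 2), (32, 6), (33, 6), (34, 3), (36, 4), (37, 2), (38, 4), (39, 6), (41, 6), (42, 4), (45, 2), (46, 6), (48, 4), (49, 3), (50, 1), (51, 4), (53, 2), (54, 2), (56, 4), (59, 6), (60, 6), (61, 2), (62, 4), (64, 4), (65, 6), (66, 6), (67, 2), (68, 4), (69, 2), (70, 6), (71, 2), (75, 4), (76, 4), (82, 4), (83, 4), (84, 2), (85, 2)])]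
  dense := [
    [0, 0, 0, 0, 0, 1, 1, 1, 2, 2, 3, 6, 0, 1, 0, 0, 0, 0, 1, 0, 0, 0, 0, 0, 0, 0, 1, 1, 0, 0, 0, 1, 1, 1, 0, 0, 0, 1, 1, 2, 0, 0, 0, 0, 1, 1, 1, 1, 1, 0, 0, 0, 1, 1, 2, 0, 1, 1, 0, 0, 0, 0, 1, 4, 2, 3, 4, 0, 0, 0, 0, 0, 1, 3, 2, 2, 3, 6],
    [0, 0, 0, 0, 0, 0, 0, 0, 0, 0, 0, 0, 0, 0, 0, 0, 0, 0, 0, 0, 0, 0, 0, 0, 0, 0, 0, 0, 0, 0, 0, 0, 0, 0, 0, 0, 0, 0, 0, 0, 0, 0, 0, 0, 0, 0, 0, 0, 0, 0, 0, 0, 0, 0, 0, 0, 0, 0, 0, 0, 0, 0, 0, 0, 0, 0, 0, 0, 1],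
    [0, 0, 7, 0, 7, 7, 0, 7, 6, 5, 6, 3, 6, 0, 7, 0, 0, 0, 0, 7, 7, 0, 0, 7, 7, 0, 7, 0, 0, 0, 0, 0, 0, 0, 0, 0, 0, 0, 7, 0, 0, 0, 0, 0, 0, 6, 0, 7, 0, 0, 0, 0, 0, 5, 0, 7, 6, 0, 0, 0, 0, 0, 6, 0, 0, 7, 7, 1, 7, 7, 0, 7, 6, 0, 7, 6, 6, 6],
    [0, 0, 7, 0, 7, 6, 7, 6, 4, 3, 3, 5, 6, 7, 7, 0, 0, 0, 7, 7, 7, 0, 7, 0, 7, 0, 0, 0, 7, 6, 0, 7, 5, 0, 7, 6, 0, 7, 6, 6, 0, 0, 0, 0, 7, 7, 4, 7, 0, 7, 6, 0, 7, 5, 3, 5, 4, 0, 7, 7, 0, 7, 7, 4, 7, 6, 5, 7, 0, 0, 0, 4, 7, 5, 3, 3, 6, 1],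
    [0, 0, 0, 0, 0, 0, 0, 0, 0, 0, 0, 0, 0, 0, 0, 0, 0, 0, 0, 0, 0, 0, 0, 0, 0, 0, 0, 0, 0, 0, 0, 0, 0, 0, 0, 0, 0, 0, 0, 0, 0, 0, 0, 0, 0, 0, 0, 0, 0, 0, 0, 0, 0, 0, 0, 0, 0, 0, 0, 0, 0, 0, 0, 0, 0, 0, 0, 0, 0, 1],
    [0, 0, 0, 0, 0, 7, 7, 7, 6, 6, 6, 5, 0, 6, 0, 0, 0, 0, 0, 0, 0, 0, 0, 0, 7, 0, 0, 0, 0, 7, 0, 0, 7, 0, 0, 7, 0, 0, 7, 7, 0, 0, 7, 0, 0, 7, 6, 7, 0, 0, 7, 0, 0, 7, 6, 7, 6, 0, 0, 0, 0, 0, 0, 6, 0, 7, 7, 1, 0, 0, 0, 0, 6, 5, 7, 2, 3, 5],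
    [0, 0, 0, 0, 0, 7, 7, 6, 5, 6, 4, 2, 0, 6, 0, 0, 0, 0, 0, 0, 7, 0, 7, 0, 0, 0, 0, 7, 0, 7, 0, 0, 7, 7, 0, 7, 0, 0, 7, 6, 7, 0, 0, 0, 0, 7, 6, 6, 7, 0, 7, 0, 0, 7, 6, 7, 6, 0, 0, 7, 0, 0, 7, 7, 5, 5, 6, 0, 0, 0, 0, 0, 7, 1, 4, 3, 5, 4],
    [0, 0, 0, 0, 0, 0, 0, 0, 0, 0, 0, 7, 0, 0, 6, 0, 0, 0, 0, 0, 0, 0, 0, 0, 0, 0, 0, 0, 0, 0, 0, 0, 0, 0, 0, 0, 0, 0, 0, 0, 0, 0, 0, 0, 0, 0, 0, 0, 0, 0, 0, 0, 0, 0, 0, 0, 0, 0, 0, 0, 0, 0, 0, 0, 0, 0, 0, 0, 1, 7],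
    [0, 0, 0, 0, 0, 0, 0, 7, 7, 6, 7, 3, 0, 0, 0, 0, 0, 0, 0, 0, 1, 0, 0, 7, 0, 0, 7, 0, 7, 7, 0, 7, 7, 0, 7, 7, 0, 7, 7, 7, 0, 7, 7, 0, 7, 0, 6, 7, 0, 7, 7, 0, 7, 0, 5, 7, 7, 0, 0, 0, 0, 0, 0, 6, 0, 0, 7, 1, 0, 1, 0, 0, 7, 5, 4, 2, 2, 6],
    [0, 0, 0, 0, 0, 0, 0, 0, 1, 1, 0, 1, 0, 0, 0, 0, 0, 0, 0, 0, 0, 0, 0, 0, 0, 1, 0, 0, 0, 0, 1, 0, 0, 0, 0, 0, 1, 0, 0, 0, 0, 0, 0, 0, 0, 0, 1, 0, 0, 0, 0, 1, 0, 0, 0, 1, 0, 0, 0, 0, 1, 0, 0, 0, 0, 0, 0, 0, 0, 0, 0, 0, 0, 0, 1, 0, 2],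
    [0, 0, 0, 0, 7, 0, 7, 1, 7, 5, 7, 6, 0, 0, 0, 6, 0, 0, 0, 0, 0, 7, 1, 0, 0, 0, 6, 1, 0, 0, 7, 7, 0, 1, 0, 0, 0, 6, 0, 7, 0, 0, 0, 7, 7, 0, 6, 1, 1, 0, 0, 0, 6, 7, 6, 0, 5, 1, 0, 0, 7, 6, 0, 7, 7, 6, 5, 0, 0, 0, 7, 7, 0, 6, 7, 5, 7, 2],
    [0, 0, 0, 0, 7, 0, 7, 0, 5, 6, 7, 4, 0, 0, 0, 6, 0, 1, 7, 0, 0, 7, 0, 0, 0, 0, 1, 7, 0, 0, 7, 0, 0, 0, 0, 0, 7, 7, 7, 6, 7, 0, 0, 0, 7, 7, 6, 0, 0, 0, 0, 7, 0, 0, 6, 7, 5, 7, 0, 0, 7, 0, 7, 6, 7, 5, 5, 7, 0, 0, 0, 0, 7, 0, 6, 4, 7, 2],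
    [0, 0, 0, 0, 7, 7, 0, 0, 7, 5, 5, 5, 0, 0, 0, 0, 6, 0, 0, 0, 0, 7, 0, 1, 0, 7, 7, 0, 1, 0, 0, 6, 6, 0, 1, 0, 7, 7, 7, 1, 0, 0, 0, 7, 7, 6, 1, 0, 0, 1, 0, 7, 7, 0, 7, 1, 7, 0, 1, 0, 0, 7, 7, 6, 5, 4, 4, 0, 0, 0, 0, 0, 7, 7, 6, 7, 0, 6],
    [0, 0, 0, 0, 7, 7, 0, 6, 6, 5, 7, 4, 0, 0, 0, 0, 6, 0, 0, 7, 0, 0, 0, 7, 0, 0, 7, 0, 0, 0, 0, 0, 0, 0, 7, 0, 0, 7, 0, 0, 0, 7, 0, 0, 7, 0, 0, 6, 0, 7, 0, 0, 7, 7, 0, 6, 6, 0, 0, 0, 0, 0, 7, 0, 6, 6, 6, 0, 0, 0, 7, 6, 6, 0, 4, 4, 4, 6],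
    [0, 0, 0, 0, 0, 0, 0, 7, 0, 0, 1, 7, 0, 0, 0, 0, 0, 7, 1, 7, 0, 1, 1, 0, 7, 1, 1, 0, 7, 7, 0, 1, 0, 1, 0, 7, 0, 7, 7, 7, 1, 7, 0, 0, 0, 2, 0, 7, 1, 0, 7, 0, 0, 1, 2, 7, 0, 0, 7, 0, 0, 1, 7, 0, 5, 6, 6, 0, 7, 0, 1, 0, 2, 2, 0, 6, 7, 3],
    [0, 0, 0, 0, 0, 7, 7, 7, 0, 0, 7, 5, 0, 0, 0, 0, 0, 6, 0, 0, 0, 0, 0, 0, 1, 7, 0, 0, 0, 1, 7, 0, 7, 0, 0, 1, 7, 0, 7, 7, 0, 0, 0, 0, 0, 0, 0, 0, 0, 0, 1, 0, 0, 6, 7, 7, 7, 0, 0, 1, 7, 0, 7, 7, 7, 7, 7, 0, 0, 0, 7, 0, 0, 7, 0, 6, 5, 5],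
    [0, 0, 0, 0, 0, 7, 7, 7, 7, 7, 5, 5, 0, 0, 0, 0, 0, 6, 0, 0, 0, 0, 0, 0, 7, 0, 0, 0, 0, 7, 0, 0, 7, 0, 0, 7, 0, 0, 7, 7, 0, 0, 0, 0, 0, 0, 7, 0, 0, 0, 0, 0, 0, 0, 7, 0, 7, 0, 0, 7, 0, 0, 7, 7, 7, 7, 7, 0, 0, 7, 7, 0, 7, 6, 6, 6, 6, 4],
    [0, 0, 0, 0, 0, 0, 0, 1, 1, 0, 1, 3, 0, 0, 0, 0, 0, 0, 0, 0, 7, 0, 1, 0, 0, 1, 0, 1, 0, 7, 1, 0, 0, 1, 0, 0, 1, 0, 0, 7, 0, 0, 7, 1, 1, 7, 0, 0, 0, 0, 0, 1, 1, 1, 1, 4, 2, 1, 0, 7, 0, 0, 0, 0, 1, 0, 2, 1, 0, 7, 0, 0, 7, 1, 2, 7, 3, 2],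
    [0, 0, 0, 0, 0, 0, 0, 1, 0, 7, 6, 7, 0, 0, 0, 0, 0, 0, 0, 0, 7, 0, 0, 1, 7, 0, 7, 0, 1, 0, 0, 7, 7, 0, 1, 7, 0, 7, 0, 0, 0, 0, 7, 0, 0, 0, 0, 2, 0, 0, 7, 0, 0, 0, 7, 2, 0, 0, 1, 0, 0, 7, 7, 7, 3, 2, 1, 0, 1, 0, 1, 0, 2, 6, 3, 3, 3],
    [0, 0, 0, 0, 0, 0, 0, 0, 0, 0, 0, 0, 0, 0, 0, 0, 0, 0, 0, 0, 0, 0, 0, 0, 0, 0, 0, 0, 0, 0, 0, 0, 0, 0, 0, 0, 0, 0, 0, 0, 0, 0, 0, 0, 0, 0, 0, 0, 0, 0, 0, 0, 1],
    [0, 0, 0, 0, 0, 7, 7, 0, 7, 6, 7, 6, 0, 0, 0, 0, 0, 0, 6, 0, 0, 0, 0, 0, 0, 0, 7, 0, 0, 0, 0, 7, 7, 0, 0, 0, 0, 0, 0, 0, 0, 0, 0, 0, 7, 7, 7, 0, 1, 0, 0, 0, 7, 7, 0, 0, 7, 0, 0, 0, 0, 0, 7, 5, 0, 6, 5, 0, 0, 0, 0, 0, 7, 5, 0, 7, 5, 7],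
    [0, 0, 0, 0, 0, 7, 7, 7, 7, 7, 6, 5, 0, 0, 0, 0, 0, 0, 6, 0, 1, 0, 7, 0, 0, 0, 0, 7, 0, 0, 0, 7, 7, 0, 0, 0, 0, 7, 6, 7, 7, 0, 0, 0, 1, 7, 0, 7, 7, 0, 0, 0, 0, 7, 6, 0, 0, 0, 0, 0, 0, 0, 7, 1, 6, 6, 7, 0, 0, 0, 0, 1, 6, 0, 5, 4, 4, 4],
    [0, 0, 0, 0, 0, 0, 0, 7, 7, 7, 0, 6, 0, 0, 0, 0, 0, 0, 0, 6, 0, 0, 0, 0, 0, 0, 0, 0, 0, 0, 0, 0, 0, 0, 0, 0, 0, 7, 0, 0, 0, 0, 0, 0, 7, 0, 0, 7, 0, 1, 0, 0, 7, 0, 0, 7, 7, 0, 0, 0, 0, 0, 0, 0, 0, 0, 0, 0, 0, 0, 0, 7, 0, 0, 0, 6, 6],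
    [0, 0, 0, 0, 0, 0, 0, 7, 7, 7, 0, 6, 0, 0, 0, 0, 0, 0, 0, 6, 0, 0, 0, 0, 0, 0, 0, 0, 0, 0, 0, 0, 0, 0, 7, 0, 0, 0, 0, 0, 0, 7, 0, 0, 0, 0, 0, 7, 0, 7, 0, 0, 0, 0, 0, 7, 7, 0, 0, 0, 0, 0, 0, 0, 0, 0, 0, 0, 7, 0, 0, 7, 0, 0, 7, 5, 6],
    [0, 0, 0, 0, 0, 0, 0, 7, 6, 5, 7, 5, 0, 0, 0, 0, 0, 0, 0, 0, 7, 0, 0, 7, 7, 0, 0, 0, 7, 7, 0, 7, 7, 1, 0, 7, 0, 7, 6, 0, 1, 7, 0, 0, 7, 5, 0, 7, 1, 7, 0, 0, 7, 6, 0, 6, 6, 0, 0, 0, 0, 7, 0, 6, 6, 7, 6, 1, 0, 7, 0, 1, 5, 5, 6, 6, 2, 6],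
    [0, 0, 0, 0, 0, 0, 0, 0, 7, 7, 7, 7, 0, 0, 0, 0, 0, 0, 0, 0, 6, 0, 0, 0, 0, 0, 0, 0, 0, 0, 0, 0, 0, 0, 0, 0, 0, 0, 0, 0, 0, 0, 0, 0, 7, 0, 0, 0, 0, 0, 1, 0, 7, 0, 0, 0, 7, 0, 0, 0, 0, 7, 0, 0, 0, 7, 7, 0, 0, 0, 0, 7, 0, 0, 0, 0, 7, 7],
    [0, 0, 0, 0, 0, 0, 0, 0, 7, 7, 7, 6, 0, 0, 0, 0, 0, 0, 0, 0, 6, 0, 0, 0, 0, 0, 0, 0, 0, 0, 0, 0, 0, 0, 0, 0, 0, 0, 0, 0, 0, 0, 7, 0, 0, 0, 0, 0, 0, 0, 7, 0, 0, 0, 0, 0, 7, 0, 0, 7, 0, 0, 0, 0, 0, 7, 7, 0, 0, 7, 0, 7, 0, 0, 0, 7, 6, 7],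
    [0, 0, 0, 0, 0, 0, 0, 0, 7, 0, 0, 2, 0, 0, 0, 0, 0, 0, 0, 0, 0, 0, 0, 0, 7, 0, 1, 0, 0, 7, 0, 1, 0, 0, 0, 0, 0, 1, 1, 1, 1, 0, 7, 0, 1, 0, 1, 0, 1, 0, 7, 0, 1, 0, 2, 0, 7, 1, 0, 0, 0, 0, 7, 1, 0, 0, 1, 1, 0, 0, 0, 0, 7, 0, 7, 5],
    [0, 0, 0, 0, 0, 0, 0, 0, 0, 0, 0, 0, 0, 0, 0, 0, 0, 0, 0, 0, 0, 0, 0, 0, 0, 0, 0, 0, 0, 0, 0, 0, 0, 0, 0, 7, 0, 0, 0, 0, 0, 1, 7, 0, 0, 0, 0, 7, 0, 1, 7, 0, 0, 0, 0, 7, 0, 0, 1, 0, 0, 0, 0, 0, 7, 7, 7, 0, 1, 7, 0, 1, 0, 0, 0, 0, 2, 1],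
    [0, 0, 0, 0, 0, 0, 0, 0, 7, 7, 7, 7, 0, 0, 0, 0, 0, 0, 0, 0, 0, 6, 0, 0, 0, 0, 0, 0, 0, 0, 0, 0, 0, 0, 0, 0, 0, 0, 0, 0, 0, 0, 0, 0, 7, 0, 0, 0, 0, 0, 0, 1, 7, 0, 0, 0, 7, 0, 0, 0, 0, 7, 0, 0, 0, 7, 7, 0, 0, 0, 0, 7, 0, 0, 0, 0, 7, 7],
    [0, 0, 0, 0, 0, 0, 0, 0, 7, 6, 6, 5, 0, 0, 0, 0, 0, 0, 0, 0, 0, 6, 0, 0, 0, 0, 7, 0, 0, 0, 0, 7, 0, 0, 0, 0, 0, 7, 0, 0, 0, 0, 0, 7, 0, 0, 0, 0, 0, 0, 0, 7, 7, 0, 7, 0, 7, 0, 0, 0, 7, 7, 0, 7, 7, 7, 6, 0, 0, 0, 7, 0, 0, 7, 0, 7, 7, 6],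
    [0, 0, 0, 0, 0, 0, 0, 0, 7, 7, 0, 0, 0, 0, 0, 0, 0, 0, 0, 0, 0, 0, 0, 0, 0, 7, 7, 0, 0, 0, 7, 0, 1, 0, 0, 0, 0, 0, 0, 0, 1, 0, 0, 7, 1, 0, 1, 0, 1, 0, 0, 7, 7, 6, 0, 0, 7, 1, 0, 0, 0, 1, 0, 5, 0, 5, 5, 1, 0, 0, 0, 1, 0, 6, 0, 0, 5, 2],
    [0, 0, 0, 0, 0, 0, 0, 0, 0, 0, 0, 1, 0, 0, 0, 0, 0, 0, 0, 0, 0, 0, 0, 0, 0, 0, 1, 0, 0, 0, 0, 0, 0, 0, 0, 0, 7, 0, 7, 0, 0, 1, 0, 7, 1, 0, 0, 0, 0, 1, 0, 7, 0, 1, 0, 7, 1, 0, 1, 0, 0, 0, 0, 0, 1, 2, 2, 0, 1, 0, 7, 0, 0, 0, 0, 1, 1, 1],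
    [0, 0, 0, 0, 0, 0, 0, 0, 0, 1, 0, 1, 0, 0, 0, 0, 0, 0, 0, 0, 0, 0, 0, 0, 0, 0, 1, 0, 0, 0, 0, 1, 0, 0, 0, 0, 0, 1, 0, 0, 0, 0, 1, 7, 0, 0, 0, 0, 0, 0, 1, 7, 0, 0, 1, 0, 0, 0, 0, 1, 7, 1, 7, 0, 0, 0, 2, 0, 0, 1, 7, 1, 0, 1, 0, 0, 3, 7],
    [0, 0, 0, 0, 0, 0, 0, 0, 0, 0, 0, 0, 0, 0, 0, 0, 0, 0, 0, 0, 0, 0, 0, 0, 0, 0, 0, 0, 0, 0, 0, 0, 0, 0, 0, 0, 0, 0, 0, 0, 0, 0, 0, 0, 0, 0, 0, 0, 0, 0, 0, 0, 0, 0, 0, 0, 0, 0, 0, 0, 0, 0, 1, 0, 0, 0, 0, 0, 0, 0, 0, 0, 1],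
    [0, 0, 0, 0, 0, 0, 0, 7, 0, 0, 7, 7, 0, 0, 0, 0, 0, 0, 0, 0, 0, 0, 6, 0, 0, 0, 0, 0, 0, 0, 0, 0, 0, 0, 0, 0, 0, 0, 7, 0, 0, 0, 0, 0, 0, 0, 0, 0, 0, 0, 0, 0, 0, 0, 0, 0, 0, 1, 0, 0, 0, 0, 7, 0, 7, 0, 0, 1, 0, 0, 0, 0, 7, 0, 7, 0, 0, 6],
    [0, 0, 0, 0, 0, 0, 0, 7, 0, 1, 7, 6, 0, 0, 0, 0, 0, 0, 0, 0, 0, 0, 6, 0, 1, 0, 1, 0, 0, 0, 0, 0, 7, 7, 0, 0, 0, 0, 7, 0, 0, 0, 0, 0, 1, 0, 1, 1, 0, 0, 0, 0, 1, 7, 0, 6, 0, 7, 0, 0, 0, 1, 7, 0, 6, 0, 0, 7, 0, 0, 0, 0, 0, 0, 5, 0, 6, 6],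
    [0, 0, 0, 0, 0, 0, 0, 7, 7, 7, 0, 7, 0, 0, 0, 0, 0, 0, 0, 0, 0, 0, 0, 6, 0, 0, 0, 0, 0, 0, 0, 0, 0, 0, 0, 0, 0, 0, 7, 0, 0, 0, 0, 0, 0, 7, 0, 7, 0, 0, 0, 0, 0, 7, 0, 7, 7, 0, 1, 0, 0, 0, 0, 0, 6, 6, 6, 0, 1, 0, 0, 0, 7, 0, 7, 5, 5, 7],
    [0, 0, 0, 0, 0, 0, 0, 7, 7, 7, 0, 6, 0, 0, 0, 0, 0, 0, 0, 0, 0, 0, 0, 6, 0, 0, 0, 0, 0, 0, 0, 0, 0, 0, 7, 0, 0, 0, 0, 0, 0, 7, 0, 0, 0, 0, 0, 7, 0, 7, 0, 0, 0, 0, 0, 7, 7, 0, 0, 0, 0, 0, 0, 0, 0, 0, 0, 0, 7, 0, 0, 0, 7, 0, 7, 5, 6],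
    [0, 0, 0, 0, 0, 0, 0, 0, 0, 7, 0, 7, 0, 0, 0, 0, 0, 0, 0, 0, 0, 0, 0, 0, 7, 0, 7, 0, 0, 0, 0, 0, 0, 1, 7, 0, 0, 0, 0, 0, 1, 0, 7, 0, 0, 0, 0, 7, 1, 0, 7, 0, 0, 7, 0, 7, 7, 0, 7, 7, 0, 0, 7, 0, 1, 0, 7, 1, 7, 0, 0, 0, 0, 0, 0, 0, 6],
    [0, 0, 0, 0, 0, 0, 0, 0, 7, 7, 7, 0, 0, 0, 0, 0, 0, 0, 0, 0, 0, 0, 0, 0, 6, 0, 0, 0, 0, 0, 0, 0, 0, 0, 0, 0, 0, 0, 0, 0, 0, 0, 0, 0, 0, 7, 0, 0, 0, 0, 0, 0, 0, 7, 0, 0, 7, 0, 0, 1, 0, 0, 7, 0, 0, 7, 7, 0, 0, 1, 0, 0, 0, 0, 0, 6, 6, 6],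
    [0, 0, 0, 0, 0, 0, 0, 0, 7, 7, 7, 7, 0, 0, 0, 0, 0, 0, 0, 0, 0, 0, 0, 0, 6, 0, 0, 0, 0, 0, 0, 0, 0, 0, 0, 0, 0, 0, 0, 0, 0, 0, 7, 0, 0, 0, 0, 0, 0, 0, 7, 0, 0, 0, 0, 0, 7, 0, 0, 7, 0, 0, 0, 0, 0, 7, 7, 0, 0, 0, 0, 0, 7, 0, 0, 6, 7, 6],
    [0, 0, 0, 0, 0, 0, 0, 0, 0, 0, 1, 1, 0, 0, 0, 0, 0, 0, 0, 0, 0, 0, 0, 0, 0, 0, 0, 0, 0, 0, 0, 0, 1, 0, 0, 7, 0, 0, 0, 7, 1, 0, 0, 0, 0, 0, 7, 7, 1, 0, 0, 0, 0, 0, 7, 7, 0, 1, 0, 7, 0, 0, 0, 0, 5, 7, 7, 0, 0, 7, 0, 0, 7, 1, 6, 6, 6, 1],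
    [0, 0, 0, 0, 0, 0, 0, 0, 0, 0, 0, 0, 0, 0, 0, 0, 0, 0, 0, 0, 0, 0, 0, 0, 0, 0, 0, 0, 0, 0, 0, 0, 0, 0, 0, 7, 0, 0, 0, 0, 0, 1, 7, 0, 0, 0, 0, 7, 0, 1, 7, 0, 0, 0, 0, 7, 0, 0, 1, 0, 0, 0, 0, 0, 7, 7, 7, 0, 0, 7, 0, 0, 1, 0, 1, 1, 1, 1],
    [0, 0, 0, 0, 0, 0, 0, 0, 7, 0, 0, 0, 0, 0, 0, 0, 0, 0, 0, 0, 0, 0, 0, 0, 0, 6, 0, 0, 0, 0, 0, 0, 0, 0, 0, 0, 0, 0, 0, 0, 0, 0, 0, 0, 0, 7, 0, 0, 0, 0, 0, 0, 0, 0, 0, 0, 0, 0, 0, 0, 1, 0, 0, 0, 0, 6, 0, 0, 0, 0, 1, 0, 0, 0, 0, 6],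
    [0, 0, 0, 0, 0, 0, 0, 0, 7, 0, 7, 7, 0, 0, 0, 0, 0, 0, 0, 0, 0, 0, 0, 0, 0, 6, 0, 0, 0, 0, 0, 0, 7, 0, 0, 0, 0, 0, 7, 0, 0, 0, 0, 7, 0, 0, 0, 0, 0, 0, 0, 0, 0, 7, 0, 0, 6, 0, 0, 0, 0, 0, 7, 0, 1, 6, 1, 0, 0, 0, 0, 0, 0, 0, 1, 0, 1],
    [0, 0, 0, 0, 0, 0, 0, 0, 0, 7, 0, 7, 0, 0, 0, 0, 0, 0, 0, 0, 0, 0, 0, 0, 0, 0, 7, 0, 0, 0, 0, 0, 1, 0, 0, 0, 7, 7, 0, 7, 1, 0, 0, 0, 7, 1, 7, 0, 0, 0, 0, 0, 7, 0, 0, 7, 7, 0, 0, 0, 7, 7, 1, 0, 7, 1, 7, 0, 0, 0, 7, 7, 1, 7, 7, 0, 0, 1],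
    [0, 0, 0, 0, 0, 0, 0, 0, 0, 7, 7, 7, 0, 0, 0, 0, 0, 0, 0, 0, 0, 0, 0, 0, 0, 0, 7, 0, 0, 0, 0, 0, 0, 0, 0, 0, 7, 7, 0, 0, 0, 1, 0, 7, 0, 1, 0, 0, 0, 0, 0, 7, 0, 0, 0, 7, 7, 0, 0, 0, 0, 7, 0, 0, 7, 2, 7, 0, 0, 0, 7, 7, 0, 0, 7, 3, 7, 7],
    [0, 0, 0, 0, 0, 0, 0, 0, 0, 0, 0, 0, 0, 0, 0, 0, 0, 0, 0, 0, 0, 0, 0, 0, 0, 0, 0, 0, 0, 0, 0, 0, 1, 0, 0, 0, 0, 0, 1, 0, 0, 0, 1, 7, 0, 0, 0, 0, 0, 0, 0, 7, 0, 7, 7, 7, 1, 0, 0, 0, 7, 0, 1, 0, 7, 1, 7, 0, 0, 0, 0, 0, 1, 0, 7, 2, 7, 1],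
    [0, 0, 0, 0, 0, 0, 0, 0, 0, 7, 7, 7, 0, 0, 0, 0, 0, 0, 0, 0, 0, 0, 0, 0, 0, 0, 6, 0, 0, 0, 0, 0, 0, 0, 0, 0, 0, 0, 0, 0, 0, 0, 0, 0, 0, 0, 0, 0, 0, 0, 0, 0, 0, 7, 0, 0, 0, 0, 0, 0, 0, 1, 7, 0, 0, 0, 7, 0, 0, 0, 0, 1, 7, 0, 0, 0, 7, 7],
    [0, 0, 0, 0, 0, 0, 0, 0, 0, 7, 7, 7, 0, 0, 0, 0, 0, 0, 0, 0, 0, 0, 0, 0, 0, 0, 6, 0, 0, 0, 0, 0, 0, 0, 0, 0, 0, 0, 0, 0, 0, 0, 0, 0, 0, 0, 0, 0, 0, 0, 0, 0, 7, 7, 0, 0, 0, 0, 0, 0, 0, 7, 0, 0, 0, 0, 7, 0, 0, 0, 0, 7, 0, 0, 0, 0, 7, 7],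
    [0, 0, 0, 0, 0, 0, 0, 0, 0, 0, 1, 1, 0, 0, 0, 0, 0, 0, 0, 0, 0, 0, 0, 0, 0, 0, 0, 0, 0, 0, 0, 0, 1, 0, 0, 0, 0, 7, 7, 7, 0, 0, 0, 0, 0, 1, 0, 1, 1, 0, 0, 0, 0, 0, 7, 0, 7, 1, 0, 0, 0, 7, 0, 0, 6, 7, 7, 1, 0, 0, 0, 7, 0, 0, 6, 0, 7],
    [0, 0, 0, 0, 0, 0, 0, 0, 0, 0, 0, 0, 0, 0, 0, 0, 0, 0, 0, 0, 0, 0, 0, 0, 0, 0, 0, 0, 0, 0, 0, 0, 0, 0, 0, 0, 0, 7, 1, 0, 0, 0, 0, 0, 7, 1, 0, 0, 0, 1, 0, 0, 7, 1, 0, 0, 0, 0, 1, 0, 0, 0, 0, 0, 6, 6, 6, 0, 1, 0, 0, 7, 1, 0, 7, 7, 2],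
    [0, 0, 0, 0, 0, 0, 0, 0, 0, 0, 0, 0, 0, 0, 0, 0, 0, 0, 0, 0, 0, 0, 0, 0, 0, 0, 0, 0, 0, 0, 0, 0, 0, 0, 0, 0, 0, 0, 0, 0, 0, 0, 0, 0, 7, 1, 0, 0, 0, 0, 1, 0, 7, 1, 0, 0, 0, 0, 0, 1, 0, 7, 1, 0, 0, 0, 0, 0, 0, 1, 0, 0, 1, 0, 0, 0, 2, 1],
    [0, 0, 0, 0, 0, 0, 0, 0, 0, 0, 0, 0, 0, 0, 0, 0, 0, 0, 0, 0, 0, 0, 0, 0, 0, 0, 0, 0, 0, 0, 0, 0, 0, 0, 0, 0, 0, 0, 0, 0, 0, 0, 0, 0, 7, 1, 0, 0, 0, 0, 0, 1, 0, 1, 0, 0, 7, 0, 0, 0, 1, 0, 1, 0, 0, 7, 0, 0, 0, 0, 1, 0, 1, 0, 0, 0, 1],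
    [0, 0, 0, 0, 0, 0, 0, 7, 7, 0, 7, 6, 0, 0, 0, 0, 0, 0, 0, 0, 0, 0, 0, 0, 0, 0, 0, 6, 0, 0, 0, 0, 0, 0, 0, 0, 0, 0, 0, 7, 0, 0, 0, 0, 0, 0, 7, 7, 0, 0, 0, 0, 0, 0, 0, 0, 0, 0, 0, 0, 0, 0, 0, 7, 7, 7, 0, 0, 0, 0, 0, 0, 0, 7, 0, 5, 0, 5],
    [0, 0, 0, 0, 0, 0, 0, 7, 7, 1, 7, 6, 0, 0, 0, 0, 0, 0, 0, 0, 0, 0, 0, 0, 0, 0, 0, 6, 0, 1, 0, 1, 0, 7, 0, 0, 0, 0, 0, 7, 7, 0, 0, 0, 1, 0, 1, 0, 0, 0, 0, 0, 1, 0, 7, 6, 6, 7, 0, 0, 0, 1, 0, 0, 0, 6, 1, 7, 0, 0, 0, 0, 0, 0, 6, 0, 6, 5],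
    [1, 7, 0, 7, 0, 6, 7, 0, 5, 4, 5, 1, 0, 0, 7, 0, 7, 7, 0, 0, 7, 7, 0, 7, 0, 7, 6, 1, 7, 7, 0, 6, 6, 1, 0, 7, 0, 6, 5, 0, 1, 7, 1, 0, 0, 7, 7, 2, 1, 0, 7, 7, 7, 6, 5, 1, 6, 0, 0, 7, 7, 6, 7, 3, 3, 3, 0, 1, 7, 0, 7, 0, 6, 1, 6, 7, 0, 6, 6, 0, 1, 0, 1],
    [0, 0, 1, 0, 1, 3, 1, 2, 0, 4, 0, 1, 1, 0, 0, 0, 1, 3, 0, 0, 3, 0, 0, 0, 0, 7, 3, 0, 7, 0, 7, 3, 2, 0, 6, 1, 7, 4, 2, 0, 1, 0, 0, 0, 0, 4, 0, 2, 1, 6, 7, 7, 0, 3, 5, 1, 7, 0, 0, 1, 0, 2, 1, 5, 0, 5, 1, 1, 7, 7, 1, 2, 1, 6, 6, 6, 5, 3, 0, 0, 1, 0, 1, 1],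
    [0, 0, 0, 0, 0, 1, 1, 1, 1, 1, 1, 0, 0, 1, 7, 0, 0, 1, 0, 0, 0, 0, 0, 0, 1, 0, 0, 0, 0, 0, 0, 0, 0, 0, 0, 7, 0, 0, 1, 2, 1, 7, 7, 7, 0, 6, 7, 6, 0, 0, 7, 0, 0, 0, 2, 0, 2, 0, 0, 0, 0, 0, 0, 1, 7, 7, 0, 1, 7, 7, 0, 0, 1, 2, 1, 7, 4, 4, 0, 0, 0, 0, 0, 1],
    [0, 0, 1, 0, 2, 3, 2, 3, 2, 4, 0, 4, 1, 1, 7, 2, 1, 2, 0, 7, 1, 0, 1, 0, 0, 7, 3, 1, 0, 1, 7, 1, 7, 1, 0, 0, 0, 4, 3, 5, 2, 0, 1, 0, 1, 7, 3, 2, 1, 0, 1, 0, 1, 2, 4, 2, 7, 0, 7, 0, 1, 2, 7, 6, 6, 0, 0, 2, 0, 0, 1, 4, 3, 0, 2, 7, 3, 6, 0, 0, 0, 0, 1],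
    [0, 0, 1, 0, 1, 2, 0, 2, 2, 3, 5, 5, 1, 1, 7, 0, 1, 0, 0, 0, 1, 0, 1, 0, 1, 0, 1, 1, 7, 0, 0, 1, 1, 1, 0, 1, 0, 0, 1, 6, 0, 2, 1, 7, 1, 2, 1, 2, 1, 1, 7, 7, 1, 3, 1, 4, 3, 0, 7, 0, 0, 7, 2, 1, 4, 3, 0, 1, 1, 1, 7, 2, 3, 0, 3, 0, 2, 5, 0, 0, 0, 0, 1, 1],
    [2, 1, 2, 0, 3, 3, 5, 7, 1, 5, 7, 4, 1, 1, 2, 1, 1, 1, 1, 1, 2, 1, 1, 0, 2, 0, 3, 1, 1, 2, 1, 4, 5, 1, 2, 2, 1, 3, 4, 6, 2, 0, 1, 2, 1, 2, 6, 6, 2, 1, 3, 0, 3, 6, 3, 1, 4, 1, 1, 1, 7, 4, 4, 4, 0, 6, 7, 0, 1, 1, 3, 4, 4, 1, 5, 0, 4, 4, 0, 0, 0, 0, 0, 0, 0, 0, 0, 0, 0, 0, 6, 0, 1, 0, 1, 0, 1],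
    [1, 1, 2, 1, 3, 4, 4, 7, 1, 5, 7, 7, 2, 1, 2, 1, 1, 2, 1, 3, 2, 1, 1, 2, 1, 2, 4, 0, 0, 0, 1, 2, 5, 2, 1, 3, 2, 6, 6, 7, 2, 7, 0, 1, 2, 5, 6, 7, 2, 0, 2, 2, 5, 1, 2, 7, 1, 0, 2, 3, 1, 2, 0, 2, 4, 5, 5, 1, 0, 1, 3, 1, 6, 7, 2, 1, 4, 4, 0, 0, 0, 0, 0, 0, 0, 0, 0, 0, 0, 0, 0, 0, 1, 0, 1, 1],
    [1, 1, 2, 1, 4, 4, 5, 1, 5, 1, 7, 1, 1, 2, 2, 2, 2, 2, 1, 4, 2, 0, 1, 0, 3, 0, 3, 0, 4, 4, 0, 3, 4, 0, 2, 4, 0, 5, 3, 7, 2, 1, 0, 1, 4, 0, 0, 3, 1, 3, 3, 1, 3, 5, 6, 6, 5, 2, 3, 2, 1, 0, 3, 3, 1, 7, 0, 1, 1, 3, 1, 7, 3, 2, 0, 6, 4, 4, 0, 0, 0, 0, 0, 0, 0, 0, 0, 0, 0, 0, 0, 0, 0, 0, 0, 1, 1],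
    [0, 0, 0, 0, 0, 1, 1, 1, 1, 7, 2, 4, 0, 0, 0, 1, 0, 1, 0, 0, 0, 0, 0, 0, 0, 0, 0, 0, 0, 0, 0, 7, 0, 1, 0, 0, 0, 0, 0, 2, 1, 0, 0, 7, 7, 0, 1, 1, 1, 0, 1, 0, 0, 0, 1, 7, 7, 1, 0, 1, 7, 7, 2, 0, 2, 1, 1, 0, 0, 0, 0, 0, 0, 1, 1, 4, 5, 3, 0, 0, 0, 0, 0, 0, 0, 0, 0, 0, 0, 0, 0, 0, 0, 0, 1],
    [1, 1, 2, 1, 3, 3, 4, 0, 5, 4, 7, 3, 1, 1, 2, 1, 1, 1, 2, 3, 2, 1, 1, 2, 2, 1, 2, 3, 1, 2, 0, 0, 4, 2, 2, 2, 0, 1, 3, 3, 2, 0, 1, 0, 2, 5, 7, 2, 3, 2, 2, 0, 3, 0, 2, 0, 1, 2, 2, 2, 0, 1, 6, 5, 6, 7, 1, 2, 0, 2, 0, 5, 3, 5, 2, 0, 5, 3, 0, 0, 0, 0, 0, 0, 0, 0, 0, 0, 0, 0, 0, 0, 0, 0, 0, 1, 1],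
    [0, 0, 0, 0, 1, 1, 1, 3, 3, 2, 4, 0, 0, 0, 0, 1, 1, 1, 0, 1, 0, 7, 1, 0, 1, 0, 1, 1, 1, 1, 7, 0, 0, 1, 0, 1, 7, 1, 0, 2, 0, 1, 0, 7, 1, 7, 7, 1, 1, 1, 0, 0, 1, 0, 1, 0, 3, 1, 1, 0, 0, 7, 0, 4, 5, 5, 3, 0, 1, 0, 1, 1, 1, 3, 7, 5, 3, 1],
    [0, 1, 7, 0, 0, 7, 7, 0, 7, 0, 6, 7, 0, 0, 0, 0, 0, 0, 0, 0, 0, 0, 0, 0, 7, 0, 0, 0, 0, 7, 0, 0, 7, 0, 0, 0, 0, 0, 0, 0, 0, 1, 7, 0, 0, 7, 6, 0, 0, 1, 0, 0, 0, 0, 7, 0, 0, 0, 0, 0, 0, 0, 0, 6, 0, 7, 7, 0, 0, 0, 0, 0, 7, 6, 0, 6, 6, 5, 0, 0, 0, 0, 0, 0, 0, 0, 0, 0, 0, 0, 0, 6],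
    [0, 0, 0, 0, 0, 0, 0, 1, 0, 7, 0, 3, 0, 1, 2, 0, 0, 7, 0, 0, 7, 0, 1, 0, 0, 0, 7, 1, 0, 7, 0, 7, 1, 0, 1, 0, 1, 0, 1, 0, 1, 2, 0, 1, 1, 1, 1, 3, 0, 1, 7, 1, 0, 0, 6, 2, 0, 0, 0, 7, 0, 0, 7, 1, 1, 0, 7, 0, 1, 1, 7, 0, 7, 6, 1, 5, 6, 3],
    [1, 1, 2, 1, 3, 3, 3, 0, 0, 1, 6, 5, 1, 1, 2, 1, 2, 0, 1, 3, 2, 1, 1, 2, 2, 3, 2, 0, 3, 5, 2, 3, 3, 2, 3, 2, 1, 1, 1, 1, 1, 1, 2, 1, 3, 5, 7, 1, 2, 3, 4, 7, 2, 0, 1, 2, 3, 0, 3, 2, 2, 2, 7, 0, 3, 7, 2, 0, 0, 2, 1, 7, 3, 7, 0, 1, 1, 4, 0, 0, 0, 0, 0, 0, 0, 0, 0, 0, 0, 0, 0, 0, 0, 0, 1, 1, 1],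
    [7, 7, 7, 7, 5, 5, 4, 2, 0, 2, 3, 7, 7, 7, 6, 7, 7, 7, 7, 7, 6, 7, 0, 7, 7, 7, 6, 7, 6, 5, 0, 3, 4, 7, 7, 5, 0, 4, 4, 4, 0, 7, 1, 7, 7, 6, 2, 5, 7, 7, 5, 7, 5, 5, 4, 2, 6, 7, 6, 7, 0, 3, 6, 4, 0, 5, 2, 0, 7, 6, 5, 4, 4, 7, 4, 6, 1, 7, 0, 0, 0, 0, 0, 0, 0, 0, 0, 0, 0, 0, 0, 0, 6],
    [1, 1, 2, 1, 2, 2, 3, 6, 3, 7, 6, 5, 1, 0, 1, 0, 0, 2, 1, 2, 3, 2, 1, 1, 1, 2, 4, 1, 2, 3, 1, 5, 4, 1, 1, 4, 1, 5, 5, 3, 1, 2, 2, 7, 1, 5, 5, 6, 2, 1, 2, 3, 2, 6, 2, 5, 0, 2, 1, 3, 2, 5, 6, 1, 1, 3, 6, 1, 1, 0, 2, 5, 4, 2, 4, 4, 7, 7, 0, 0, 0, 0, 0, 0, 0, 0, 0, 0, 0, 0, 0, 0, 0, 0, 0, 1, 1],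
    [0, 0, 0, 0, 0, 1, 1, 2, 1, 1, 1, 7, 0, 1, 2, 0, 0, 0, 1, 1, 7, 0, 0, 0, 7, 0, 0, 1, 1, 7, 0, 1, 2, 0, 1, 6, 0, 0, 1, 2, 1, 0, 0, 0, 0, 0, 1, 0, 1, 1, 7, 0, 2, 0, 4, 0, 7, 1, 1, 7, 0, 0, 0, 3, 2, 0, 1, 1, 0, 7, 0, 1, 0, 2, 4, 1, 5, 3],
    [7, 7, 0, 0, 6, 6, 6, 4, 3, 7, 1, 6, 7, 0, 7, 0, 0, 0, 7, 6, 7, 0, 7, 7, 0, 0, 6, 7, 6, 7, 0, 5, 5, 7, 7, 0, 0, 5, 3, 5, 0, 7, 0, 0, 0, 6, 5, 4, 7, 6, 7, 0, 6, 3, 2, 4, 3, 7, 7, 0, 0, 7, 4, 1, 3, 5, 1, 7, 7, 0, 0, 3, 6, 2, 2, 4, 7, 2, 0, 0, 0, 0, 0, 0, 0, 0, 0, 0, 0, 0, 0, 0, 0, 0, 0, 0, 0, 0, 0, 0, 0, 0, 0, 6],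
    [0, 1, 0, 0, 0, 1, 1, 4, 4, 3, 2, 2, 0, 0, 0, 0, 0, 1, 1, 3, 0, 0, 1, 2, 0, 0, 0, 0, 1, 0, 0, 1, 1, 0, 0, 0, 7, 1, 5, 1, 0, 1, 0, 0, 7, 3, 0, 2, 1, 0, 0, 0, 1, 2, 7, 6, 2, 0, 1, 1, 7, 7, 3, 2, 3, 7, 0, 1, 1, 0, 0, 1, 1, 4, 4, 0, 2, 1, 0, 0, 0, 0, 0, 0, 0, 0, 0, 0, 0, 0, 0, 0, 0, 0, 0, 0, 0, 0, 0, 0, 0, 0, 0, 0, 0, 0, 1, 1],
    [7, 0, 7, 1, 7, 0, 7, 5, 5, 4, 5, 7, 7, 0, 7, 0, 0, 0, 0, 7, 7, 0, 0, 7, 0, 0, 0, 7, 7, 7, 0, 7, 7, 7, 7, 7, 0, 7, 0, 7, 0, 0, 0, 0, 0, 0, 5, 4, 0, 6, 7, 0, 7, 7, 4, 4, 4, 7, 6, 7, 1, 7, 7, 6, 5, 6, 5, 0, 0, 0, 0, 5, 7, 7, 0, 2, 4, 0, 0, 0, 0, 0, 0, 0, 0, 0, 0, 0, 0, 0, 0, 0, 0, 0, 0, 0, 0, 0, 0, 0, 0, 0, 0, 0, 6, 0, 1, 1],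
    [0, 0, 0, 0, 0, 7, 7, 6, 6, 6, 6, 1, 0, 7, 7, 0, 0, 0, 7, 7, 0, 0, 7, 7, 0, 0, 7, 0, 0, 1, 0, 0, 0, 7, 7, 1, 0, 0, 6, 6, 7, 0, 0, 0, 0, 7, 7, 1, 7, 7, 0, 0, 0, 6, 5, 0, 7, 7, 7, 1, 0, 0, 6, 4, 0, 7, 5, 0, 7, 0, 1, 7, 7, 5, 1, 6, 7, 3],
    [1, 1, 0, 0, 1, 1, 0, 2, 2, 4, 3, 0, 1, 0, 1, 0, 0, 0, 1, 2, 0, 0, 0, 0, 0, 0, 1, 0, 1, 0, 0, 1, 2, 0, 2, 1, 0, 2, 2, 2, 0, 1, 0, 0, 0, 0, 1, 2, 1, 2, 0, 0, 1, 2, 2, 2, 3, 0, 1, 1, 0, 1, 2, 3, 2, 1, 5, 0, 0, 7, 0, 3, 0, 1, 6, 7, 2, 7, 0, 0, 0, 0, 0, 0, 0, 0, 0, 0, 0, 0, 0, 0, 0, 0, 0, 0, 0, 0, 0, 0, 0, 0, 0, 0, 0, 0, 0, 0, 0, 0, 0, 0, 0, 0, 6],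
    [1, 1, 2, 0, 1, 2, 3, 4, 0, 1, 1, 5, 1, 2, 3, 0, 0, 0, 1, 2, 0, 0, 0, 0, 1, 0, 1, 1, 2, 4, 0, 3, 3, 3, 2, 3, 0, 2, 3, 4, 1, 2, 7, 0, 0, 1, 6, 2, 2, 3, 3, 0, 3, 3, 3, 2, 7, 2, 2, 1, 0, 0, 2, 1, 3, 6, 7, 2, 1, 2, 0, 4, 2, 4, 1, 6, 3, 7, 0, 0, 0, 0, 0, 0, 0, 0, 0, 0, 0, 0, 0, 0, 0, 0, 0, 0, 0, 0, 0, 0, 0, 0, 0, 0, 0, 0, 0, 0, 0, 0, 0, 0, 0, 0, 0, 0, 0, 0, 0, 1, 1],
    [1, 1, 2, 0, 1, 1, 2, 3, 4, 6, 4, 5, 1, 1, 2, 0, 0, 0, 0, 1, 1, 0, 0, 0, 1, 0, 0, 1, 2, 3, 0, 1, 2, 0, 2, 2, 0, 1, 2, 2, 1, 1, 7, 0, 1, 0, 5, 4, 0, 1, 3, 0, 1, 2, 5, 3, 5, 0, 2, 1, 0, 2, 1, 3, 2, 2, 4, 0, 0, 1, 0, 2, 1, 4, 7, 1, 6, 2, 0, 0, 0, 0, 0, 0, 0, 0, 0, 0, 0, 0, 0, 0, 0, 0, 0, 0, 0, 0, 0, 0, 0, 0, 0, 0, 0, 0, 0, 0, 0, 0, 0, 0, 0, 0, 0, 6, 0, 0, 0, 1, 1],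
    [1, 1, 2, 0, 1, 2, 3, 4, 7, 2, 0, 5, 1, 1, 2, 0, 0, 0, 2, 3, 3, 0, 0, 0, 0, 0, 2, 1, 2, 2, 0, 3, 3, 0, 2, 1, 0, 3, 3, 5, 2, 0, 1, 0, 1, 1, 6, 4, 2, 3, 2, 0, 3, 3, 3, 3, 6, 1, 1, 1, 0, 1, 3, 3, 5, 7, 3, 1, 2, 0, 0, 6, 1, 6, 1, 2, 7, 0, 0, 0, 0, 0, 0, 0, 0, 0, 0, 0, 0, 0, 0, 0, 0, 0, 0, 0, 0, 0, 0, 0, 0, 0, 0, 0, 0, 0, 0, 0, 0, 0, 0, 0, 0, 0, 0, 0, 0, 0, 0, 1, 1],
    [0, 0, 7, 0, 7, 7, 6, 0, 6, 7, 0, 6, 0, 7, 0, 0, 0, 0, 7, 0, 0, 0, 0, 0, 0, 0, 7, 7, 0, 0, 0, 0, 7, 1, 0, 6, 0, 6, 7, 5, 7, 0, 1, 0, 7, 7, 7, 2, 1, 0, 7, 0, 7, 6, 5, 0, 5, 1, 0, 6, 0, 6, 6, 6, 0, 4, 6, 1, 0, 1, 0, 6, 7, 6, 6, 5, 4, 5, 0, 0, 0, 0, 0, 0, 0, 0, 0, 0, 0, 0, 0, 0, 0, 0, 0, 0, 0, 0, 0, 0, 0, 0, 0, 0, 0, 0, 0, 0, 0, 0, 0, 0, 0, 0, 0, 0, 0, 0, 0, 0, 0, 0, 0, 0, 0, 0, 0, 0, 0, 0, 0, 0, 0, 0, 0, 0, 0, 0, 0, 0, 0, 0, 0, 0, 0, 0, 0, 0, 0, 0, 6, 0, 1,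 0, 1],
    [0, 0, 0, 0, 0, 0, 0, 1, 0, 0, 6, 0, 0, 0, 1, 0, 0, 0, 0, 1, 7, 0, 0, 0, 7, 0, 7, 0, 1, 0, 0, 1, 7, 0, 7, 0, 0, 7, 7, 7, 0, 1, 7, 0, 0, 6, 0, 2, 0, 7, 0, 0, 7, 7, 2, 1, 7, 0, 7, 6, 0, 7, 0, 0, 5, 5, 0, 0, 7, 7, 0, 7, 1, 7, 3, 1, 3, 5, 0, 0, 0, 0, 0, 0, 0, 0, 0, 0, 0, 0, 0, 0, 0, 0, 0, 0, 0, 0, 0, 0, 0, 0, 0, 0, 0, 0, 0, 0, 0, 0, 0, 0, 0, 0, 0, 0, 0, 0, 0, 0, 0, 0, 0, 0, 0, 0, 0, 0, 0, 0, 0, 0, 0, 0, 0, 0, 0, 0, 0, 0, 0, 0, 0, 0, 0, 0, 0, 0, 0, 0, 0, 0, 1, 0, 1, 1],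
    [0, 0, 0, 0, 0, 0, 0, 0, 7, 7, 6, 6, 0, 1, 0, 0, 0, 0, 7, 0, 7, 0, 0, 0, 7, 0, 7, 7, 0, 0, 0, 1, 0, 1, 0, 6, 0, 7, 0, 7, 7, 0, 7, 0, 0, 7, 7, 0, 7, 0, 7, 0, 0, 6, 0, 0, 6, 1, 0, 7, 0, 0, 7, 7, 6, 4, 6, 7, 0, 6, 0, 7, 7, 7, 7, 6, 7, 4, 0, 0, 0, 0, 0, 0, 0, 0, 0, 0, 0, 0, 0, 0, 0, 0, 0, 0, 0, 0, 0, 0, 0, 0, 0, 0, 0, 0, 0, 0, 0, 0, 0, 0, 0, 0, 0, 0, 0, 0, 0, 0, 0, 0, 0, 0, 0, 0, 0, 0, 0, 0, 0, 0, 0, 0, 0, 0, 0, 0, 0, 0, 0, 0, 0, 0, 0, 0, 0, 0, 0, 0, 0, 0, 0, 0, 0, 1],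
    [7, 7, 6, 0, 6, 6, 6, 3, 1, 7, 7, 6, 7, 7, 6, 7, 7, 7, 0, 6, 7, 0, 0, 0, 6, 0, 7, 0, 6, 5, 0, 7, 5, 7, 6, 6, 7, 6, 5, 5, 0, 7, 0, 7, 6, 0, 3, 5, 7, 6, 6, 1, 6, 5, 2, 3, 1, 7, 6, 7, 0, 6, 6, 2, 2, 0, 7, 0, 7, 6, 7, 5, 6, 3, 7, 4, 4, 7, 0, 0, 0, 0, 0, 0, 0, 0, 0, 0, 0, 0, 0, 0, 0, 0, 0, 0, 0, 0, 0, 0, 0, 0, 0, 0, 0, 0, 0, 0, 0, 0, 0, 0, 0, 0, 0, 0, 0, 0, 0, 0, 0, 0, 0, 0, 0, 0, 0, 0, 0, 0, 0, 0, 0, 0, 0, 0, 0, 0, 0, 0, 0, 0, 0, 0, 0, 0, 0, 0, 0, 0, 0, 0, 0, 6, 0, 1],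
    [0, 7, 0, 0, 0, 7, 1, 7, 7, 0, 7, 4, 0, 0, 0, 0, 0, 0, 0, 7, 0, 0, 0, 7, 0, 0, 7, 0, 0, 0, 0, 1, 0, 0, 0, 0, 0, 0, 7, 0, 0, 7, 0, 0, 0, 6, 1, 7, 0, 0, 0, 0, 1, 6, 2, 7, 0, 0, 0, 0, 0, 0, 7, 0, 0, 6, 0, 0, 7, 0, 0, 7, 0, 0, 7, 3, 5, 7, 0, 0, 0, 0, 0, 0, 0, 0, 0, 0, 0, 0, 0, 0, 0, 0, 0, 0, 0, 0, 0, 0, 0, 0, 0, 0, 0, 0, 0, 0, 0, 0, 0, 0, 0, 0, 0, 0, 0, 0, 0, 0, 0, 0, 0, 0, 0, 0, 0, 0, 0, 0, 0, 0, 0, 0, 0, 0, 0, 0, 0, 0, 0, 0, 0, 0, 0, 0, 0, 0, 0, 0, 0, 0, 0, 0, 0, 0, 0, 0, 0, 0, 0, 0, 0, 0, 0, 0, 0, 0, 0, 0, 0, 0, 0, 0, 0, 0, 0, 0, 0, 0, 0, 0, 0, 0, 0, 0, 0, 0, 0, 0, 0, 0, 0, 0, 0, 0, 0, 0, 0, 0, 0, 0, 0, 0, 0, 0, 0, 0, 0, 0, 0, 0, 0, 0, 0, 0, 0, 0, 0, 0, 0, 0, 0, 0, 0, 0, 0, 0, 0, 0, 0, 0, 0, 0, 0, 0, 0, 0, 0, 0, 0, 0, 0, 0, 0, 0, 0, 0, 0, 0, 0, 0, 0, 0, 0, 0, 0, 0, 0, 0, 6]]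
  tgt := [
    ([], []),
    ([(0, 6)], [(0, 5), (1, 6), (2, 1), (3, 5), (4, 5), (6, 1), (7, 1), (9, 1), (10, 2), (11, 2), (12, 7), (13, 7), (15, 5), (16, 4), (17, 6), (19, 7), (20, 4), (21, 3), (22, 2), (23, 3), (24, 3), (25, 5), (26, 3), (30, 1), (31, 3), (33, 3), (34, 3), (35, 3), (37, 5), (38, 1), (39, 2), (40, 5), (41, 3), (42, 7), (43, 1), (44, 7), (45, 5), (46, 3), (47, 1), (48, 1), (49, 3), (51, 2), (53, 3), (55, 7), (56, 3), (57, 4), (58, 4), (59, 3), (60, 7), (61, 1), (64, 5), (65, 1), (66, 6), (69, 2), (70, 7), (72, 6), (73, 5), (74, 4), (75, 4), (76, 4), (77, 1), (78, 2), (79, 6), (81, 2), (82, 4), (83, 4), (84, 2), (85, 2), (86, 3)]),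
    ([(0, 1)], []),
    ([(1, 1)], []),
    ([(0, 3), (1, 4)], [(0, 6), (1, 3), (2, 6), (3, 7), (4, 3), (5, 6), (7, 1), (9, 6), (10, 2), (11, 3), (12, 6), (13, 6), (14, 1), (15, 1), (16, 1), (17, 6), (18, 4), (20, 5), (22, 3), (24, 3), (25, 1), (26, 7), (27, 5), (29, 2), (30, 7), (31, 2), (32, 1), (33, 5), (34, 1), (35, 2), (36, 5), (38, 7), (39, 5), (40, 3), (43, 2), (44, 1), (47, 3), (48, 6), (49, 5), (51, 3), (52, 4), (53, 3), (55, 3), (56, 1), (57, 4), (58, 4), (60, 4), (61, 4), (65, 5), (66, 1), (67, 4), (69, 3), (70, 3), (72, 4), (77, 3), (78, 1), (79, 5), (81, 3), (82, 4), (83, 4), (84, 1), (85, 3), (86, 2)]),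
    ([(0, 6), (1, 4)], [(0, 2), (1, 7), (3, 4), (4, 7), (5, 4), (6, 7), (7, 3), (8, 5), (9, 6), (10, 1), (11, 3), (12, 7), (13, 2), (14, 3), (15, 2), (17, 7), (18, 5), (19, 5), (20, 6), (21, 6), (22, 5), (23, 4), (24, 6), (25, 5), (26, 6), (27, 4), (30, 7), (31, 1), (32, 1), (33, 1), (34, 4), (35, 3), (36, 4), (37, 1), (38, 6), (39, 6), (40, 2), (41, 2), (42, 4), (43, 5), (44, 4), (45, 1), (46, 1), (47, 6), (48, 7), (49, 6), (51, 7), (52, 3), (53, 1), (55, 7), (56, 2), (57, 4), (58, 4), (60, 4), (61, 4), (64, 3), (65, 3), (66, 7), (67, 4), (69, 6), (70, 5), (72, 1), (73, 7), (74, 4), (77, 2), (78, 1), (82, 4), (83, 4), (84, 3), (85, 1)]),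
    ([(0, 6), (1, 2)], [(0, 2), (1, 5), (2, 2), (4, 3), (5, 2), (7, 7), (8, 4), (9, 4), (10, 1), (11, 5), (12, 1), (13, 6), (14, 5), (15, 2), (16, 1), (17, 7), (18, 7), (19, 1), (20, 4), (21, 4), (22, 5), (23, 2), (24, 4), (25, 2), (26, 4), (27, 4), (28, 4), (29, 6), (30, 1), (31, 3), (32, 6), (34, 6), (35, 5), (36, 1), (39, 6), (40, 7), (41, 2), (42, 5), (43, 1), (44, 6), (45, 3), (46, 3), (47, 1), (48, 5), (49, 4), (51, 7), (52, 7), (53, 7), (55, 5), (56, 6), (59, 2), (60, 2), (61, 6), (62, 4), (65, 1), (66, 7), (68, 4), (69, 5), (70, 3), (71, 2), (72, 6), (73, 2), (78, 3), (79, 1), (80, 4), (81, 3), (82, 4), (83, 4), (84, 3), (85, 1)]),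
    ([(0, 1), (1, 6)], [(0, 1), (1, 6), (2, 6), (3, 5), (4, 4), (5, 1), (6, 1), (7, 2), (8, 5), (9, 7), (10, 3), (11, 7), (12, 7), (14, 1), (15, 1), (16, 7), (18, 5), (19, 4), (20, 5), (21, 7), (22, 5), (23, 3), (24, 6), (25, 6), (26, 1), (28, 1), (29, 2), (30, 4), (31, 2), (32, 7), (33, 3), (34, 2), (35, 6), (36, 3), (37, 2), (38, 5), (39, 4), (40, 5), (41, 3), (42, 6), (43, 3), (44, 5), (45, 3), (46, 6), (47, 3), (48, 4), (49, 1), (51, 2), (52, 7), (53, 4), (56, 6), (57, 4), (58, 4), (59, 4), (63, 4), (64, 2), (65, 2), (66, 2), (67, 2), (69, 4), (70, 2), (71, 2), (72, 6), (73, 3), (77, 3), (79, 6), (81, 2), (86, 2)]),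
    ([(0, 7), (1, 7)], [(0, 2), (1, 1), (2, 7), (3, 3), (4, 2), (5, 4), (6, 1), (7, 7), (8, 1), (9, 3), (10, 5), (11, 3), (12, 2), (13, 6), (15, 7), (16, 6), (17, 5), (18, 6), (19, 3), (20, 1), (21, 5), (22, 4), (23, 4), (24, 3), (25, 6), (26, 5), (27, 2), (28, 7), (29, 2), (30, 7), (31, 3), (32, 5), (33, 7), (35, 5), (36, 1), (37, 5), (38, 3), (40, 2), (42, 1), (43, 1), (44, 1), (46, 3), (47, 6), (48, 6), (49, 2), (51, 2), (52, 5), (53, 4), (55, 4), (56, 3), (63, 6), (64, 7), (65, 5), (66, 6), (67, 2), (68, 4), (69, 7), (70, 5), (71, 3), (73, 4), (75, 4), (76, 4), (79, 6), (81, 2), (82, 4), (83, 4), (84, 1), (85, 3), (86, 2)]),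
    ([(0, 4), (1, 7)], [(0, 6), (1, 2), (2, 4), (3, 7), (4, 3), (5, 5), (7, 3), (8, 5), (9, 2), (10, 3), (11, 5), (12, 5), (13, 7), (14, 7), (15, 7), (16, 3), (17, 1), (18, 4), (19, 4), (20, 2), (21, 2), (22, 7), (23, 5), (24, 6), (25, 6), (26, 6), (28, 1), (29, 7), (30, 1), (31, 4), (32, 4), (33, 3), (34, 6), (35, 4), (36, 1), (37, 2), (38, 1), (39, 5), (40, 7), (41, 6), (42, 7), (43, 3), (44, 1), (45, 6), (46, 7), (47, 2), (48, 3), (51, 2), (52, 6), (53, 5), (55, 1), (56, 6), (59, 3), (60, 3), (61, 5), (62, 4), (63, 2), (65, 5), (66, 3), (67, 1), (68, 4), (69, 7), (70, 5), (71, 3), (72, 6), (73, 6), (75, 4), (76, 4), (82, 4), (83, 4), (84, 3), (85, 1)]),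
    ([(0, 2), (1, 6)], [(1, 5), (2, 6), (3, 2), (4, 5), (5, 7), (6, 6), (7, 6), (8, 6), (9, 1), (10, 3), (11, 6), (12, 1), (14, 6), (16, 3), (17, 5), (18, 5), (19, 4), (20, 7), (22, 7), (23, 5), (26, 7), (27, 1), (28, 7), (29, 5), (30, 6), (31, 5), (32, 5), (33, 4), (34, 2), (35, 6), (36, 6), (37, 2), (38, 7), (39, 2), (41, 4), (42, 4), (43, 6), (44, 4), (45, 1), (46, 4), (48, 6), (49, 3), (51, 4), (52, 2), (53, 5), (55, 4), (56, 2), (57, 4), (58, 4), (60, 4), (61, 4), (63, 4), (64, 6), (65, 6), (67, 2), (68, 4), (69, 2), (70, 6), (71, 2), (73, 4), (74, 4), (77, 2), (79, 6), (81, 2), (82, 4), (83, 4), (84, 2), (85, 2)]),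
    ([(0, 6), (1, 6)], [(0, 6), (1, 1), (2, 4), (4, 5), (6, 2), (7, 3), (8, 2), (9, 6), (10, 4), (11, 6), (12, 4), (13, 4), (15, 4), (16, 6), (17, 6), (18, 4), (20, 6), (22, 4), (23, 6), (24, 6), (25, 6), (26, 4), (29, 4), (30, 4), (32, 4), (33, 2), (34, 6), (35, 4), (36, 6), (38, 6), (39, 6), (41, 4), (42, 2), (43, 4), (44, 2), (45, 2), (47, 4), (48, 2), (49, 2), (51, 6), (55, 4), (56, 6), (57, 4), (58, 4), (60, 4), (61, 4), (63, 4), (64, 6), (65, 4), (66, 2), (67, 2), (68, 4), (69, 4), (71, 2), (72, 4), (73, 4), (74, 4), (77, 2), (79, 4), (80, 4), (82, 4), (83, 4), (84, 2), (85, 2)]),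
    ([(1, 6)], [(1, 6), (2, 7), (3, 7), (4, 2), (5, 1), (6, 5), (7, 4), (8, 5), (9, 5), (10, 7), (11, 7), (12, 5), (13, 7), (14, 7), (15, 5), (16, 3), (17, 5), (18, 7), (19, 1), (20, 4), (21, 2), (22, 4), (23, 7), (24, 1), (26, 2), (27, 5), (29, 1), (30, 7), (31, 2), (32, 1), (33, 3), (34, 7), (35, 2), (36, 3), (39, 7), (40, 4), (41, 4), (42, 6), (43, 2), (44, 1), (45, 7), (47, 7), (48, 6), (49, 5), (51, 6), (52, 3), (53, 5), (55, 4), (56, 7), (57, 4), (58, 4), (59, 7), (60, 3), (61, 5), (62, 4), (64, 4), (65, 6), (66, 6), (67, 6), (68, 4), (69, 2), (70, 6), (71, 2), (73, 6), (77, 1), (78, 1), (79, 5), (81, 3), (82, 4), (83, 4), (84, 2), (85, 2), (86, 1)]),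
    ([], []),
    ([(0, 1), (1, 5)], [(0, 1), (1, 6), (2, 6), (4, 5), (5, 4), (6, 3), (7, 2), (8, 1), (9, 3), (10, 6), (11, 1), (12, 6), (14, 4), (15, 4), (16, 3), (17, 1), (18, 4), (19, 6), (20, 3), (21, 6), (22, 2), (23, 5), (24, 7), (25, 7), (26, 2), (27, 2), (28, 4), (29, 4), (30, 6), (32, 2), (33, 5), (34, 3), (35, 4), (36, 5), (38, 3), (39, 5), (41, 4), (42, 1), (43, 2), (44, 3), (45, 7), (46, 2), (47, 4), (48, 3), (49, 3), (51, 1), (52, 4), (53, 4), (56, 3), (57, 4), (58, 4), (59, 6), (60, 2), (61, 6), (63, 2), (64, 7), (65, 6), (66, 1), (67, 5), (69, 4), (71, 1), (72, 6), (73, 2), (77, 3), (79, 2), (80, 4), (81, 2), (82, 4), (83, 4), (84, 3), (85, 1), (86, 2)]),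
    ([], []),
    ([(0, 6), (1, 5)], [(0, 5), (1, 2), (2, 2), (3, 3), (4, 4), (5, 1), (7, 1), (8, 3), (9, 2), (10, 1), (11, 5), (12, 2), (13, 2), (15, 1), (16, 3), (17, 7), (18, 1), (19, 3), (20, 5), (21, 7), (22, 6), (23, 2), (24, 2), (26, 2), (27, 3), (28, 6), (31, 2), (32, 5), (33, 2), (34, 4), (36, 1), (38, 7), (39, 5), (40, 3), (41, 1), (42, 6), (43, 4), (44, 2), (45, 3), (46, 3), (47, 7), (48, 4), (49, 5), (52, 4), (53, 7), (55, 7), (56, 3), (57, 4), (58, 4), (59, 4), (62, 4), (63, 6), (64, 1), (65, 5), (67, 6), (68, 4), (69, 5), (70, 1), (71, 1), (73, 3), (74, 4), (77, 1), (78, 3), (79, 3), (80, 4), (81, 1), (82, 4), (83, 4), (84, 2), (85, 2)]),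
    ([], []),
    ([(0, 4), (1, 3)], [(1, 5), (2, 7), (4, 3), (5, 4), (6, 7), (7, 2), (8, 1), (9, 5), (11, 2), (12, 1), (13, 1), (14, 4), (15, 4), (16, 3), (17, 3), (18, 1), (19, 3), (21, 2), (22, 6), (23, 2), (25, 4), (27, 7), (28, 1), (29, 5), (30, 2), (31, 2), (32, 6), (33, 1), (34, 1), (35, 2), (37, 5), (40, 6), (41, 7), (42, 7), (43, 2), (45, 2), (48, 1), (49, 2), (51, 3), (52, 7), (53, 4), (56, 6), (57, 4), (58, 4), (59, 2), (60, 6), (61, 2), (62, 4), (63, 2), (64, 5), (65, 6), (66, 2), (67, 6), (68, 4), (70, 4), (71, 3), (72, 3), (73, 7), (74, 4), (75, 4), (76, 4), (77, 3), (79, 5), (81, 3), (82, 4), (83, 4), (84, 3), (85, 1)]),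
    ([(0, 3), (1, 1)], [(0, 2), (1, 6), (2, 6), (3, 6), (4, 2), (5, 1), (6, 2), (7, 5), (8, 7), (9, 5), (10, 4), (11, 5), (12, 7), (13, 7), (14, 1), (15, 3), (16, 5), (17, 2), (18, 2), (19, 2), (20, 2), (21, 3), (22, 2), (23, 4), (24, 1), (25, 1), (26, 7), (27, 6), (28, 1), (30, 4), (31, 5), (32, 4), (35, 4), (36, 3), (37, 5), (39, 7), (40, 4), (42, 1), (43, 4), (44, 3), (46, 7), (47, 3), (48, 1), (49, 6), (51, 4), (52, 1), (53, 7), (55, 7), (56, 1), (59, 4), (60, 4), (61, 4), (62, 4), (63, 6), (64, 2), (67, 4), (69, 4), (70, 6), (71, 1), (72, 2), (73, 4), (77, 1), (79, 5), (81, 3), (82, 4), (83, 4), (84, 3), (85, 1), (86, 2)]),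
    ([(0, 5), (1, 7)], [(0, 3), (1, 6), (2, 4), (3, 4), (4, 7), (5, 7), (6, 1), (7, 5), (10, 5), (12, 1), (13, 2), (14, 3), (15, 1), (16, 5), (17, 5), (18, 6), (19, 7), (20, 2), (21, 6), (22, 3), (23, 6), (24, 1), (25, 5), (26, 6), (27, 5), (28, 3), (29, 6), (31, 1), (32, 2), (35, 3), (36, 5), (37, 4), (38, 4), (39, 1), (40, 7), (44, 7), (45, 1), (48, 3), (49, 6), (51, 7), (52, 3), (53, 6), (55, 7), (56, 3), (59, 1), (60, 1), (61, 7), (62, 4), (63, 2), (64, 3), (65, 4), (66, 1), (67, 3), (68, 4), (69, 6), (70, 6), (71, 3), (72, 4), (73, 2), (74, 4), (75, 4), (76, 4), (77, 1), (82, 4), (83, 4), (84, 1), (85, 3), (86, 2)]),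
    ([(0, 1), (1, 4)], [(1, 3), (2, 1), (3, 4), (4, 3), (5, 2), (6, 5), (7, 6), (8, 4), (9, 6), (10, 4), (11, 4), (12, 7), (13, 7), (14, 2), (16, 3), (17, 2), (18, 7), (19, 4), (20, 3), (21, 4), (22, 4), (23, 5), (24, 5), (25, 2), (26, 4), (27, 4), (28, 4), (29, 3), (30, 4), (31, 1), (32, 4), (33, 4), (34, 1), (35, 4), (36, 4), (37, 1), (39, 3), (42, 5), (43, 4), (44, 7), (45, 1), (47, 7), (48, 6), (49, 4), (51, 6), (52, 5), (53, 7), (55, 1), (56, 4), (59, 3), (60, 3), (61, 5), (64, 2), (65, 6), (66, 5), (67, 1), (70, 2), (72, 7), (73, 4), (75, 4), (76, 4), (77, 2), (79, 1), (80, 4), (81, 3), (82, 4), (83, 4), (84, 2), (85, 2), (86, 2)]),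
    ([], []),
    ([(0, 7), (1, 1)], [(1, 4), (2, 6), (3, 2), (4, 4), (5, 4), (6, 7), (7, 6), (8, 6), (9, 1), (10, 6), (11, 2), (12, 3), (13, 4), (14, 7), (15, 7), (16, 4), (17, 2), (18, 3), (19, 6), (20, 2), (21, 5), (22, 1), (23, 4), (24, 6), (25, 5), (27, 2), (28, 2), (29, 5), (30, 1), (31, 2), (32, 6), (33, 5), (34, 4), (35, 7), (36, 7), (37, 1), (38, 1), (39, 5), (40, 6), (41, 2), (42, 1), (43, 3), (44, 6), (45, 5), (46, 6), (48, 4), (49, 7), (51, 4), (52, 2), (53, 7), (55, 3), (56, 6), (59, 1), (60, 1), (61, 7), (62, 4), (63, 6), (64, 4), (65, 5), (66, 7), (67, 5), (69, 5), (70, 1), (71, 1), (72, 6), (73, 7), (77, 2), (79, 5), (81, 3), (82, 4), (83, 4), (84, 3), (85, 1), (86, 2)]),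
    ([(0, 7), (1, 1)], [(0, 1), (1, 6), (2, 5), (3, 3), (4, 6), (5, 4), (6, 3), (7, 4), (8, 6), (9, 5), (10, 6), (11, 3), (12, 4), (17, 1), (18, 7), (19, 5), (20, 5), (21, 2), (22, 4), (23, 1), (24, 7), (25, 1), (26, 5), (27, 1), (28, 3), (29, 4), (30, 2), (31, 1), (32, 6), (33, 1), (34, 5), (35, 2), (36, 5), (37, 7), (39, 4), (40, 2), (41, 3), (42, 6), (43, 1), (44, 3), (45, 4), (46, 6), (47, 6), (48, 6), (49, 1), (51, 4), (53, 7), (55, 2), (56, 4), (57, 4), (58, 4), (60, 4), (61, 4), (62, 4), (63, 6), (64, 4), (65, 6), (66, 6), (67, 2), (69, 7), (71, 1), (73, 5), (75, 4), (76, 4), (82, 4), (83, 4), (84, 3), (85, 1), (86, 2)]),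
    ([(0, 6), (1, 4)], [(0, 3), (1, 7), (2, 3), (3, 7), (4, 3), (5, 3), (6, 1), (7, 6), (8, 3), (9, 7), (10, 2), (11, 3), (12, 4), (13, 3), (14, 7), (15, 6), (16, 4), (18, 4), (19, 1), (20, 6), (21, 3), (22, 6), (23, 3), (24, 3), (25, 2), (27, 2), (28, 1), (30, 5), (31, 1), (32, 1), (35, 1), (36, 1), (37, 7), (38, 2), (39, 6), (40, 5), (41, 7), (43, 2), (44, 6), (45, 2), (46, 3), (47, 7), (49, 7), (51, 2), (52, 7), (53, 6), (55, 4), (56, 5), (59, 6), (60, 6), (61, 2), (62, 4), (63, 4), (64, 6), (65, 6), (66, 2), (67, 4), (69, 6), (70, 2), (72, 2), (73, 2), (75, 4), (76, 4), (79, 2), (80, 4), (81, 2)]),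
    ([(0, 5), (1, 7)], [(0, 4), (1, 1), (2, 5), (3, 3), (4, 6), (5, 5), (6, 4), (7, 3), (8, 2), (9, 5), (10, 7), (11, 1), (12, 3), (13, 5), (14, 7), (15, 1), (16, 2), (17, 2), (18, 5), (19, 6), (21, 1), (22, 3), (23, 4), (24, 4), (25, 5), (26, 3), (27, 6), (28, 7), (29, 5), (30, 7), (31, 3), (32, 4), (33, 7), (34, 6), (35, 1), (36, 5), (37, 6), (38, 7), (39, 6), (40, 1), (41, 4), (42, 6), (43, 5), (44, 4), (46, 3), (47, 2), (48, 7), (49, 7), (51, 4), (52, 4), (53, 6), (55, 2), (59, 6), (60, 6), (61, 2), (62, 4), (63, 2), (64, 1), (65, 5), (66, 1), (67, 3), (68, 4), (69, 3), (70, 5), (71, 3), (72, 7), (73, 1), (74, 4), (75, 4), (76, 4), (79, 3), (80, 4), (81, 1), (82, 4), (83, 4), (84, 1), (85, 3), (86, 2)]),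
    ([(0, 3), (1, 5)], [(0, 4), (1, 2), (2, 7), (3, 1), (4, 5), (5, 2), (6, 1), (7, 1), (8, 3), (10, 1), (11, 4), (12, 5), (13, 6), (14, 3), (15, 3), (17, 2), (18, 1), (19, 1), (20, 1), (21, 4), (22, 3), (24, 7), (25, 2), (26, 2), (27, 1), (28, 2), (29, 6), (30, 5), (32, 2), (33, 5), (34, 4), (35, 3), (36, 1), (37, 6), (38, 1), (39, 2), (40, 5), (41, 6), (42, 6), (43, 5), (44, 3), (45, 7), (46, 7), (47, 1), (48, 7), (49, 7), (51, 1), (52, 6), (53, 4), (55, 2), (56, 4), (57, 4), (58, 4), (59, 3), (60, 7), (61, 1), (62, 4), (63, 6), (64, 2), (65, 4), (66, 7), (67, 7), (69, 5), (70, 2), (71, 1), (72, 7), (73, 3), (74, 4), (77, 3), (79, 7), (81, 1), (82, 4), (83, 4), (84, 3), (85, 1), (86, 2)]),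
    ([(0, 4), (1, 1)], [(0, 2), (1, 6), (2, 6), (3, 7), (4, 3), (5, 7), (7, 6), (8, 1), (9, 2), (10, 6), (11, 7), (12, 3), (13, 7), (15, 6), (16, 1), (17, 2), (18, 5), (19, 6), (20, 6), (21, 6), (22, 4), (23, 4), (24, 7), (25, 1), (26, 2), (27, 2), (28, 4), (29, 2), (31, 1), (32, 7), (33, 5), (34, 2), (35, 6), (36, 7), (37, 2), (38, 3), (39, 1), (40, 7), (41, 3), (42, 3), (43, 3), (44, 7), (45, 6), (46, 6), (48, 7), (49, 5), (51, 2), (52, 4), (53, 2), (55, 4), (59, 6), (60, 6), (61, 2), (62, 4), (63, 6), (64, 7), (65, 1), (67, 6), (68, 4), (70, 5), (71, 1), (72, 6), (73, 5), (74, 4), (79, 3), (80, 4), (81, 1), (82, 4), (83, 4), (84, 1), (85, 3)]),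
    ([(0, 5), (1, 4)], [(0, 3), (1, 6), (2, 5), (3, 4), (4, 4), (5, 5), (6, 1), (7, 1), (8, 7), (9, 2), (10, 7), (11, 4), (12, 5), (13, 6), (14, 1), (15, 4), (17, 3), (18, 3), (19, 2), (20, 5), (21, 7), (22, 2), (23, 7), (24, 7), (25, 6), (26, 2), (27, 6), (28, 6), (29, 2), (30, 1), (31, 7), (32, 3), (33, 1), (34, 5), (35, 4), (37, 1), (38, 1), (39, 2), (40, 2), (41, 6), (42, 7), (43, 7), (44, 6), (45, 3), (46, 1), (47, 5), (48, 1), (49, 5), (51, 3), (52, 1), (53, 1), (55, 5), (56, 7), (57, 4), (58, 4), (60, 4), (61, 4), (64, 4), (65, 7), (66, 1), (67, 5), (69, 5), (70, 1), (72, 2), (73, 2), (77, 3), (79, 6), (81, 2), (82, 4), (83, 4), (84, 2), (85, 2), (86, 2)]),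
    ([], []),
    ([(0, 1), (1, 6)], [(2, 6), (3, 5), (4, 6), (5, 5), (6, 6), (7, 4), (8, 2), (9, 3), (10, 1), (11, 1), (12, 4), (14, 5), (15, 5), (16, 3), (17, 7), (18, 1), (20, 4), (21, 6), (22, 5), (23, 5), (24, 6), (25, 3), (26, 4), (27, 4), (28, 4), (29, 3), (30, 4), (31, 3), (33, 1), (34, 6), (35, 7), (36, 7), (37, 1), (38, 4), (39, 4), (40, 7), (41, 5), (43, 4), (44, 3), (45, 7), (46, 7), (48, 1), (49, 4), (51, 4), (52, 5), (53, 4), (55, 5), (57, 4), (58, 4), (59, 4), (63, 4), (64, 1), (65, 5), (66, 2), (67, 4), (69, 3), (70, 7), (71, 2), (72, 2), (73, 6), (77, 1), (86, 2)]),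
    ([(1, 2)], [(0, 7), (1, 2), (2, 3), (3, 7), (4, 1), (5, 2), (6, 7), (7, 4), (8, 4), (9, 2), (10, 2), (11, 4), (12, 3), (13, 2), (14, 7), (15, 4), (16, 1), (17, 5), (19, 2), (20, 5), (21, 7), (22, 6), (23, 1), (24, 2), (25, 6), (26, 7), (27, 6), (29, 6), (30, 1), (31, 5), (32, 1), (33, 5), (34, 4), (35, 7), (36, 3), (37, 1), (38, 6), (39, 2), (40, 5), (41, 7), (43, 7), (44, 4), (45, 6), (46, 6), (47, 2), (48, 1), (49, 5), (51, 5), (52, 2), (53, 5), (55, 5), (56, 3), (59, 5), (60, 5), (61, 3), (62, 4), (64, 6), (65, 4), (66, 3), (67, 3), (68, 4), (69, 1), (71, 2), (72, 7), (74, 4), (77, 1), (79, 5), (81, 3), (82, 4), (83, 4), (84, 2), (85, 2)]),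
    ([(0, 5), (1, 5)], [(0, 1), (1, 6), (2, 3), (3, 7), (4, 7), (5, 7), (6, 7), (7, 6), (9, 7), (10, 1), (11, 3), (12, 3), (13, 5), (14, 2), (16, 6), (17, 4), (18, 4), (19, 7), (20, 2), (21, 6), (22, 1), (24, 3), (25, 5), (28, 6), (29, 5), (30, 4), (31, 4), (32, 1), (33, 4), (34, 1), (35, 2), (36, 6), (37, 4), (38, 7), (39, 2), (40, 7), (41, 5), (42, 3), (43, 6), (44, 3), (45, 3), (46, 6), (47, 3), (48, 7), (49, 7), (51, 3), (52, 6), (53, 7), (55, 7), (56, 1), (59, 3), (60, 3), (61, 5), (63, 2), (64, 6), (65, 4), (66, 4), (67, 4), (69, 4), (70, 2), (71, 1), (72, 2), (75, 4), (76, 4), (77, 1), (82, 4), (83, 4), (84, 3), (85, 1), (86, 2)]),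
    ([(0, 5), (1, 6)], [(0, 7), (1, 4), (3, 7), (4, 6), (5, 7), (6, 4), (7, 5), (8, 5), (9, 4), (10, 7), (12, 1), (14, 4), (15, 3), (16, 7), (18, 5), (19, 5), (20, 6), (21, 3), (23, 3), (24, 5), (26, 3), (27, 2), (28, 4), (29, 3), (30, 2), (31, 7), (32, 3), (33, 5), (34, 4), (35, 7), (36, 5), (37, 3), (38, 2), (39, 3), (40, 6), (41, 5), (42, 1), (43, 3), (44, 7), (45, 7), (47, 6), (48, 5), (49, 2), (51, 5), (52, 1), (53, 3), (55, 3), (56, 5), (59, 1), (60, 1), (61, 7), (63, 4), (64, 6), (66, 6), (67, 6), (69, 1), (70, 4), (71, 2), (72, 4), (73, 2), (75, 4), (76, 4), (77, 2), (79, 2), (80, 4), (81, 2), (86, 2)]),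
    ([(0, 7)], [(0, 6), (1, 5), (2, 5), (3, 2), (4, 6), (5, 2), (6, 6), (7, 3), (8, 1), (9, 5), (11, 3), (12, 5), (13, 7), (14, 4), (16, 5), (18, 6), (19, 6), (20, 1), (21, 1), (22, 1), (23, 4), (24, 3), (25, 7), (26, 2), (27, 1), (28, 2), (29, 1), (30, 7), (31, 7), (32, 3), (33, 5), (34, 5), (35, 7), (36, 2), (37, 7), (38, 7), (39, 3), (41, 2), (42, 3), (43, 3), (44, 1), (45, 2), (46, 2), (47, 6), (49, 2), (51, 6), (52, 1), (53, 7), (56, 6), (59, 2), (60, 2), (61, 6), (62, 4), (63, 4), (64, 3), (65, 2), (66, 5), (67, 3), (69, 3), (70, 6), (72, 6), (73, 7), (77, 1), (79, 2), (80, 4), (81, 2), (82, 4), (83, 4), (84, 2), (85, 2), (86, 2)]),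
    ([], []),
    ([(0, 4), (1, 5)], [(0, 3), (1, 5), (2, 6), (3, 3), (4, 5), (5, 3), (7, 6), (8, 2), (9, 6), (11, 2), (12, 5), (13, 5), (14, 6), (15, 6), (17, 3), (18, 2), (19, 3), (20, 5), (21, 3), (22, 6), (25, 4), (26, 1), (27, 7), (28, 4), (29, 6), (30, 1), (31, 2), (32, 1), (33, 1), (34, 1), (35, 6), (36, 2), (37, 1), (38, 5), (39, 5), (40, 1), (41, 7), (42, 5), (43, 7), (44, 7), (45, 7), (46, 7), (47, 2), (48, 1), (51, 3), (52, 5), (53, 7), (55, 2), (59, 6), (60, 6), (61, 2), (62, 4), (63, 6), (64, 7), (65, 6), (66, 1), (67, 7), (68, 4), (69, 7), (71, 1), (72, 2), (73, 6), (75, 4), (76, 4), (77, 1), (79, 4), (80, 4), (82, 4), (83, 4), (84, 1), (85, 3)]),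
    ([(1, 4)], [(0, 4), (1, 6), (2, 4), (4, 2), (5, 3), (7, 7), (8, 7), (9, 3), (10, 3), (11, 4), (12, 4), (13, 6), (14, 7), (15, 2), (16, 5), (17, 7), (18, 7), (19, 2), (20, 3), (21, 1), (22, 6), (23, 2), (24, 5), (25, 5), (26, 2), (27, 1), (28, 3), (29, 7), (30, 7), (31, 1), (32, 7), (33, 4), (35, 7), (36, 2), (37, 1), (38, 7), (39, 5), (40, 7), (41, 6), (42, 6), (43, 3), (44, 1), (45, 7), (46, 4), (48, 2), (49, 2), (51, 3), (52, 1), (53, 6), (55, 5), (56, 7), (57, 4), (58, 4), (59, 1), (60, 5), (61, 3), (64, 5), (66, 3), (67, 7), (69, 2), (73, 5), (74, 4), (77, 3)]),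
    ([(0, 1)], [(1, 4), (2, 1), (4, 5), (5, 4), (6, 3), (7, 6), (8, 5), (9, 6), (10, 3), (11, 5), (12, 1), (13, 4), (14, 3), (15, 1), (16, 7), (17, 4), (18, 2), (19, 3), (20, 7), (21, 6), (23, 3), (24, 6), (25, 6), (27, 5), (28, 3), (29, 1), (30, 2), (31, 7), (32, 7), (33, 6), (35, 2), (36, 7), (37, 2), (38, 6), (39, 5), (40, 7), (41, 6), (42, 1), (43, 2), (45, 1), (46, 5), (47, 5), (48, 6), (49, 7), (51, 4), (52, 5), (55, 6), (56, 4), (59, 2), (60, 2), (61, 6), (64, 4), (67, 4), (72, 4), (73, 5), (74, 4), (77, 1), (79, 6), (81, 2), (82, 4), (83, 4), (84, 2), (85, 2), (86, 2)]),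
    ([(0, 2)], [(2, 1), (3, 1), (4, 1), (5, 1), (8, 3), (9, 7), (10, 5), (11, 5), (12, 7), (13, 5), (14, 4), (15, 4), (16, 6), (17, 4), (18, 2), (19, 7), (20, 2), (21, 7), (22, 5), (23, 5), (24, 1), (25, 7), (26, 4), (27, 5), (28, 4), (29, 2), (30, 6), (31, 1), (32, 4), (33, 6), (34, 7), (35, 3), (36, 4), (37, 1), (38, 2), (40, 4), (41, 5), (42, 7), (43, 2), (44, 4), (45, 6), (46, 3), (47, 5), (48, 4), (49, 6), (51, 4), (53, 4), (55, 2), (56, 1), (59, 5), (60, 5), (61, 3), (62, 4), (63, 4), (64, 6), (65, 3), (66, 3), (67, 7), (69, 1), (70, 5), (72, 6), (73, 2), (74, 4), (77, 3), (79, 6), (81, 2)]),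
    ([(0, 3), (1, 7)], [(0, 6), (1, 4), (2, 4), (3, 2), (4, 2), (5, 6), (6, 4), (8, 7), (9, 6), (10, 1), (11, 2), (12, 6), (13, 5), (15, 3), (16, 3), (17, 7), (18, 5), (19, 1), (20, 7), (21, 6), (22, 5), (23, 4), (24, 5), (25, 7), (26, 2), (27, 3), (28, 5), (29, 1), (30, 5), (31, 3), (33, 2), (34, 3), (35, 5), (36, 3), (38, 3), (40, 6), (42, 6), (43, 1), (44, 4), (45, 2), (46, 5), (47, 4), (48, 2), (49, 6), (51, 6), (52, 2), (53, 5), (55, 3), (56, 7), (59, 3), (60, 3), (61, 5), (63, 6), (64, 3), (65, 6), (66, 5), (67, 3), (68, 4), (69, 2), (70, 4), (71, 3), (72, 6), (73, 4), (75, 4), (76, 4), (77, 3), (79, 2), (80, 4), (81, 2), (82, 4), (83, 4), (84, 1), (85, 3), (86, 2)]),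
    ([(0, 5), (1, 5)], [(0, 5), (1, 6), (2, 2), (4, 4), (5, 5), (6, 1), (7, 5), (8, 7), (9, 6), (10, 7), (11, 7), (12, 4), (13, 2), (15, 1), (16, 7), (17, 6), (18, 6), (19, 4), (20, 7), (21, 5), (22, 3), (23, 1), (24, 2), (25, 6), (27, 4), (28, 1), (29, 1), (30, 7), (31, 5), (32, 3), (34, 7), (36, 2), (37, 6), (38, 3), (39, 2), (40, 5), (41, 5), (43, 3), (44, 1), (45, 4), (46, 1), (48, 2), (49, 6), (51, 3), (52, 3), (53, 6), (55, 7), (56, 3), (59, 6), (60, 6), (61, 2), (63, 2), (64, 5), (65, 5), (69, 1), (70, 1), (71, 1), (73, 2), (75, 4), (76, 4), (77, 2), (79, 2), (80, 4), (81, 2), (82, 4), (83, 4), (84, 3), (85, 1), (86, 2)]),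
    ([(0, 3), (1, 1)], [(0, 5), (1, 5), (2, 2), (3, 2), (5, 4), (6, 1), (7, 5), (8, 4), (9, 6), (10, 1), (11, 7), (12, 6), (14, 6), (15, 7), (16, 7), (18, 2), (19, 2), (21, 4), (22, 1), (23, 4), (26, 5), (27, 2), (28, 2), (29, 3), (30, 3), (31, 5), (32, 2), (33, 6), (34, 6), (35, 4), (36, 2), (37, 5), (38, 3), (39, 3), (42, 5), (43, 5), (44, 5), (45, 1), (46, 3), (47, 7), (48, 1), (49, 4), (51, 3), (52, 3), (55, 3), (57, 4), (58, 4), (60, 4), (61, 4), (62, 4), (63, 6), (64, 6), (65, 7), (66, 4), (67, 6), (69, 2), (70, 7), (71, 1), (72, 1), (73, 3), (75, 4), (76, 4), (77, 2), (79, 7), (81, 1), (82, 4), (83, 4), (84, 3), (85, 1), (86, 2)]),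
    ([], []),
    ([], [(0, 1), (1, 5), (2, 3), (3, 5), (5, 4), (6, 4), (7, 2), (8, 3), (9, 7), (11, 4), (12, 6), (14, 4), (15, 7), (16, 5), (17, 7), (18, 5), (19, 2), (21, 4), (22, 7), (23, 6), (24, 3), (25, 7), (26, 5), (27, 1), (28, 4), (29, 4), (30, 4), (31, 1), (32, 6), (33, 6), (34, 3), (35, 3), (36, 1), (37, 1), (38, 7), (39, 2), (40, 6), (41, 1), (42, 5), (43, 4), (45, 7), (46, 6), (47, 7), (48, 2), (49, 5), (51, 3), (52, 5), (53, 3), (55, 3), (56, 2), (64, 4), (65, 6), (69, 2), (70, 2), (72, 2), (73, 2), (79, 6), (81, 2)]),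
    ([(0, 1), (1, 3)], [(0, 5), (1, 1), (2, 6), (3, 2), (4, 6), (5, 7), (6, 4), (8, 3), (9, 2), (10, 2), (11, 4), (12, 7), (13, 1), (14, 5), (15, 4), (16, 6), (17, 7), (18, 5), (19, 2), (20, 6), (21, 7), (22, 6), (23, 4), (24, 3), (25, 5), (26, 6), (28, 3), (29, 4), (31, 3), (32, 5), (35, 7), (36, 3), (37, 2), (38, 3), (39, 2), (40, 6), (41, 1), (42, 6), (43, 1), (44, 2), (45, 3), (46, 7), (47, 4), (48, 1), (52, 4), (53, 1), (55, 2), (56, 3), (59, 4), (60, 4), (61, 4), (62, 4), (63, 2), (64, 3), (65, 1), (66, 2), (67, 6), (68, 4), (69, 1), (70, 1), (71, 3), (73, 2), (77, 2), (82, 4), (83, 4), (84, 1), (85, 3), (86, 2)]),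
    ([(0, 4), (1, 6)], [(0, 3), (1, 7), (2, 3), (3, 7), (4, 3), (5, 1), (6, 2), (7, 4), (8, 5), (9, 6), (11, 1), (12, 2), (13, 5), (14, 1), (15, 6), (16, 6), (17, 7), (18, 5), (19, 6), (20, 7), (21, 7), (22, 4), (25, 6), (26, 3), (27, 7), (29, 1), (30, 7), (32, 7), (34, 4), (35, 6), (36, 3), (37, 4), (38, 3), (39, 1), (40, 1), (41, 3), (42, 2), (43, 4), (44, 6), (47, 7), (48, 2), (49, 6), (51, 2), (52, 7), (53, 2), (55, 1), (56, 1), (62, 4), (64, 6), (65, 6), (66, 2), (67, 4), (68, 4), (69, 6), (70, 6), (71, 2), (72, 2), (73, 2), (75, 4), (76, 4), (79, 4), (80, 4), (82, 4), (83, 4), (84, 2), (85, 2)]),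
    ([(0, 6), (1, 5)], [(0, 1), (1, 3), (2, 6), (3, 5), (4, 3), (5, 6), (6, 7), (7, 4), (8, 4), (9, 4), (10, 1), (11, 3), (12, 7), (14, 6), (15, 3), (16, 6), (17, 5), (18, 1), (19, 4), (20, 7), (21, 2), (23, 1), (24, 4), (25, 4), (26, 1), (27, 7), (28, 7), (29, 5), (30, 6), (31, 1), (32, 5), (33, 7), (35, 6), (37, 5), (38, 5), (39, 1), (40, 1), (42, 2), (43, 7), (44, 6), (46, 7), (47, 7), (48, 3), (51, 6), (52, 7), (53, 6), (55, 2), (57, 4), (58, 4), (59, 3), (60, 7), (61, 1), (63, 2), (64, 1), (65, 4), (67, 2), (68, 4), (69, 4), (70, 2), (71, 1), (72, 3), (73, 6), (74, 4), (79, 1), (80, 4), (81, 3), (82, 4), (83, 4), (84, 1), (85, 3)]),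
    ([(0, 4), (1, 5)], [(0, 2), (1, 3), (2, 1), (4, 6), (5, 1), (6, 3), (7, 3), (8, 3), (9, 4), (11, 6), (13, 7), (14, 3), (16, 7), (17, 1), (18, 7), (19, 5), (20, 5), (21, 4), (22, 2), (23, 7), (24, 3), (25, 5), (26, 1), (27, 1), (28, 1), (29, 3), (31, 6), (32, 7), (35, 2), (36, 4), (37, 3), (38, 1), (39, 4), (40, 2), (41, 2), (42, 6), (43, 5), (44, 5), (45, 2), (46, 5), (47, 6), (48, 1), (49, 3), (51, 7), (52, 7), (53, 3), (56, 3), (57, 4), (58, 4), (59, 1), (60, 5), (61, 3), (62, 4), (63, 6), (64, 2), (65, 6), (66, 2), (67, 2), (68, 4), (69, 3), (71, 1), (72, 6), (73, 5), (77, 2), (82, 4), (83, 4), (84, 1), (85, 3)]),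
    ([(0, 3), (1, 3)], [(0, 6), (1, 1), (2, 1), (3, 1), (4, 2), (5, 7), (6, 3), (7, 1), (8, 4), (9, 5), (10, 3), (11, 1), (12, 4), (13, 4), (14, 4), (15, 6), (16, 6), (17, 7), (18, 7), (19, 3), (20, 1), (21, 7), (23, 2), (24, 5), (25, 2), (26, 4), (27, 5), (28, 1), (29, 7), (30, 3), (31, 2), (33, 6), (34, 4), (35, 1), (36, 5), (37, 1), (38, 5), (39, 6), (40, 1), (42, 1), (43, 1), (44, 7), (45, 3), (46, 7), (47, 2), (48, 4), (51, 2), (52, 3), (53, 4), (55, 4), (56, 3), (57, 4), (58, 4), (59, 4), (63, 6), (64, 7), (65, 5), (66, 4), (67, 4), (68, 4), (69, 7), (70, 5), (71, 3), (72, 2), (73, 4), (74, 4), (75, 4), (76, 4), (82, 4), (83, 4), (84, 1), (85, 3), (86, 2)]),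
    ([(0, 3), (1, 5)], [(1, 3), (2, 3), (3, 5), (4, 6), (5, 1), (6, 7), (7, 7), (8, 4), (9, 5), (10, 5), (11, 1), (12, 4), (13, 2), (14, 6), (15, 4), (16, 2), (17, 5), (18, 1), (19, 5), (20, 3), (21, 7), (22, 6), (24, 5), (25, 7), (26, 4), (27, 7), (28, 3), (29, 2), (30, 3), (31, 2), (33, 2), (34, 6), (35, 7), (36, 3), (37, 3), (38, 5), (39, 6), (40, 7), (42, 3), (43, 1), (44, 3), (45, 3), (46, 3), (48, 2), (49, 4), (51, 4), (52, 3), (53, 6), (56, 1), (62, 4), (63, 6), (64, 1), (65, 1), (66, 4), (67, 4), (69, 3), (70, 5), (71, 1), (74, 4), (75, 4), (76, 4), (77, 2), (79, 2), (80, 4), (81, 2), (82, 4), (83, 4), (84, 3), (85, 1), (86, 2)]),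
    ([], [(19, 1)]),
    ([(0, 4)], [(0, 6), (1, 4), (2, 2), (3, 2), (4, 7), (5, 4), (6, 2), (7, 6), (8, 2), (9, 6), (14, 2), (15, 2), (16, 4), (17, 2), (19, 5), (20, 2), (22, 6), (23, 4), (24, 6), (25, 2), (26, 1), (29, 6), (30, 4), (31, 4), (32, 5), (33, 4), (34, 5), (35, 6), (36, 6), (37, 6), (38, 6), (40, 4), (41, 5), (42, 4), (43, 4), (44, 6), (47, 5), (48, 4), (49, 5), (52, 3), (53, 4), (55, 6), (57, 4), (58, 4), (59, 6), (60, 2), (61, 6), (64, 2), (65, 2), (69, 6), (70, 6), (75, 4), (76, 4), (77, 2), (79, 4), (80, 4)]),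
    ([(1, 3)], [(1, 5), (2, 6), (3, 5), (4, 4), (5, 7), (7, 1), (8, 5), (10, 4), (11, 7), (12, 2), (13, 3), (14, 7), (16, 5), (17, 2), (19, 6), (20, 4), (21, 6), (22, 4), (23, 2), (24, 1), (25, 3), (26, 5), (27, 7), (29, 5), (30, 2), (31, 3), (32, 6), (33, 3), (34, 4), (35, 5), (36, 3), (37, 3), (38, 2), (39, 2), (40, 2), (41, 7), (42, 6), (43, 1), (44, 7), (45, 1), (46, 4), (47, 6), (48, 3), (49, 7), (52, 2), (53, 6), (55, 4), (56, 2), (57, 4), (58, 4), (59, 1), (60, 5), (61, 3), (62, 4), (63, 2), (65, 1), (66, 5), (67, 1), (68, 4), (69, 3), (70, 1), (71, 3), (73, 2), (74, 4), (75, 4), (76, 4), (77, 2), (79, 6), (81, 2), (82, 4), (83, 4), (84, 3), (85, 1)]),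
    ([(0, 6)], [(1, 1), (3, 6), (4, 7), (5, 4), (6, 1), (7, 7), (8, 2), (9, 1), (10, 5), (11, 2), (12, 5), (14, 4), (15, 4), (16, 1), (17, 3), (18, 7), (19, 6), (20, 6), (21, 3), (22, 3), (23, 1), (25, 2), (26, 5), (27, 6), (28, 7), (29, 3), (30, 7), (31, 3), (32, 7), (33, 7), (34, 7), (35, 4), (36, 4), (37, 6), (38, 7), (39, 2), (40, 6), (41, 1), (42, 3), (43, 7), (44, 6), (45, 5), (46, 5), (47, 5), (48, 5), (49, 7), (51, 5), (52, 7), (53, 7), (55, 5), (56, 1), (57, 4), (58, 4), (59, 6), (60, 2), (61, 6), (62, 4), (63, 4), (65, 6), (66, 6), (69, 6), (70, 2), (72, 4), (73, 6), (74, 4), (75, 4), (76, 4), (79, 2), (80, 4), (81, 2)]),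
    ([(0, 2)], [(0, 2), (1, 5), (2, 2), (4, 2), (5, 6), (6, 2), (7, 2), (8, 5), (10, 5), (11, 6), (12, 5), (13, 6), (14, 4), (15, 4), (16, 2), (17, 1), (18, 1), (19, 3), (20, 7), (21, 4), (22, 7), (23, 7), (24, 1), (25, 6), (26, 1), (27, 4), (28, 3), (29, 5), (30, 6), (32, 4), (33, 2), (34, 7), (35, 4), (36, 4), (37, 1), (39, 4), (40, 2), (41, 6), (42, 3), (43, 7), (44, 6), (45, 6), (46, 7), (47, 1), (48, 4), (51, 6), (52, 5), (53, 7), (55, 3), (56, 3), (57, 4), (58, 4), (59, 2), (60, 6), (61, 2), (62, 4), (63, 4), (64, 6), (65, 4), (66, 6), (67, 4), (69, 2), (70, 4), (72, 4), (73, 4), (74, 4), (75, 4), (76, 4), (77, 2), (79, 6), (81, 2)]),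
    ([(1, 3)], [(1, 7), (2, 2), (3, 1), (5, 5), (6, 5), (7, 1), (8, 1), (10, 3), (11, 4), (12, 5), (13, 6), (14, 2), (15, 1), (16, 5), (17, 5), (18, 5), (19, 3), (20, 2), (21, 6), (23, 5), (26, 3), (28, 2), (29, 3), (30, 5), (31, 7), (32, 3), (33, 7), (34, 7), (36, 7), (37, 2), (38, 1), (39, 7), (40, 4), (41, 4), (42, 2), (43, 2), (44, 1), (45, 7), (46, 2), (47, 3), (48, 1), (49, 7), (51, 6), (52, 1), (53, 1), (55, 4), (57, 4), (58, 4), (59, 1), (60, 5), (61, 3), (62, 4), (63, 2), (64, 4), (65, 7), (66, 5), (67, 1), (68, 4), (69, 5), (70, 3), (71, 3), (72, 2), (73, 2), (74, 4), (75, 4), (76, 4), (77, 2), (79, 4), (80, 4), (82, 4), (83, 4), (84, 3), (85, 1)]),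
    ([(0, 4), (1, 6)], [(0, 2), (1, 6), (2, 2), (4, 1), (5, 1), (6, 5), (7, 3), (8, 5), (9, 6), (10, 1), (11, 6), (12, 5), (13, 4), (14, 2), (15, 3), (16, 1), (18, 1), (19, 6), (20, 7), (22, 7), (23, 2), (24, 1), (26, 4), (28, 1), (30, 4), (32, 2), (33, 7), (34, 3), (35, 4), (36, 7), (37, 6), (38, 7), (39, 2), (40, 3), (41, 7), (42, 2), (44, 7), (45, 7), (47, 6), (48, 2), (49, 5), (51, 4), (52, 4), (53, 6), (55, 4), (56, 2), (57, 4), (58, 4), (60, 4), (61, 4), (62, 4), (64, 4), (65, 6), (66, 4), (67, 2), (68, 4), (69, 2), (70, 6), (71, 2), (72, 2), (73, 2), (79, 2), (80, 4), (81, 2), (82, 4), (83, 4), (84, 2), (85, 2)]),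
    ([(0, 3), (1, 4)], [(0, 3), (1, 7), (2, 4), (3, 3), (6, 4), (7, 2), (8, 7), (9, 1), (10, 4), (11, 6), (12, 7), (13, 5), (14, 3), (16, 6), (17, 5), (18, 7), (19, 1), (20, 7), (22, 2), (23, 6), (25, 4), (26, 4), (27, 3), (28, 3), (29, 3), (30, 2), (31, 2), (32, 6), (33, 6), (35, 3), (36, 2), (37, 4), (38, 7), (39, 2), (40, 5), (41, 3), (42, 3), (43, 6), (44, 3), (45, 4), (46, 4), (49, 6), (51, 4), (52, 7), (55, 7), (56, 2), (57, 4), (58, 4), (59, 1), (60, 5), (61, 3), (62, 4), (63, 4), (64, 3), (65, 2), (66, 5), (67, 3), (69, 6), (70, 6), (72, 6), (73, 4), (74, 4), (77, 2), (82, 4), (83, 4), (84, 2), (85, 2), (86, 2)]),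
    ([(0, 7), (1, 2)], [(1, 6), (2, 7), (3, 6), (4, 4), (5, 4), (7, 4), (8, 6), (9, 5), (10, 2), (11, 6), (12, 7), (13, 3), (14, 1), (15, 4), (16, 4), (17, 3), (18, 3), (19, 3), (20, 4), (21, 3), (22, 1), (23, 2), (25, 3), (26, 7), (27, 3), (28, 5), (29, 2), (30, 3), (31, 4), (32, 2), (33, 1), (34, 5), (36, 5), (37, 2), (39, 5), (40, 6), (41, 6), (43, 4), (44, 7), (45, 5), (48, 3), (49, 4), (51, 3), (52, 7), (55, 2), (56, 3), (57, 4), (58, 4), (59, 7), (60, 3), (61, 5), (62, 4), (64, 5), (66, 7), (67, 1), (69, 6), (70, 4), (71, 2), (75, 4), (76, 4), (79, 4), (80, 4), (86, 2)]),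
    ([(0, 4), (1, 7)], [(1, 3), (2, 6), (3, 5), (4, 6), (5, 5), (6, 3), (7, 7), (8, 4), (9, 5), (10, 5), (11, 5), (12, 5), (13, 7), (14, 5), (15, 5), (16, 5), (17, 5), (18, 7), (19, 6), (21, 1), (23, 1), (24, 6), (25, 4), (26, 4), (27, 1), (28, 2), (29, 4), (30, 3), (31, 5), (32, 5), (33, 4), (34, 3), (35, 3), (37, 7), (39, 2), (40, 3), (41, 5), (42, 5), (43, 5), (44, 6), (45, 4), (46, 1), (47, 2), (49, 6), (51, 1), (52, 1), (53, 7), (55, 4), (56, 3), (57, 4), (58, 4), (59, 7), (60, 3), (61, 5), (62, 4), (63, 2), (64, 4), (65, 7), (66, 1), (67, 7), (68, 4), (69, 7), (70, 3), (71, 3), (72, 6), (77, 2), (79, 2), (80, 4), (81, 2), (82, 4), (83, 4), (84, 3), (85, 1)]),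
    ([(0, 2), (1, 4)], [(0, 7), (1, 4), (2, 7), (3, 7), (4, 6), (5, 3), (6, 2), (8, 6), (9, 7), (10, 1), (12, 5), (13, 2), (14, 6), (15, 1), (16, 6), (17, 3), (18, 5), (19, 1), (21, 1), (22, 7), (23, 4), (24, 5), (25, 7), (26, 3), (27, 1), (28, 2), (29, 1), (30, 7), (32, 4), (33, 1), (35, 7), (36, 4), (37, 6), (38, 2), (39, 3), (41, 2), (42, 3), (43, 5), (44, 7), (45, 3), (46, 2), (48, 4), (49, 7), (51, 3), (52, 1), (53, 1), (55, 6), (56, 5), (59, 2), (60, 2), (61, 6), (62, 4), (63, 4), (64, 2), (65, 2), (66, 6), (69, 2), (70, 6), (72, 6), (73, 4), (75, 4), (76, 4), (79, 6), (81, 2)]),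
    ([(0, 4)], [(0, 4), (2, 6), (3, 6), (5, 3), (6, 5), (7, 6), (8, 2), (9, 4), (10, 7), (11, 4), (12, 1), (13, 6), (14, 6), (16, 7), (17, 5), (18, 7), (19, 1), (20, 7), (21, 5), (23, 7), (24, 6), (25, 3), (26, 2), (27, 1), (28, 5), (29, 6), (30, 5), (31, 6), (32, 2), (33, 1), (34, 3), (35, 1), (37, 7), (38, 5), (39, 4), (40, 2), (41, 5), (42, 6), (43, 3), (44, 3), (45, 5), (46, 6), (47, 2), (48, 2), (49, 4), (51, 3), (52, 5), (53, 3), (55, 1), (56, 5), (59, 2), (60, 2), (61, 6), (64, 2), (65, 6), (66, 4), (67, 2), (69, 6), (70, 2), (73, 6), (79, 2), (80, 4), (81, 2)]),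
    ([(0, 6), (1, 2)], [(0, 6), (1, 5), (2, 2), (3, 6), (4, 4), (5, 7), (7, 2), (8, 5), (9, 3), (10, 1), (12, 3), (13, 4), (14, 4), (15, 6), (16, 1), (17, 7), (18, 4), (19, 1), (20, 5), (21, 4), (22, 6), (24, 6), (25, 7), (26, 2), (28, 4), (29, 3), (30, 4), (31, 3), (33, 5), (34, 7), (35, 6), (36, 7), (37, 3), (38, 7), (39, 7), (40, 2), (41, 5), (42, 6), (43, 5), (44, 4), (45, 1), (46, 4), (47, 3), (48, 5), (51, 4), (52, 4), (53, 3), (56, 2), (57, 4), (58, 4), (59, 6), (60, 2), (61, 6), (63, 4), (64, 6), (65, 6), (66, 6), (68, 4), (69, 2), (70, 6), (71, 2), (72, 2), (73, 4), (75, 4), (76, 4), (77, 2), (79, 6), (81, 2), (82, 4), (83, 4), (84, 2), (85, 2)]),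
    ([(0, 2), (1, 6)], [(0, 4), (1, 3), (2, 6), (3, 2), (4, 3), (5, 1), (6, 2), (7, 4), (9, 2), (10, 1), (11, 4), (12, 5), (13, 4), (15, 1), (16, 2), (17, 5), (18, 2), (19, 1), (20, 7), (21, 4), (22, 5), (23, 3), (24, 7), (25, 1), (26, 3), (27, 1), (28, 3), (29, 6), (30, 4), (31, 5), (32, 2), (33, 1), (34, 7), (35, 6), (36, 2), (37, 3), (39, 2), (40, 3), (41, 5), (42, 1), (43, 3), (44, 2), (45, 5), (46, 1), (48, 2), (51, 4), (52, 6), (53, 1), (55, 1), (56, 7), (63, 4), (65, 6), (66, 2), (67, 4), (68, 4), (69, 4), (70, 6), (71, 2), (72, 4), (73, 6), (74, 4), (75, 4), (76, 4), (77, 2), (79, 6), (81, 2), (82, 4), (83, 4), (84, 2), (85, 2)]),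
    ([(0, 2)], [(0, 5), (1, 4), (2, 5), (3, 5), (4, 1), (5, 2), (6, 7), (7, 2), (8, 7), (9, 7), (10, 6), (12, 6), (13, 4), (14, 6), (15, 3), (16, 3), (17, 2), (18, 5), (20, 7), (24, 7), (25, 7), (26, 1), (27, 7), (28, 6), (29, 7), (30, 3), (31, 2), (32, 7), (33, 4), (35, 2), (36, 7), (37, 4), (38, 7), (40, 4), (41, 6), (42, 7), (43, 3), (44, 2), (45, 4), (46, 2), (47, 3), (48, 1), (49, 6), (52, 6), (53, 4), (55, 7), (56, 6), (57, 4), (58, 4), (59, 4), (62, 4), (63, 4), (65, 6), (66, 2), (67, 6), (69, 4), (70, 2), (73, 4), (74, 4), (75, 4), (76, 4), (77, 2)]),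
    ([(0, 3), (1, 7)], [(0, 7), (1, 4), (2, 2), (3, 4), (4, 6), (5, 1), (6, 4), (7, 4), (8, 2), (9, 2), (10, 7), (11, 5), (13, 6), (14, 6), (15, 4), (16, 5), (17, 2), (18, 6), (20, 2), (21, 4), (22, 5), (23, 2), (24, 5), (25, 7), (27, 2), (28, 2), (29, 2), (30, 6), (32, 4), (33, 5), (34, 5), (35, 6), (36, 1), (37, 1), (38, 4), (39, 5), (40, 7), (41, 5), (42, 4), (44, 7), (45, 5), (46, 4), (47, 7), (48, 4), (49, 3), (51, 1), (53, 4), (55, 7), (56, 3), (63, 6), (64, 1), (65, 7), (66, 4), (68, 4), (69, 1), (70, 3), (71, 3), (72, 2), (73, 6), (75, 4), (76, 4), (79, 6), (81, 2), (82, 4), (83, 4), (84, 1), (85, 3), (86, 2)]),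
    ([], [(1, 1)]),
    ([], [(4, 1)]),
    ([(1, 1)], [(0, 5), (1, 4), (2, 5), (3, 4), (6, 7), (7, 1), (8, 4), (9, 3), (10, 1), (11, 3), (12, 7), (13, 5), (14, 5), (15, 4), (16, 7), (17, 3), (18, 4), (19, 2), (20, 3), (21, 4), (22, 2), (23, 6), (24, 2), (25, 4), (26, 3), (27, 6), (28, 2), (29, 4), (30, 6), (31, 4), (32, 3), (33, 6), (35, 6), (36, 3), (37, 2), (38, 4), (39, 1), (40, 6), (41, 5), (42, 4), (43, 7), (44, 7), (45, 4), (46, 5), (47, 7), (48, 5), (49, 5), (51, 6), (52, 3), (53, 1), (55, 7), (56, 6), (59, 1), (60, 1), (61, 7), (62, 4), (63, 6), (64, 6), (65, 7), (66, 7), (67, 1), (68, 4), (69, 7), (70, 7), (71, 1), (72, 6), (73, 2), (74, 4), (82, 4), (83, 4), (84, 1), (85, 3)]),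
    ([(0, 6), (1, 4)], [(0, 5), (1, 4), (2, 1), (3, 1), (4, 6), (5, 3), (7, 6), (9, 5), (10, 7), (11, 6), (12, 7), (13, 4), (14, 2), (15, 7), (17, 5), (18, 1), (19, 3), (20, 4), (21, 3), (22, 7), (23, 3), (24, 1), (25, 5), (26, 3), (27, 3), (28, 4), (29, 5), (30, 3), (31, 6), (32, 4), (33, 1), (34, 1), (35, 7), (37, 2), (38, 5), (39, 1), (41, 6), (42, 5), (43, 5), (44, 3), (45, 7), (46, 4), (47, 2), (48, 2), (49, 3), (51, 5), (52, 5), (53, 3), (55, 6), (56, 5), (62, 4), (63, 4), (64, 2), (67, 2), (72, 2), (73, 2), (75, 4), (76, 4), (77, 2), (79, 2), (80, 4), (81, 2)]),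
    ([(0, 6), (1, 4)], [(0, 1), (2, 1), (3, 1), (4, 2), (5, 5), (6, 6), (7, 4), (8, 2), (9, 5), (10, 3), (11, 4), (12, 7), (13, 2), (14, 6), (15, 7), (16, 2), (17, 5), (18, 7), (19, 3), (20, 4), (21, 7), (22, 1), (23, 4), (24, 7), (25, 5), (26, 1), (27, 3), (28, 2), (29, 3), (30, 1), (31, 4), (33, 7), (34, 1), (35, 1), (37, 2), (38, 2), (39, 5), (40, 4), (41, 2), (42, 5), (43, 7), (44, 5), (45, 5), (46, 6), (48, 4), (49, 1), (51, 5), (52, 3), (53, 3), (55, 6), (56, 3), (59, 6), (60, 6), (61, 2), (62, 4), (63, 4), (64, 6), (65, 6), (66, 2), (69, 6), (70, 2), (72, 2), (73, 4), (75, 4), (76, 4), (79, 2), (80, 4), (81, 2)]),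
    ([(1, 6)], [(0, 7), (2, 5), (3, 1), (4, 5), (5, 7), (6, 6), (7, 7), (8, 4), (9, 2), (10, 7), (11, 6), (12, 1), (13, 4), (14, 2), (15, 6), (16, 3), (17, 3), (18, 5), (19, 5), (21, 1), (22, 5), (23, 5), (24, 7), (25, 5), (26, 4), (27, 1), (28, 1), (29, 2), (30, 5), (31, 6), (32, 4), (33, 1), (34, 5), (35, 1), (36, 2), (37, 4), (38, 3), (39, 7), (40, 1), (41, 3), (42, 3), (44, 7), (45, 5), (46, 2), (47, 4), (49, 5), (51, 3), (52, 1), (55, 2), (56, 1), (57, 4), (58, 4), (59, 6), (60, 2), (61, 6), (62, 4), (64, 2), (65, 6), (67, 2), (68, 4), (69, 6), (70, 6), (71, 2), (73, 2), (77, 2), (79, 4), (80, 4), (82, 4), (83, 4), (84, 2), (85, 2)]),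
    ([(1, 2)], [(0, 2), (2, 2), (4, 6), (5, 4), (6, 4), (7, 1), (8, 6), (9, 2), (11, 6), (12, 6), (13, 6), (14, 6), (17, 6), (18, 2), (19, 4), (20, 2), (21, 2), (22, 3), (23, 5), (24, 2), (25, 1), (26, 3), (28, 5), (29, 4), (30, 2), (31, 4), (32, 4), (33, 6), (34, 2), (37, 1), (38, 3), (39, 4), (40, 3), (41, 7), (42, 2), (43, 5), (44, 4), (45, 6), (47, 4), (48, 6), (49, 2), (52, 5), (53, 1), (55, 2), (56, 4), (57, 4), (58, 4), (59, 6), (60, 2), (61, 6), (62, 4), (64, 4), (68, 4), (70, 4), (71, 2), (74, 4), (75, 4), (76, 4), (77, 2), (79, 4), (80, 4), (82, 4), (83, 4), (84, 2), (85, 2)]),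
    ([(0, 4), (1, 4)], [(1, 6), (2, 6), (3, 2), (4, 3), (5, 4), (6, 6), (7, 2), (8, 6), (9, 2), (11, 6), (14, 6), (16, 4), (19, 4), (20, 4), (21, 4), (22, 3), (23, 1), (24, 6), (25, 6), (26, 7), (27, 4), (30, 4), (31, 4), (32, 4), (34, 4), (35, 2), (36, 2), (37, 7), (38, 3), (39, 2), (40, 6), (41, 3), (42, 4), (44, 2), (46, 4), (47, 4), (48, 2), (51, 6), (52, 3), (53, 4), (55, 2), (56, 2), (59, 2), (60, 2), (61, 6), (64, 2), (66, 2), (67, 2), (69, 6), (72, 4), (73, 6), (74, 4), (75, 4), (76, 4), (77, 2), (79, 4), (80, 4)]),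
    ([(0, 4), (1, 6)], [(0, 6), (1, 1), (3, 2), (4, 5), (5, 2), (7, 1), (8, 6), (9, 4), (10, 4), (11, 2), (12, 6), (13, 4), (16, 6), (17, 6), (20, 6), (21, 2), (23, 7), (24, 6), (25, 7), (27, 4), (28, 4), (29, 2), (30, 4), (31, 6), (32, 4), (33, 4), (34, 6), (35, 4), (36, 2), (38, 3), (39, 2), (40, 5), (41, 6), (42, 6), (43, 6), (45, 4), (46, 6), (47, 6), (48, 2), (51, 6), (52, 6), (53, 5), (55, 4), (56, 4), (57, 4), (58, 4), (59, 6), (60, 2), (61, 6), (62, 4), (64, 2), (65, 6), (66, 4), (68, 4), (69, 4), (70, 6), (71, 2), (72, 4), (77, 2), (82, 4), (83, 4), (84, 2), (85, 2)]),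
    ([(0, 2), (1, 4)], [(1, 4), (3, 6), (4, 6), (5, 2), (6, 2), (7, 6), (9, 6), (10, 6), (11, 2), (12, 4), (13, 6), (15, 6), (16, 4), (18, 4), (20, 6), (21, 2), (22, 1), (23, 1), (25, 3), (26, 2), (27, 4), (28, 2), (30, 2), (31, 4), (33, 6), (34, 2), (35, 2), (36, 6), (37, 7), (38, 1), (40, 1), (41, 4), (42, 4), (43, 2), (44, 6), (45, 2), (48, 2), (49, 2), (51, 4), (52, 3), (53, 3), (55, 4), (56, 4), (57, 4), (58, 4), (59, 4), (62, 4), (63, 4), (67, 4), (69, 2), (72, 4), (73, 6), (77, 2)])]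

/-- Orbits inside the subgroup. -/
def orbits : List (ℕ × List (ℕ × List ℕ)) := [
    (0, [(0, []), (2, [4, 8, 11]), (4, [6]), (6, [7]), (8, [3, 6]), (10, [5, 11]), (12, [2, 4]), (14, [2, 11]), (24, [4, 7]), (26, [3, 6, 10]), (28, [3]), (30, [10]), (32, [2, 10, 11]), (34, [4, 9]), (36, [7, 10]), (38, [3, 7, 11]), (40, [3, 7]), (42, [10, 11]), (44, [5, 10]), (46, [8, 9, 10]), (49, [1, 10]), (50, [3, 11]), (53, [2, 10]), (54, [1, 6]), (56, [2]), (58, [8, 9]), (60, [7, 11]), (62, [11]), (64, [0, 8]), (65, [5]), (68, [6, 11]), (69, [4, 8]), (72, [4, 11]), (74, [8, 10]), (76, [5, 6, 10]), (78, [6, 8]), (83, [5, 8]), (84, [0, 5]), (85, [3, 4, 11]), (86, [3, 9]), (88, [0, 3]), (90, [6, 7]), (92, [5, 7]), (94, [8]), (96, [0, 10]), (98, [9, 11]), (99, [5, 6]), (101, [5, 9]), (104, [8, 11]), (106, [4, 10]), (108, [6, 9]), (110, [7,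 9]), (113, [5, 7, 11]), (114, [7, 8]), (115, [9]), (116, [2, 3]), (120, [0]), (122, [2, 6]), (124, [7, 8, 10]), (126, [8, 10, 11]), (128, [3, 4]), (129, [9, 10]), (131, [3, 8]), (134, [4])]),
    (1, [(1, []), (3, [1, 3, 5, 11]), (9, [3, 4, 7, 10]), (11, [0, 5, 9, 11]), (23, [1, 4, 6, 8]), (27, [1, 2, 4, 6, 7, 9]), (39, [5, 6, 7, 8, 11]), (43, [2, 5, 6, 9, 11]), (71, [3, 5, 7, 9, 11]), (77, [1, 7, 11]), (89, [4, 6, 7, 8, 11]), (91, [0, 4, 10]), (105, [2, 4, 6, 9]), (107, [0, 3, 5, 6, 10, 11]), (119, [1, 2, 8, 9]), (121, [4, 5, 10, 11])]),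
    (3, [(3, []), (11, [0, 1, 3, 4, 6, 8, 9]), (77, [0, 1, 2, 6, 11]), (107, [2, 3, 4, 8])])]

theorem checks : certChecks 270 tab cert sw gw orbits = true := by decide +kernel

theorem lin_ok : cert.linOK = true :=
  CfsgLib.Spor.SchurCert.Packed.linOK_of_linP cert (by decide +kernel)

end CfsgLib.Lie.MultExc.OEightTwo.P2
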