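import Cfsg.Agent.Lib.Lie.MultExc.OEightTwo.Table

/-!
The certificate at the prime 3: a polycyclic sequence of a Sylow subgroup and conjugations.
-/

set_option autoImplicit false
set_option maxRecDepth 100000
set_option maxHeartbeats 0

namespace CfsgLib.Lie.MultExc.OEightTwo.P3

open CfsgLib.Spor.SchurCert

/-- The Sylow elements. -/
def sw : List (List ℕ) := [
    [170, 211, 331, 344, 377, 362],
    [144, 243, 331, 368, 350, 362],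
    [56, 187, 312, 332, 370, 376, 362],
    [20, 208, 266, 299, 344, 350],
    [162, 230, 264, 354, 367, 350, 362]]

/-- The conjugating elements. -/
def gw : List (List ℕ) := [
    [105, 211, 275, 291, 368, 350],
    [165, 199, 314, 354, 368],
    [26, 190, 324, 355, 367, 350, 362],
    [35, 259, 314, 332, 370, 350]]

/-- The certificate. -/
def cert : CfsgLib.Spor.SchurCert.Cert where
  p := 3
  m := 5
  N := 3
  rules := [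
    ([0, 0, 0], [3, 4, 4]),
    ([1, 1, 1], [3, 4, 4]),
    ([2, 2, 2], []),
    ([3, 3, 3], []),
    ([4, 4, 4], []),
    ([1, 0], [0, 1, 2, 3, 3, 4]),
    ([2, 0], [0, 2, 3, 3, 4]),
    ([2, 1], [1, 2, 3, 4, 4]),
    ([3, 0], [0, 3]),
    ([3, 1], [1, 3]),
    ([3, 2], [2, 3]),
    ([4, 0], [0, 4]),
    ([4, 1], [1, 4]),
    ([4, 2], [2, 4]),
    ([4, 3], [3, 4])]
  maps := [
    [([0, 1, 4], [0, 1, 2, 2, 4]), ([2, 4], [0, 0, 1, 1, 2, 2, 4])],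
    [([0, 1], [0, 1]), ([2], [0, 0, 1, 1, 2, 2, 3, 3, 4]), ([3], [0, 1, 2, 2]), ([4], [0, 1, 2, 4, 4])],
    [([0, 1, 1], [0, 1, 1, 3, 4]), ([3, 4], [3, 3, 4, 4])],
    [([0, 1, 1], [0, 1, 1, 3, 4]), ([2], [0, 1, 1, 2, 2, 3, 3, 4, 4]), ([3], [3, 3]), ([4], [4, 4])]]
  overlaps := [
    ([0, 0, 0, 0], [(0, 0), (11, 2), (11, 1), (8, 0)], [(0, 1)]),
    ([1, 1, 1, 1], [(1, 0), (12, 2), (12, 1), (9, 0)], [(1, 1)]),
    ([1, 1, 1, 0], [(1, 0), (11, 2), (11, 1), (8, 0)], [(5, 2), (5, 1), (5, 0), (12, 5), (9, 4), (9, 3), (7, 2), (14, 6), (14, 5), (14, 7), (14, 6), (3, 4), (4, 4), (12, 7), (9, 6), (9, 5), (7, 4), (7, 3), (1, 1), (13, 3), (13, 2), (10, 1), (14, 4), (14, 3), (4, 4), (13, 4), (10, 3), (10, 2), (14, 5), (3, 3), (4, 3), (13, 5), (10, 4), (10, 3), (2, 1), (14, 3), (3, 1), (14, 1)]),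
    ([1, 0, 0, 0], [(0, 1)], [(5, 0), (11, 5), (8, 4), (8, 3), (6, 2), (5, 1), (13, 6), (10, 5), (10, 4), (14, 7), (3, 5), (14, 5), (14, 7), (14, 6), (14, 8), (14, 7), (3, 5), (4, 5), (6, 4), (6, 3), (5, 2), (0, 0), (12, 2), (12, 1), (9, 0), (13, 3), (13, 2), (10, 1), (14, 4), (14, 3), (14, 5), (14, 4), (3, 2), (4, 2), (13, 5), (10, 4), (10, 3), (2, 1), (14, 3), (3, 1), (14, 1)]),
    ([2, 0, 0, 0], [(0, 1)], [(6, 0), (11, 4), (8, 3), (8, 2), (6, 1), (14, 5), (3, 3), (14, 3), (11, 5), (11, 4), (8, 3), (6, 2), (0, 0), (13, 2), (13, 1), (10, 0), (14, 3), (14, 2), (14, 4), (14, 3), (3, 1), (4, 1)]),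
    ([3, 0, 0, 0], [(0, 1)], [(8, 0), (8, 1), (8, 2), (0, 0), (14, 2), (14, 1)]),
    ([3, 1, 0], [(9, 0), (8, 1), (5, 0), (14, 5), (3, 3)], [(5, 1), (8, 0), (9, 1), (10, 2), (3, 3)])]
  fuses := [
    ⟨0, [1, 0], [0, 1], [(11, 1), (6, 0), (12, 5), (12, 4), (9, 3), (9, 2), (7, 1), (14, 5), (14, 4), (14, 6), (14, 5), (3, 3), (4, 3)], [(13, 2)], [(11, 6), (6, 5), (6, 4), (5, 3), (5, 2), (0, 0), (12, 2), (12, 1), (9, 0), (13, 3), (13, 2), (10, 1), (14, 4), (14, 3), (14, 5), (14, 4), (3, 2), (4, 2), (7, 1), (13, 5), (13, 4), (10, 3), (14, 6), (14, 5), (14, 7), (14, 6), (3, 4), (4, 4), (2, 2), (13, 4), (10, 3), (10, 2), (14, 5), (3, 3), (14, 3), (4, 4), (9, 3), (7, 2), (1, 0), (13, 2), (13, 1), (10, 0), (14, 3), (14, 2), (4, 3), (14, 3), (3, 1), (13, 1), (13, 2), (2, 0)], [(11, 4), (6, 3), (6, 2), (5, 1), (13, 6), (10, 5), (10, 4), (14, 7),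 (3, 5), (14, 5), (13, 7), (13, 6), (10, 5), (2, 3), (14, 5), (14, 4), (14, 6), (14, 5), (3, 3), (4, 3), (11, 3), (5, 2), (0, 0), (12, 2), (12, 1), (9, 0), (13, 3), (13, 2), (10, 1), (14, 4), (14, 3), (14, 5), (14, 4), (3, 2), (4, 2), (12, 2), (7, 1), (4, 4), (9, 3), (7, 2), (1, 0), (13, 2), (13, 1), (10, 0), (14, 3), (14, 2), (4, 3), (14, 3), (3, 1), (13, 1), (13, 2), (2, 0)]⟩,
    ⟨0, [1, 1, 1], [], [(13, 1), (13, 3), (13, 2), (2, 0), (4, 0)], [], [(11, 6), (6, 5), (6, 4), (5, 3), (5, 2), (0, 0), (12, 2), (12, 1), (9, 0), (13, 3), (13, 2), (10, 1), (14, 4), (14, 3), (14, 5), (14, 4), (3, 2), (4, 2), (7, 1), (13, 5), (13, 4), (10, 3), (14, 6), (14, 5), (14, 7), (14, 6), (3, 4), (4, 4), (2, 2), (13, 4), (10, 3), (10, 2), (14, 5), (3, 3), (14, 3), (4, 4), (8, 3), (6, 2), (5, 1), (5, 0), (12, 5), (9, 4), (9, 3), (7, 2), (14, 6), (14, 5),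 (14, 7), (14, 6), (3, 4), (4, 4), (13, 7), (10, 6), (10, 5), (2, 3), (14, 5), (3, 3), (14, 3), (14, 5), (14, 4), (12, 6), (12, 5), (9, 4), (9, 3), (1, 1), (14, 3), (14, 2), (14, 4), (14, 3), (3, 1), (4, 1), (12, 1), (13, 2), (13, 3), (11, 5), (11, 4), (6, 3), (6, 2), (5, 1), (13, 6), (10, 5), (10, 4), (14, 7), (3, 5), (14, 5), (13, 7), (13, 6), (10, 5), (2, 3), (14, 5), (14, 4), (14, 6), (14, 5), (3, 3), (4, 3), (11, 4), (11, 3), (5, 2), (0, 0), (12, 2), (12, 1), (9, 0), (13, 3), (13, 2), (10, 1), (14, 4), (14, 3), (14, 5), (14, 4), (3, 2), (4, 2), (12, 3), (12, 2), (7, 1), (4, 4), (12, 4), (9, 3), (7, 2), (1, 0), (13, 2), (13, 1), (10, 0), (14, 3), (14, 2), (4, 3), (14, 3), (3, 1), (13, 2), (13, 1), (13, 3), (13, 2), (2, 0), (4, 0)], []⟩,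
    ⟨1, [2, 0], [0, 2], [(8, 0), (9, 1)], [], [(6, 3), (6, 2), (5, 1), (13, 6), (10, 5), (10, 4), (14, 7), (3, 5), (14, 5), (13, 7), (13, 6), (10, 5), (2, 3), (14, 5), (14, 4), (14, 6), (14, 5), (3, 3), (4, 3)], [(5, 1), (12, 6), (9, 5), (9, 4), (7, 3), (14, 7), (14, 6), (14, 8), (14, 7), (3, 5), (4, 5), (2, 4)]⟩,
    ⟨1, [2, 2, 2], [], [(3, 0)], [], [(6, 3), (6, 2), (5, 1), (13, 6), (10, 5), (10, 4), (14, 7), (3, 5), (14, 5), (13, 7), (13, 6), (10, 5), (2, 3), (14, 5), (14, 4), (14, 6), (14, 5), (3, 3), (4, 3), (6, 5), (6, 4), (5, 3), (5, 2), (0, 0), (12, 2), (12, 1), (9, 0), (13, 3), (13, 2), (10, 1), (14, 4), (14, 3), (14, 5), (14, 4), (3, 2), (4, 2), (7, 1), (13, 5), (13, 4), (10, 3), (14, 6), (14, 5), (14, 7), (14, 6), (3, 4), (4, 4), (2, 2), (13, 4), (10, 3), (10, 2), (14, 5), (3, 3), (14, 3), (12, 5), (12, 4), (9, 3), (7, 2), (1,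 0), (13, 2), (13, 1), (10, 0), (14, 3), (14, 2), (4, 3), (14, 3), (3, 1), (4, 1), (2, 0)], []⟩,
    ⟨2, [1, 0], [0, 1], [(11, 1), (8, 0), (12, 2), (9, 1), (12, 3), (9, 2)], [], [(11, 3), (11, 2), (8, 1), (8, 0), (12, 4), (12, 3), (9, 2), (9, 1), (12, 5), (12, 4), (9, 3), (9, 2), (14, 6), (14, 5), (3, 3), (4, 3)], [(14, 4), (14, 5), (3, 3), (4, 3)]⟩,
    ⟨3, [1, 1, 1], [], [(2, 0)], [], [(11, 8), (11, 7), (8, 6), (8, 5), (6, 4), (6, 3), (5, 2), (5, 1), (12, 6), (9, 5), (9, 4), (7, 3), (14, 7), (14, 6), (14, 8), (14, 7), (3, 5), (4, 5), (13, 8), (10, 7), (10, 6), (2, 4), (14, 6), (3, 4), (14, 4), (13, 6), (13, 5), (10, 4), (14, 7), (14, 6), (14, 8), (14, 7), (3, 5), (4, 5), (12, 8), (12, 7), (9, 6), (9, 5), (7, 4), (1, 2), (13, 4), (13, 3), (10, 2), (14, 5), (14, 4), (4, 5), (14, 5), (3, 3), (14, 3), (4, 4), (9, 3), (7, 2), (14, 6), (14,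 5), (13, 7), (13, 6), (10, 5), (10, 4), (13, 8), (13, 7), (10, 6), (10, 5), (2, 3), (14, 6), (14, 5), (3, 3), (14, 4), (14, 3), (4, 4), (11, 4), (8, 3), (5, 2), (0, 0), (12, 2), (12, 1), (9, 0), (13, 3), (13, 2), (10, 1), (14, 4), (14, 3), (14, 5), (14, 4), (3, 2), (4, 2), (12, 3), (9, 2), (7, 1), (14, 5), (14, 4), (4, 5), (9, 4), (9, 3), (7, 2), (1, 0), (13, 2), (13, 1), (10, 0), (14, 3), (14, 2), (4, 3), (14, 3), (3, 1), (14, 1), (13, 2), (10, 1), (13, 3), (10, 2), (2, 0), (14, 1), (14, 2), (3, 0), (4, 0)], []⟩]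
  adj := [
    [],
    [],
    [(0, 1), (5, 1)],
    [(0, 1)],
    []]
  base := []
  dense := [
    [0, 0, 0, 0, 0, 0, 0, 0, 1, 0, 0, 2],
    [0, 0, 0, 0, 0, 0, 0, 0, 0, 1, 0, 0, 2],
    [0, 0, 2, 0, 0, 0, 0, 0, 1, 2, 1, 2, 1, 2],
    [0, 0, 2, 2, 1, 0, 0, 0, 1, 2, 1, 2, 1, 2],
    [0, 0, 0, 1, 2, 0, 0, 0, 0, 0, 2, 0, 0, 1],
    [0, 0, 0, 0, 0, 0, 0, 0, 0, 0, 0, 0, 0, 0, 1],
    [0, 0, 0, 0, 0, 0, 0, 0, 0, 0, 2, 0, 0, 0, 1],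
    [0, 0, 0, 1, 1, 0, 1, 1, 0, 2, 0, 2, 0, 2, 1],
    [1, 1, 0, 2, 0, 0, 1, 2, 2, 2, 1, 1, 1, 2, 1],
    [0, 0, 0, 2, 0, 0, 1, 1, 1, 0, 0, 0, 1, 0, 1],
    [2, 2, 0, 1, 1, 0, 2, 1, 0, 1, 1, 0, 2, 2, 2],
    [0, 0, 0, 0, 0, 0, 0, 0, 2, 1, 0, 2, 1],
    [2, 1, 1, 1, 0, 0, 1, 1, 0, 0, 0, 0, 0, 0, 1]]
  tgt := [
    ([], []),
    ([], [(0, 2), (1, 2), (2, 2), (3, 2), (4, 1), (5, 1), (6, 2), (7, 1), (8, 1), (9, 1), (10, 1), (12, 1)]),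
    ([], [(0, 1), (1, 2), (3, 2), (4, 2)]),
    ([], [(0, 1), (2, 2), (3, 1), (4, 2), (8, 1), (10, 1)]),
    ([], [(0, 1), (2, 1), (3, 2), (4, 2), (8, 1), (10, 1)]),
    ([], []),
    ([], [(0, 1), (1, 2), (2, 2), (3, 2), (5, 1), (6, 1), (7, 2), (8, 1), (9, 2), (10, 2), (12, 1)]),
    ([], [(0, 1), (3, 2), (4, 1), (10, 2), (12, 2)]),
    ([], [(0, 2), (4, 2), (5, 2), (6, 1), (7, 2), (9, 1), (11, 2)]),
    ([], [(1, 2), (4, 2), (5, 2), (6, 1), (7, 2), (9, 1), (11, 1)]),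
    ([], [(5, 1), (6, 2)]),
    ([], [(0, 1), (4, 2), (5, 2), (6, 1), (7, 2), (9, 1), (11, 2)]),
    ([], [(1, 1), (4, 2), (5, 2), (6, 1), (7, 2), (9, 1), (11, 1)]),
    ([], [(2, 2), (3, 1), (4, 1), (5, 1), (6, 2)]),
    ([], [(5, 1)])]

/-- Orbits inside the subgroup. -/
def orbits : List (ℕ × List (ℕ × List ℕ)) := [
    (0, [(0, []), (4, [1, 3, 4]), (9, [0, 2]), (18, [0, 4, 4]), (21, [0, 3]), (23, [0]), (32, [1, 3]), (34, [4, 4]), (37, [1, 1]), (39, [0, 0]), (47, [2, 2]), (57, [3, 4]), (58, [2, 4]), (64, [1, 2]), (66, [1, 4]), (73, [0, 2, 2]), (81, [0, 2, 4]), (84, [1, 2, 2]), (86, [4]), (97, [1, 1, 2]), (102, [0, 4]), (109, [3]), (110, [3, 3]), (116, [1, 2, 4]), (118, [1]), (126, [1, 3, 3]), (131, [2])]),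
    (1, [(1, []), (12, [0, 1, 3, 3]), (27, [0, 1, 2, 2, 3, 4]), (43, [2, 2, 3, 3, 4]), (76, [2, 3, 4, 4]), (87, [0, 0, 1, 1, 2, 2, 3, 3, 4, 4]), (94, [0, 0, 1, 1, 4]), (103, [0, 0, 1, 1, 2, 3]), (123, [0, 1, 2, 4, 4])])]

theorem checks : certChecks 270 tab cert sw gw orbits = true := by decide +kernel

theorem lin_ok : cert.linOK = true := by decide +kernel

end CfsgLib.Lie.MultExc.OEightTwo.P3
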