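import Cfsg.Agent.Lib.Lie.MultExc.OEightTwo.Table

/-!
The certificate at the prime 5: a polycyclic sequence of a Sylow subgroup and conjugations.
-/

set_option autoImplicit false
set_option maxRecDepth 100000
set_option maxHeartbeats 0

namespace CfsgLib.Lie.MultExc.OEightTwo.P5

open CfsgLib.Spor.SchurCert

/-- The Sylow elements. -/
def sw : List (List ℕ) := [
    [129, 209, 264, 357, 337, 376, 362],
    [165, 205, 310, 355, 369, 377, 362]]

/-- The conjugating elements. -/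
def gw : List (List ℕ) := [
    [114, 222, 324, 332, 369, 377],
    [11, 259, 310, 332, 377, 362]]

/-- The certificate. -/
def cert : CfsgLib.Spor.SchurCert.Cert where
  p := 5
  m := 2
  N := 5
  rules := [
    ([0, 0, 0, 0, 0], []),
    ([1, 1, 1, 1, 1], []),
    ([1, 0], [0, 1])]
  maps := [
    [([0, 1, 1, 1], [0, 0, 1])],
    [([0], [0, 0, 0, 0]), ([1], [0, 0, 0, 0, 1])]]
  overlaps := []
  fuses := [
    ⟨0, [0, 0, 0, 0, 0], [], [(2, 3), (2, 2), (2, 1), (1, 2), (2, 2), (2, 6), (2, 5), (2, 4), (2, 3), (1, 4), (2, 5), (2, 4), (0, 0), (1, 0)], [], [(2, 2), (2, 3), (2, 5), (2, 4), (0, 0), (2, 1), (2, 0), (2, 3), (2, 2), (2, 1), (2, 4), (2, 3), (2, 2), (2, 6), (2, 5), (2, 4), (2, 3), (2, 7), (2, 6), (2, 5), (2, 4), (0, 0), (1, 0)], []⟩,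
    ⟨1, [0, 0, 0, 0, 0], [], [(0, 0)], [], [(0, 0), (0, 0), (0, 0), (0, 0)], []⟩,
    ⟨1, [1, 0], [0, 1], [(2, 0)], [], [(2, 4), (0, 0), (2, 0), (2, 1), (2, 2)], [(0, 0)]⟩]
  adj := [
    [],
    []]
  base := []
  dense := [
    [4, 2],
    [2],
    [0, 0, 2]]
  tgt := [
    ([], [(1, 3)]),
    ([], [(0, 3), (1, 4)]),
    ([], [(2, 3)])]

/-- Orbits inside the subgroup. -/
def orbits : List (ℕ × List (ℕ × List ℕ)) := [
    (0, [(0, []), (9, [0, 0, 1]), (15, [0, 1, 1]), (25, [0, 1, 1, 1, 1]), (37, [0, 1, 1, 1]), (43, [1, 1, 1]), (46, [0, 0, 1, 1, 1]), (53, [0, 0, 1, 1]), (60, [1, 1, 1, 1]), (65, [0, 0, 0, 0]), (66, [0]), (69, [0, 0, 0, 1]), (70, [0, 1]), (82, [0, 0, 0, 1, 1, 1]), (87, [0, 0, 0, 0, 1]), (92, [0, 0]), (97, [0, 0, 0, 0, 1, 1, 1, 1]), (98, [0, 0, 1, 1, 1, 1]), (100, [0, 0, 0, 0, 1, 1]), (106, [0, 0, 0, 1, 1, 1, 1]), (108, [1, 1]), (109, [0, 0, 0, 1, 1]), (116, [0, 0, 0, 0, 1, 1, 1]),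 (121, [0, 0, 0]), (126, [1])])]

theorem checks : certChecks 270 tab cert sw gw orbits = true := by decide +kernel

theorem lin_ok : cert.linOK = true := by decide +kernel

end CfsgLib.Lie.MultExc.OEightTwo.P5
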