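import Cfsg.Agent.Lib.Lie.MultExc.OEightTwo.Group
import Cfsg.Agent.Lib.Lie.MultExc.OEightTwo.CoverData
import Cfsg.Agent.Lib.Lie.MultExc.OEightTwo.P2
import Cfsg.Agent.Lib.Lie.MultExc.OEightTwo.P3
import Cfsg.Agent.Lib.Lie.MultExc.OEightTwo.P5

/-!
The Schur multiplier of the simple orthogonal group of plus type in dimension eight over two elements is a four-group.
-/

set_option autoImplicit false
set_option maxRecDepth 100000

namespace CfsgLib.Lie.MultExc.OEightTwo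

open CfsgLib.Spor.SchurCert

theorem cert_facts : (P2.cert.p = 2 ∧ P2.cert.N = 2 ^ 3 ∧ P2.cert.bound = 4 ∧ P2.cert.m = 12) ∧
    (P3.cert.p = 3 ∧ P3.cert.N = 3 ^ 1 ∧ P3.cert.bound = 1 ∧ P3.cert.m = 5) ∧
    (P5.cert.p = 5 ∧ P5.cert.N = 5 ^ 1 ∧ P5.cert.bound = 1 ∧ P5.cert.m = 2) ∧
    (tab.trans.map List.length).prod = 174182400 := by
  decide +kernel

theorem ker_dvd {H : Subgroup (Equiv.Perm (Fin 270))} (M : Model 270 tab H) {Γ : Type*} [Group Γ] [Finite Γ]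
    (τ : Γ →* ↥H) (hτ : Cfsg.IsStemExtension τ) : Nat.card τ.ker ∣ 4 := by
  obtain ⟨⟨hp, hN, hbd, hm⟩, ⟨hp3, hN3, hbd3, hm3⟩, ⟨hp5, hN5, hbd5, hm5⟩, hord⟩ := cert_facts
  refine card_dvd_of_parts τ.ker (by norm_num) fun ℓ hℓ P hP hPp => ?_
  by_cases h2 : ℓ = 2
  · subst h2
    have h := part_le M hτ P2.cert (by rw [hp]; norm_num) (e := 3) (by rw [hp, hN]) (by rw [hbd, hN]; norm_num)
      (r := 42525) (by rw [hp]; norm_num) (by rw [hp, hm, hord]; norm_num) P2.checks P2.lin_ok P hP (by rw [hp]; exact hPp)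
    rw [hbd] at h
    refine h.trans (le_of_eq ?_)
    rw [show (4 : ℕ) = 2 ^ 2 from rfl, Nat.Prime.factorization_pow hℓ, Finsupp.single_eq_same]
  refine le_trans ?_ (Nat.one_le_pow _ _ hℓ.pos)
  by_cases h3 : ℓ = 3
  · subst h3
    have h := part_le M hτ P3.cert (by rw [hp3]; norm_num) (e := 1) (by rw [hp3, hN3]) (by rw [hbd3, hN3]; norm_num)
      (r := 716800) (by rw [hp3]; norm_num) (by rw [hp3, hm3, hord]; norm_num) P3.checks P3.lin_ok P hP (by rw [hp3]; exact hPp)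
    rwa [hbd3] at h
  by_cases h5 : ℓ = 5
  · subst h5
    have h := part_le M hτ P5.cert (by rw [hp5]; norm_num) (e := 1) (by rw [hp5, hN5]) (by rw [hbd5, hN5]; norm_num)
      (r := 6967296) (by rw [hp5]; norm_num) (by rw [hp5, hm5, hord]; norm_num) P5.checks P5.lin_ok P hP (by rw [hp5]; exact hPp)
    rwa [hbd5] at h
  by_cases h7 : ℓ = 7
  · subst h7
    exact part_once M hτ hℓ (r := 24883200) (by rw [hord]) (by norm_num) P hP hPp
  refine part_other M hτ hℓ ?_ P hP hPp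
  rw [hord, show (174182400 : ℕ) = 2 ^ 12 * (3 ^ 5 * (5 ^ 2 * 7)) by norm_num]
  intro hd
  rcases hℓ.dvd_mul.1 hd with h | h
  · exact h2 ((Nat.prime_dvd_prime_iff_eq hℓ Nat.prime_two).1 (hℓ.dvd_of_dvd_pow h))
  rcases hℓ.dvd_mul.1 h with h | h
  · exact h3 ((Nat.prime_dvd_prime_iff_eq hℓ Nat.prime_three).1 (hℓ.dvd_of_dvd_pow h))
  rcases hℓ.dvd_mul.1 h with h | h
  · exact h5 ((Nat.prime_dvd_prime_iff_eq hℓ (by norm_num)).1 (hℓ.dvd_of_dvd_pow h))
  · exact h7 ((Nat.prime_dvd_prime_iff_eq hℓ (by norm_num)).1 h)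

/-- The kernel of the covering group. -/
def kerEquiv : Multiplicative ((i : Fin 2) → ZMod (layers i).m) ≃* Multiplicative (ZMod 2 × ZMod 2) where
  toFun f := Multiplicative.ofAdd ((f.toAdd 0 : ZMod 2), (f.toAdd 1 : ZMod 2))
  invFun q := Multiplicative.ofAdd fun i => Fin.cases (q.toAdd.1 : ZMod 2)
    (fun j => Fin.cases (q.toAdd.2 : ZMod 2) (fun k => k.elim0) j) i
  left_inv f := by
    apply Multiplicative.toAdd.injective
    funext i
    fin_cases i <;> rfl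
  right_inv q := rfl
  map_mul' f g := rfl

universe u

theorem multiplier_O8plus2 {F : Type u} [Field F] [Fintype F] (hF : Fintype.card F = 2) :
    Cfsg.HasSchurMultiplier (Cfsg.POmega F (Cfsg.quadFormPlus 4 F)) (Multiplicative (ZMod 2 × ZMod 2)) := by
  obtain ⟨H, M, ⟨e⟩⟩ := exists_orthModel hF
  have : Finite (Cfsg.POmega F (Cfsg.quadFormPlus 4 F)) := Finite.of_equiv _ e.toEquiv
  obtain ⟨σ, hσ, hH⟩ := M.gens
  obtain ⟨Γ, _, _, τ, hτ, ⟨k⟩⟩ := exists_cover gens_ok comms_ok σ hσ H hH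
  refine hasSchurMultiplier_of_cover_bound e hτ ⟨k.trans kerEquiv⟩ fun Δ _ _ π hπ => ?_
  have h4 : Nat.card (Multiplicative (ZMod 2 × ZMod 2)) = 4 := by
    rw [Nat.card_congr Multiplicative.toAdd, Nat.card_prod, Nat.card_zmod]
  rw [h4]
  exact ker_dvd M π hπ

end CfsgLib.Lie.MultExc.OEightTwo
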