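import Cfsg.Agent.Lib.Lie.MultExc.OEightTwo.Table
import Cfsg.Agent.Lib.Lie.MultExc.OEightTwo.Labels
import Cfsg.Agent.Lib.Orth.Centre
import Cfsg.Agent.Lib.Classical.QuadOrder
import Cfsg.Agent.Lib.Perm.Trans.QuadStd
import Cfsg.Agent.Lib.Perm.Trans.QuadSimple

/-!
The derived orthogonal group of plus type in dimension eight over two elements is the tabulated group of the
singular points and of one family of totally singular solids.
-/

set_option autoImplicit false
set_option maxRecDepth 100000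

namespace CfsgLib.Lie.MultExc.OEightTwo

open CfsgLib.Spor.PermCert Matrix CfsgLib.Perm.Trans CfsgLib.Perm.Trans.Quad
open scoped commutatorElement

universe u

local notation "V2" => (Fin 4 ⊕ Fin 4 → ZMod 2)

/-- The vector with given bits. -/
def vec (k : ℕ) : V2 := fun i => match i with
  | .inl j => if Nat.testBit k j.1 then 1 else 0
  | .inr j => if Nat.testBit k (j.1 + 4) then 1 else 0

/-- The bits of a vector. -/
def code (x : V2) : ℕ :=
  (x (.inl 0)).val + 2 * (x (.inl 1)).val + 4 * (x (.inl 2)).val + 8 * (x (.inl 3)).val +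
    16 * (x (.inr 0)).val + 32 * (x (.inr 1)).val + 64 * (x (.inr 2)).val + 128 * (x (.inr 3)).val

/-- The form on vectors. -/
def qv (x : V2) : ZMod 2 := ∑ i : Fin 4, x (.inl i) * x (.inr i)

/-- The form on codes. -/
def nQ (a : ℕ) : Bool :=
  xor (xor (Nat.testBit a 0 && Nat.testBit a 4) (Nat.testBit a 1 && Nat.testBit a 5))
    (xor (Nat.testBit a 2 && Nat.testBit a 6) (Nat.testBit a 3 && Nat.testBit a 7))

/-- A reflection on codes. -/
def nstep (a x : ℕ) : ℕ := if xor (nQ (a ^^^ x)) (xor (nQ a) (nQ x)) then x ^^^ a else x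

/-- A commutator of two reflections on codes. -/
def cstep (p : ℕ × ℕ) (x : ℕ) : ℕ := nstep p.1 (nstep p.2 (nstep p.1 (nstep p.2 x)))

/-- A word on codes. -/
def cword (w : List (ℕ × ℕ)) (x : ℕ) : ℕ := w.foldr cstep x

/-- A set of codes as a number. -/
def mask : List ℕ → ℕ
  | [] => 0
  | k :: l => 2 ^ k ||| mask l

/-- The codes of an object. -/
def lab (i : ℕ) : List ℕ := labs.getD i []

theorem testBit_mask : ∀ (l : List ℕ) (k : ℕ), Nat.testBit (mask l) k = true ↔ k ∈ l
  | [], k => by simp [mask]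
  | a :: l, k => by
    simp only [mask, Nat.testBit_or, Nat.testBit_two_pow, Bool.or_eq_true, decide_eq_true_eq,
      testBit_mask l k, List.mem_cons]
    exact or_congr_left eq_comm

theorem code_spec : ∀ x : V2, code x < 256 ∧ ∀ i, vec (code x) i = x i := by decide +kernel

theorem code_vec : ∀ k : Fin 256, code (vec k.1) = k.1 := by decide +kernel

theorem axes_ok : ∀ a ∈ axesList, a < 256 ∧ qv (vec a) = 1 ∧ ∀ x : Fin 256, nstep a x.1 < 256 ∧
    nstep a (nstep a x.1) = x.1 ∧ ∀ q, vec (nstep a x.1) q =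
      vec x.1 q - (qv (vec x.1 + vec a) - qv (vec x.1) - qv (vec a)) * vec a q := by
  decide +kernel

theorem words_axes : ∀ w ∈ genWords, ∀ p ∈ w, p.1 ∈ axesList ∧ p.2 ∈ axesList := by decide +kernel

theorem labs_ok : (∀ i : Fin 270, ∀ k ∈ lab i.1, k < 256) ∧ (labs.map mask).Nodup ∧ labs.length = 270 := by
  decide +kernel

theorem images_ok : ∀ s : Fin 2, ∀ i : Fin 270, look tab.w tab.R s.1 i.1 < 270 ∧
    mask ((lab i.1).map (cword (genWords.getD s.1 []))) = mask (lab (look tab.w tab.R s.1 i.1)) := by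
  decide +kernel

theorem moved : look tab.w tab.R 0 0 ≠ 0 ∨ look tab.w tab.R 0 1 ≠ 1 ∨ look tab.w tab.R 1 0 ≠ 0 := by
  decide +kernel

theorem lab_inj {i j : Fin 270} (h : mask (lab i.1) = mask (lab j.1)) : i = j := by
  obtain ⟨-, hnd, hlen⟩ := labs_ok
  have hm : ∀ k : Fin 270, mask (lab k.1) = (labs.map mask)[k.1]'(by rw [List.length_map, hlen]; exact k.2) := fun k => by
    rw [List.getElem_map, lab, List.getD_eq_getElem _ _ (by rw [hlen]; exact k.2)]
  rw [hm, hm] at h
  exact Fin.ext ((hnd.getElem_inj_iff).1 h)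

variable {F : Type u} [Field F] [Fintype F] (hF : Fintype.card F = 2)

include hF

theorem exists_orthModel : ∃ H : Subgroup (Equiv.Perm (Fin 270)), Model 270 tab H ∧
    Nonempty (↥H ≃* Cfsg.POmega F (Cfsg.quadFormPlus 4 F)) := by
  classical
  let ι : ZMod 2 ≃+* F := FiniteField.ringEquivOfCardEq ((ZMod.card 2).trans hF.symm)
  let W := Fin 4 ⊕ Fin 4
  let Qf : (W → F) → F := Cfsg.quadFormPlus 4 F
  have h2 : (2 : F) = 0 := CfsgLib.Orth.two_eq_zero_of_even (by rw [hF]; exact even_two)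
  have hn : 5 ≤ Fintype.card W := by simp [W]
  have hQ : Cfsg.Geo.IsNondegenerateQuadraticForm Qf := quadFormPlus_nd
  haveI hsimp : IsSimpleGroup (Cfsg.POmega F Qf) := pomega_isSimple hQ hn
  have hz1 : Nat.card (Subgroup.center (Cfsg.Omega F Qf)) = 1 := CfsgLib.Orth.card_center_omega_two hQ hn h2
  have hbot : Subgroup.center (Cfsg.Omega F Qf) = ⊥ := Subgroup.card_eq_one.1 hz1
  let proj : Cfsg.Omega F Qf →* Cfsg.POmega F Qf := QuotientGroup.mk' _
  have hproj : Function.Bijective proj := ⟨by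
    rw [← MonoidHom.ker_eq_bot_iff, QuotientGroup.ker_mk', hbot], QuotientGroup.mk'_surjective _⟩
  let e' : Cfsg.Omega F Qf ≃* Cfsg.POmega F Qf := MulEquiv.ofBijective proj hproj
  haveI : Nontrivial (Cfsg.Omega F Qf) := e'.toEquiv.nontrivial
  haveI : IsSimpleGroup (Cfsg.Omega F Qf) :=
    IsSimpleGroup.isSimpleGroup_of_surjective e'.symm.toMonoidHom e'.symm.surjective
  have hcard : Nat.card (Cfsg.Omega F Qf) = 174182400 := by
    have h := CfsgLib.Orth.card_pomega_mul hQ (by omega) (Or.inr (by simp [W]))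
    rw [← Nat.card_congr e'.toEquiv, hz1, CfsgLib.Orth.card_sqClass_two h2,
      show Nat.card (Cfsg.isometryGroup F Qf) = _ from CfsgLib.Classical.card_iso_plus (F := F) 3, hF] at h
    norm_num [Finset.prod_range_succ] at h ⊢
    linarith
  let vv : ℕ → W → F := fun k q => ι (vec k q)
  have hvinj : ∀ a < 256, ∀ b < 256, vv a = vv b → a = b := fun a ha b hb h => by
    have h' : vec a = vec b := funext fun q => ι.injective (congrFun h q)
    have := code_vec ⟨a, ha⟩
    rw [show code (vec a) = code (vec b) by rw [h']] at this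
    exact this.symm.trans (code_vec ⟨b, hb⟩)
  have hq : ∀ v : V2, Qf (fun q => ι (v q)) = ι (qv v) := fun v => by
    simp only [Qf, Cfsg.quadFormPlus, qv, map_sum, map_mul]
  have hrefl : ∀ a ∈ axesList, ∃ r : Cfsg.isometryGroup F Qf, r * r = 1 ∧
      ∀ x < 256, (r.1 : Matrix W W F) *ᵥ vv x = vv (nstep a x) := by
    intro a ha
    obtain ⟨ha256, hqa, hx⟩ := axes_ok a ha
    have hQa : Qf (vv a) ≠ 0 := by rw [hq, hqa, map_one]; exact one_ne_zero
    obtain ⟨r, hr, hre⟩ := exists_refl hQ hQa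
    have himg : ∀ x < 256, (r : Matrix W W F) *ᵥ vv x = vv (nstep a x) := fun x hx' => by
      obtain ⟨-, -, h3⟩ := hx ⟨x, hx'⟩
      have hsum : vv x + vv a = fun q => ι ((vec x + vec a) q) := by
        funext q; simp [vv]
      rw [hre, QuadraticMap.polar, hsum, hq, hq, hq, hqa, map_one, inv_one, one_mul]
      funext q
      simp only [vv, h3 q, hqa, map_sub, map_mul, map_one, Pi.sub_apply, Pi.smul_apply, smul_eq_mul]
    refine ⟨⟨r, hr⟩, Subtype.ext (gl_ext_vec fun x => ?_), himg⟩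
    obtain ⟨h1, h1'⟩ := code_spec fun q => ι.symm (x q)
    have hxe : x = vv (code fun q => ι.symm (x q)) := funext fun q => by
      simp only [vv, h1', RingEquiv.apply_symm_apply]
    show ((r * r : GL W F) : Matrix W W F) *ᵥ x = ((1 : GL W F) : Matrix W W F) *ᵥ x
    rw [gl_mul_mulVec, Units.val_one, one_mulVec, hxe, himg _ h1, himg _ (hx ⟨_, h1⟩).1, (hx ⟨_, h1⟩).2.1]
  choose! rf hrf1 hrf2 using hrefl
  let cc : ℕ × ℕ → Cfsg.isometryGroup F Qf := fun p => rf p.1 * rf p.2 * rf p.1 * rf p.2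
  have hcc : ∀ p : ℕ × ℕ, p.1 ∈ axesList → p.2 ∈ axesList → cc p ∈ Cfsg.Omega F Qf ∧
      ∀ x < 256, cstep p x < 256 ∧ ((cc p).1 : Matrix W W F) *ᵥ vv x = vv (cstep p x) := by
    intro p ha hb
    refine ⟨?_, fun x hx => ?_⟩
    · have he : cc p = ⁅rf p.1, rf p.2⁆ := by
        rw [commutatorElement_def, inv_eq_of_mul_eq_one_right (hrf1 _ ha), inv_eq_of_mul_eq_one_right (hrf1 _ hb)]
      rw [he, Cfsg.Omega, commutator_def]
      exact Subgroup.commutator_mem_commutator (Subgroup.mem_top _) (Subgroup.mem_top _)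
    · have b1 := ((axes_ok _ hb).2.2 ⟨x, hx⟩).1
      have b2 := ((axes_ok _ ha).2.2 ⟨_, b1⟩).1
      have b3 := ((axes_ok _ hb).2.2 ⟨_, b2⟩).1
      have b4 := ((axes_ok _ ha).2.2 ⟨_, b3⟩).1
      refine ⟨b4, ?_⟩
      show ((((rf p.1).1 * (rf p.2).1 * (rf p.1).1 * (rf p.2).1 : GL W F)) : Matrix W W F) *ᵥ vv x = _
      rw [gl_mul_mulVec, gl_mul_mulVec, gl_mul_mulVec, hrf2 _ hb x hx, hrf2 _ ha _ b1, hrf2 _ hb _ b2,
        hrf2 _ ha _ b3]
      rfl
  let word : List (ℕ × ℕ) → Cfsg.isometryGroup F Qf := fun l => (l.map cc).prod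
  have hword : ∀ l : List (ℕ × ℕ), (∀ p ∈ l, p.1 ∈ axesList ∧ p.2 ∈ axesList) → word l ∈ Cfsg.Omega F Qf ∧
      ∀ x < 256, cword l x < 256 ∧ ((word l).1 : Matrix W W F) *ᵥ vv x = vv (cword l x) := by
    intro l
    induction l with
    | nil => exact fun _ => ⟨one_mem _, fun x hx => ⟨hx, by simp [word, cword]⟩⟩
    | cons p l ih =>
      intro hl
      obtain ⟨i1, i2⟩ := ih fun q hq => hl q (List.mem_cons_of_mem _ hq)
      obtain ⟨c1, c2⟩ := hcc p (hl p List.mem_cons_self).1 (hl p List.mem_cons_self).2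
      have hw : word (p :: l) = cc p * word l := by simp [word]
      refine ⟨hw ▸ mul_mem c1 i1, fun x hx => ⟨(c2 _ (i2 x hx).1).1, ?_⟩⟩
      rw [hw, Subgroup.coe_mul, gl_mul_mulVec, (i2 x hx).2, (c2 _ (i2 x hx).1).2]
      rfl
  letI : MulAction (Cfsg.Omega F Qf) (Set (W → F)) :=
    { smul := fun g S => (fun x => (g.1.1 : Matrix W W F) *ᵥ x) '' S
      one_smul := fun S => by
        show (fun x => ((1 : GL W F) : Matrix W W F) *ᵥ x) '' S = S
        simp
      mul_smul := fun g h S => by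
        show (fun x => ((g.1.1 * h.1.1 : GL W F) : Matrix W W F) *ᵥ x) '' S = _
        simp only [gl_mul_mulVec]
        exact (Set.image_image (fun x => (g.1.1 : Matrix W W F) *ᵥ x)
          (fun x => (h.1.1 : Matrix W W F) *ᵥ x) S).symm }
  let e : Fin 270 → Set (W → F) := fun i => vv '' {k | k ∈ lab i.1}
  have he : Function.Injective e := fun i j h => lab_inj (Nat.eq_of_testBit_eq fun k => by
    rw [Bool.eq_iff_iff, testBit_mask, testBit_mask]
    have key : ∀ a b : Fin 270, e a = e b → k ∈ lab a.1 → k ∈ lab b.1 := fun a b hab hk => by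
      obtain ⟨k', hk', hkk⟩ : vv k ∈ e b := hab ▸ ⟨k, hk, rfl⟩
      exact hvinj k' (labs_ok.1 b k' hk') k (labs_ok.1 a k hk) hkk ▸ hk'
    exact ⟨key i j h, key j i h.symm⟩)
  let gs : ℕ → Cfsg.Omega F Qf := fun s =>
    if h : word (genWords.getD s []) ∈ Cfsg.Omega F Qf then ⟨_, h⟩ else 1
  have hgs : ∀ s < tab.ngen, ∀ i : Fin 270, ∃ j : Fin 270, j.1 = look tab.w tab.R s i.1 ∧ gs s • e i = e j := by
    intro s hs i
    have hs2 : s < 2 := hs
    have hmem : genWords.getD s [] ∈ genWords := by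
      interval_cases s <;> simp [genWords]
    obtain ⟨hO, hx⟩ := hword _ (words_axes _ hmem)
    obtain ⟨hlt, hmask⟩ := images_ok ⟨s, hs2⟩ i
    refine ⟨⟨_, hlt⟩, rfl, ?_⟩
    have hgv : (gs s).1 = word (genWords.getD s []) := by simp only [gs, dif_pos hO]
    show (fun x => ((gs s).1.1 : Matrix W W F) *ᵥ x) '' (vv '' {k | k ∈ lab i.1}) = _
    rw [hgv, Set.image_image]
    have hset : ∀ k, k ∈ (lab i.1).map (cword (genWords.getD s [])) ↔ k ∈ lab (look tab.w tab.R s i.1) := fun k => by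
      rw [← testBit_mask, hmask, testBit_mask]
    ext y
    constructor
    · rintro ⟨k, hk, rfl⟩
      exact ⟨_, (hset _).1 (List.mem_map_of_mem hk), ((hx k (labs_ok.1 i k hk)).2).symm⟩
    · rintro ⟨k, hk, rfl⟩
      obtain ⟨k', hk', rfl⟩ := List.mem_map.1 ((hset k).2 hk)
      exact ⟨k', hk', (hx k' (labs_ok.1 i k' hk')).2⟩
  let P : Subgroup (Cfsg.Omega F Qf) :=
    { carrier := {g | ∀ i, ∃ j, g • e i = e j}
      one_mem' := fun i => ⟨i, one_smul _ _⟩
      mul_mem' := fun {a b} ha hb i => by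
        obtain ⟨j, hj⟩ := hb i
        obtain ⟨k, hk⟩ := ha j
        exact ⟨k, by rw [mul_smul, hj, hk]⟩
      inv_mem' := fun {a} ha i => by
        choose f hf using ha
        have hfi : Function.Injective f := fun x y h => he (MulAction.injective a (show a • e x = a • e y by rw [hf, hf, h]))
        obtain ⟨j, hj⟩ := (Finite.injective_iff_surjective.1 hfi) i
        exact ⟨j, inv_smul_eq_iff.2 (by rw [hf, hj])⟩ }
  have hP : P = ⊤ := by
    have hp : ∀ (g : P) i, ∃ j, g.1 • e i = e j := fun g => g.2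
    choose act hact using hp
    have act_one : ∀ i, act 1 i = i := fun i => he (by rw [← hact, Subgroup.coe_one, one_smul])
    have act_mul : ∀ g h i, act (g * h) i = act g (act h i) := fun g h i => he (by
      rw [← hact, ← hact, ← hact, Subgroup.coe_mul, mul_smul])
    let rho : P →* Equiv.Perm (Fin 270) :=
      { toFun := fun g =>
          { toFun := act g
            invFun := act g⁻¹
            left_inv := fun i => by rw [← act_mul, inv_mul_cancel, act_one]
            right_inv := fun i => by rw [← act_mul, mul_inv_cancel, act_one] }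
        map_one' := Equiv.ext act_one
        map_mul' := fun g h => Equiv.ext (act_mul g h) }
    have hgP : ∀ s < tab.ngen, gs s ∈ P := by
      intro s hs i
      obtain ⟨j, -, hj⟩ := hgs s hs i
      exact ⟨j, hj⟩
    have hok := tab_ok
    simp only [Tab.ok, Bool.and_eq_true] at hok
    obtain ⟨⟨hops, hchain⟩, hord⟩ := hok
    have hm : ∀ s < tab.ngen, ∃ g ∈ rho.range, Matches tab.w g tab.R s := fun s hs => by
      refine ⟨rho ⟨gs s, hgP s hs⟩, ⟨_, rfl⟩, fun i => ?_⟩
      obtain ⟨j, hj, he'⟩ := hgs s hs i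
      rw [← hj]
      exact congrArg Fin.val (he ((hact ⟨gs s, hgP s hs⟩ i).symm.trans he'))
    have h1 : (tab.trans.map List.length).prod ≤ Nat.card ↥rho.range :=
      le_trans (Nat.le_mul_of_pos_right _ Nat.card_pos) (card_chain (exists_of_ops hops _ hm) hchain)
    have h3 : (tab.trans.map List.length).prod = 174182400 := Nat.eq_of_beq_eq_true hord
    refine Subgroup.eq_top_of_le_card P ?_
    rw [hcard, ← h3]
    exact h1.trans (Nat.card_le_card_of_surjective _ rho.rangeRestrict_surjective)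
  obtain ⟨H, M, ⟨f⟩⟩ := exists_model tab (G := Cfsg.Omega F Qf) e he
    (fun g => (hP ▸ Subgroup.mem_top g : g ∈ P)) gs hgs
    (by
      rcases moved with h | h | h
      · exact ⟨0, by decide, ⟨0, by norm_num⟩, h⟩
      · exact ⟨0, by decide, ⟨1, by norm_num⟩, h⟩
      · exact ⟨1, by decide, ⟨0, by norm_num⟩, h⟩)
    (by rw [hcard]; exact tab_ok)
  exact ⟨H, M, ⟨f.trans e'⟩⟩

end CfsgLib.Lie.MultExc.OEightTwo
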